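import Mathlib
import Cfsg.Agent.H60.FitZ
import Cfsg.Agent.H45.FiM24
import Cfsg.Agent.H99.FiRefl
import Cfsg.Agent.H99.FiGen
import Cfsg.Agent.S0303
import Cfsg.Agent.S0280

/-!
# The centraliser of a product of four commuting transpositions in `Fi₂₄`
-/

set_option autoImplicit false
set_option maxRecDepth 1000000

namespace Cfsg.Agent.H60

open Cfsg.Agent.H41 Cfsg.Agent.H45 Cfsg.Agent.H99 Subgroup

theorem exists_u43 : ∃ (K : Type) (_ : Field K) (_ : Fintype K), Fintype.card K = 9 ∧
    Nonempty (POmega (ZMod 3) (qD 6 [1, 2, 1, 2, 1, 1]) ≃* PSU 4 K 3) ∧ Nat.card (PSU 4 K 3) = 3265920 := by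
  let := Fintype.ofFinite (GaloisField 3 2)
  have hK : Fintype.card (GaloisField 3 2) = 3 ^ 2 := by rw [← GaloisField.card 3 2 two_ne_zero, Nat.card_eq_fintype_card]
  obtain ⟨e⟩ := S0303.result (ZMod.card 3) hK 0 1 (by decide)
  have h := S0280.result hK 4 (by norm_num)
  let M : Matrix ((Fin 2 ⊕ Fin 2) ⊕ Fin 2) (Fin 6) (ZMod 3) := Matrix.of (Sum.elim (Sum.elim
    ![![1, 2, 0, 0, 0, 0], ![0, 0, 1, 2, 0, 0]] ![![1, 1, 0, 0, 0, 0], ![0, 0, 1, 1, 0, 0]])
    ![![0, 0, 0, 0, 1, 0], ![0, 0, 0, 0, 0, 1]])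
  let M' : Matrix ((Fin 2 ⊕ Fin 2) ⊕ Fin 2) (Fin 6) (ZMod 3) := Matrix.of (Sum.elim (Sum.elim
    ![![2, 1, 0, 0, 0, 0], ![0, 0, 2, 1, 0, 0]] ![![2, 2, 0, 0, 0, 0], ![0, 0, 2, 2, 0, 0]])
    ![![0, 0, 0, 0, 1, 0], ![0, 0, 0, 0, 0, 1]])
  refine ⟨_, _, _, hK, ⟨(H28.pomegaEquiv (H28.isometryConj (Matrix.toLin'OfInv (M := M'.transpose) (M' := M)
    (by decide) (by decide)) _ _ 1 one_ne_zero fun v => ?_)).trans e⟩, ?_⟩
  · simp [quadFormMinus, qD_apply, vL, M, Matrix.mulVec, dotProduct, Fin.sum_univ_succ]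
    have h3 : (3 : ZMod 3) = 0 := rfl
    linear_combination (v 0 * v 1 + v 2 * v 3) * h3
  · norm_num [Finset.prod_range_succ] at h
    omega

theorem commutator_gen_ne_bot {X : Type*} {F : FS X} {S : Set X} {p q : X} (hp : p ∈ S) (hq : q ∈ S)
    (h : q ∉ F.cl p) : commutator (F.gen S ⧸ center (F.gen S)) ≠ ⊥ := fun hb => by
  have h1 := hb.le (commutator_mem_commutator (mem_top (QuotientGroup.mk' _ (⟨_, FS.T_mem_gen hp⟩ : F.gen S)))
    (mem_top (QuotientGroup.mk' _ ⟨_, FS.T_mem_gen hq⟩)))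
  rw [← map_commutatorElement, mem_bot, QuotientGroup.mk'_apply, QuotientGroup.eq_one_iff] at h1
  have h2 := (FS.commute_T_iff (FS.gen_le_aut S (SetLike.coe_mem _))).mp
    (congrArg Subtype.val (mem_center_iff.mp h1 ⟨_, FS.T_mem_gen hp⟩)).symm
  change F.T p (F.T q ((F.T p)⁻¹ ((F.T q)⁻¹ p))) = p at h2
  rw [FS.T_inv, FS.T_inv, ← FS.T_swap h, FS.T_T, F.self, FS.T_swap h] at h2
  exact h (FS.cl_comm.mp h2)

/-- Generators of `K`, the clique, its product and a symplectic basis. -/
def zG : List (List ℕ) := [[3], [7], [13], [8], [11], [10, 9, 13, 8, 3, 13, 4, 3, 2, 3, 4, 13, 3, 8, 13, 9, 10], [12], [6], [0], [11, 12, 6, 0], [2, 4], [13, 3, 7, 8, 13, 4, 3, 2, 3, 4, 13, 8, 7, 3, 13, 8, 13, 7, 3, 7, 13, 8], [0, 6], [10, 9, 13, 7, 8, 3, 13, 4, 3, 2, 3, 4, 13, 3, 8, 7, 13, 9, 10, 10, 9, 13, 3, 4, 2, 3, 13, 8, 7, 8, 13, 3, 2, 4, 3, 13, 9, 10], [0, 11], [13, 12, 10, 9, 8, 13, 7, 8, 3, 13, 4, 3, 2, 3, 4, 13, 3, 8, 7, 13, 8, 9, 10, 12, 13, 13, 11, 10, 9, 8, 13, 7, 8, 3, 13, 4, 3, 2, 3,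 4, 13, 3, 8, 7, 13, 8, 9, 10, 11, 13], [4, 3, 2, 3, 4, 3], [13, 8, 7, 3, 4, 2, 3, 13, 8, 7, 8, 13, 3, 2, 4, 3, 7, 8], [3, 7, 4, 3, 2, 3, 4, 7, 3, 7], [8, 13, 3, 2, 3, 13, 8, 8, 13, 4, 3, 4, 13, 8], [8, 7, 3, 2, 3, 7, 8, 8, 7, 4, 3, 4, 7, 8], [1, 2, 3, 13, 4, 3, 2, 1, 0, 1, 2, 3, 4, 13, 3, 2, 1, 10, 13, 3, 4, 2, 3, 13, 10, 0, 10, 13, 3, 2, 4, 3, 13, 10]]

/-- A central element of order three of `K`. -/
def zX : List ℕ := [3, 2, 0, 1, 5, 0, 4, 1, 3, 2, 0, 1, 5, 0, 4, 1, 3, 2, 0, 1, 5, 0, 4, 1, 3, 2, 0, 1, 5, 0, 4, 1, 3, 2, 0, 1, 5, 0, 4, 1, 3, 2, 0, 1, 5, 0, 4, 1, 3, 2, 0, 1, 5, 0, 4, 1, 3, 2, 0, 1, 5, 0, 4, 1, 3, 2, 0, 1, 5, 0, 4, 1, 3, 2, 0, 1, 5, 0, 4, 1]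

/-- The action of `K` on the basis. -/
def zN : List (List (List ℕ)) := [[[9], [10, 16], [11], [12], [13, 16], [14], [15], [16], [11, 12, 17, 19], [16, 18], [19], [20], [21]], [[9], [10], [11, 18], [12], [13, 18], [14], [15], [16, 18], [17], [18], [10, 12, 17, 19], [20], [21]], [[9], [10], [11, 17], [12], [13, 17], [14], [15, 17], [10, 12, 14, 16, 21, 9], [17], [18], [19], [17, 20], [21]], [[9], [10], [11, 12, 14, 16, 19, 21, 9], [12], [10, 13, 16, 18, 20], [14], [10, 15, 16, 18, 20], [16], [10, 12, 14, 17, 18, 19, 20, 21], [10, 16, 20], [12, 14, 16, 21, 9], [10, 16, 18], [12, 14, 16, 19, 9]], [[9], [10], [11], [12], [13, 14], [14], [12, 15, 9], [16], [17], [18], [19], [20], [21]], [[9], [10], [11, 13, 18], [10, 14, 15, 16, 18, 19, 21], [18], [13, 14, 18], [13, 15, 18], [16], [13, 17, 18], [13], [10, 12, 13, 14, 15, 16, 21], [13, 18, 20], [21]]]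

/-- Conjugating words. -/
def zU : List (List ℕ) := [[0, 2, 1, 5, 0, 2, 1, 5], [3, 1, 5, 4, 0, 2, 5], [], [4, 1, 5], [], [2, 3, 1, 5], [1, 5, 4, 0, 1, 5], [5, 4, 2, 5], [5, 4, 1, 5], [3, 1, 5, 0, 2, 1, 5], [3, 2, 5, 0, 2, 1, 5], [3, 2, 1, 5, 3, 2, 1, 5]]

/-- Pairs of points of the clique. -/
def zP : List (List ℕ) := [[7, 8], [6, 4], [8, 7], [4, 8], [8, 4], [6, 4], [8, 4], [4, 8], [8, 4], [7, 8], [7, 8], [4, 8]]

/-- The points of `K`. -/
def zS : List ℕ := [15, 16, 18, 19, 20, 28, 30, 37, 38, 39, 40, 51, 52, 54, 66, 71, 72, 75, 76, 84, 88, 91, 92, 93, 100, 106, 109, 110, 111, 120, 124, 131, 132, 133, 134, 135, 136, 137, 138, 148, 153, 168, 170, 175, 176, 31671, 33254, 33255, 40972, 47798, 48080, 50000, 50001, 56943, 75736, 78438, 78707, 78708, 78709, 95043, 107192, 108143, 109983, 114419, 114555, 115145, 115146, 116547, 124073, 131601, 133253, 136353, 137312, 140101, 143896, 149828, 150082, 152552, 154619, 154620, 164393, 165914, 166598, 166878, 167243, 168212, 170886, 170887,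 178604, 185430, 185712, 187632, 187633, 194575, 213368, 216070, 216339, 216340, 216341, 232675, 244824, 245775, 247615, 252051, 252187, 252777, 252778, 254179, 261705, 269233, 270885, 273985, 274944, 277733, 281528, 287460, 287714, 290184, 292251, 292252, 302025, 303546, 304230, 304510, 304875, 305844]

/-- The labels. -/
def zT : ℕ := nat_lit 0x5d0000000000000840000000000000000000000000000850000000000000280000000000000002881a4a1ba0000021860432000000000000000000001400000000000004700000000000007800000000000000000000000000001c00000000000001200000000000000046d88253e80000029b86081e60000000000000000002600000000000000000000000000000034178127d8000000000000000000000000000000000000de6f2f80f000000000000000000aa00000000000005b00000000000000000000000000001300000000000003600000000000000000000000000007c000000000000048000000000000000081e729b87000003d91b1bf7b000000000000000000250000000000000270000000000000a800000000000000000000000000008300000000000009900000000000000049bc928229000001c7433e0e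30000000000000000000f00000000000000000000000000000025bfc4759c000000000000000000000000000000000001e4a93fe49000000000000000000880000000000000af0000000000000000c3512dcf1000001337334d13000000000000000000863bc581a2b80000024a42463e20000000000000000004c0000000000000000000000000000001c1c93db690000044bb823218000001326634c060000000000000000004b34d1413374000002dcf00c350000000000000000000870000000000000000000000000000001c1ca3db6a0000000000000000006e00000000000009400000000000000000000000000004200000000000006f0000000000000003d8931bef3000001734338ce3000000000000000000100000000000000990000000000000830000000000000000000000000000a80000000000000270000000000000003e0e31c743000002822949bc90000000000000000000f00000000000004800000000000007c0000000000000000000000000000360000000000000130000000000000001bf7b3d91b0000029b87081e7000000000000000000250000000000000000000000000000003fe491e4a9000000000000000000000000000000000004759c25bfc000000000000000000af000000000000088000000000000000000000000000012000000000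00001c000000000000000000000000000078000000000000047000000000000000081e629b8600000253e846d880000000000000000002600000000000002800000000000008500000000000000000000000000008400000000000005d0000000000000004320021860000004a1ba2881a000000000000000000140000000000000000000000000000002f80f0de6f00000000000000000000000000000000000127d8341780000000000000000005b0000000000000aa0000000000000000c3502dcf0000001337434d140000000000000000008734c0613266000002321844bb80000000000000000004b0000000000000000000000000000003db6a1c1ca00000463e224a42000001a2b83bc580000000000000000004c34d1313373000002dcf10c351000000000000000000860000000000000000000000000000003db691c1c90000000000000000006f00000000000004200000000000000000000000000009400000000000006e00000000000000038ce317343000001bef33d893000000000000000000104aab429114000003c00f1a66f0000000000000000005828d4b4a6eb00000214a142e410000000000000000006d00000000000000000000000000000043ce522345000000a00c2b9ac000001337534d150000000000000000008a28ac64a46600000462e42494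40000000000000000005400000000000000000000000000000041bb1202110000000000000000003400000000000003300000000000000000000000000006a00000000000005c0000000000000003c73f1ad9f000000bbd02d5700000000000000000006424944462e4000004a46628ac60000000000000000005434d1513375000002b9ac0a00c0000000000000000008a0000000000000000000000000000002021141bb10000042e41214a1000004a6eb28d4b0000000000000000006d1a66f3c00f00000291144aab4000000000000000000580000000000000000000000000000002234543ce50000000000000000005c00000000000006a0000000000000000000000000000330000000000000340000000000000002d5700bbd0000001ad9f3c73f0000000000000000006400000000000000000000000000000025bfb4759b000000000000000000000000000000000002d4560bab6000000000000000000890000000000000b00000000000000000000000000000000000000000000000bab62d456000000000000000000000000000000000004759b25bfb000000000000000000b00000000000000890000000000000004222520885000004a57e28bde0000000000000000001e28bde4a57e0000020885422250000000000000000001e00000000000000000000000000000007bb707bb700000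

/-- The generators with their labels. -/
noncomputable def zL (i : ℕ) : List ℕ × List ℕ × List ℕ := (flatM zG [i],
  nth [[13, 10, 3, 13, 11, 10], [3, 13, 10, 2, 3, 13, 0, 10], [10, 13, 11, 10], [13, 10, 8, 13, 11, 10], [], [10, 9, 13, 10, 8, 3, 7, 4, 3, 13, 0, 10]] i,
  nth [[0, 0, 0, 0, 0, 1], [0, 0, 0, 1, 1, 1], [0, 0, 0, 1, 2, 2], [0, 1, 1, 0, 1, 0], [1, 0, 0, 0, 0, 0], [1, 1, 0, 0, 1, 0]] i)

/-- A relation between words in the words. -/
noncomputable def zR (u v : List ℕ) : Bool := relP cf24 (flatM zG u) (flatM zG v)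

theorem z_lab : labOk cf24 306936 6 [1, 2, 1, 2, 1, 1] 1 zT (setL zS) 4 (zL 0) ([1, 2, 3, 4, 5].map zL) = true := by
  decide +kernel

theorem z_orb : sub (fixB cf24.ap 306936 cf24.K [11, 12, 6, 0]) (orb cf24.ap (([0, 1, 2, 3, 4, 5].map zL).map Prod.fst) 3
    (setL [31671, 3510, 693, 180])) = true := by decide +kernel

theorem z_K : ∀ i < 6, zR [i, i] [] = true ∧ zR (i :: zX) (zX ++ [i]) = true ∧
    ∀ j < 13, zR [i, 9 + j, i] (nth (zN.getD i []) j) = true ∧ ∀ k ∈ nth (zN.getD i []) j, 9 ≤ k ∧ k < 22 := by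
  decide +kernel

theorem z_E : ∀ j < 2 * 6, zR [10 + j, 10 + j] [] = true ∧ zR [10 + j, 9] [9, 10 + j] = true ∧
    (∀ i < j, i / 2 ≠ j / 2 → zR [10 + i, 10 + j] [10 + j, 10 + i] = true) ∧
    zR ((10 + j) :: nth zU j) (nth zU j ++ nth zP j) = true ∧ (∀ i ∈ nth zU j, i < 6) ∧
    ∃ p ∈ [4, 6, 7, 8], ∃ q ∈ [4, 6, 7, 8], nth zP j = [p, q] := by
  decide +kernel

theorem z_gen : L24.F.gen (bs 306936 (setL zS)) = closW N24.π (([0, 1, 2, 3, 4, 5].map zL).map Prod.fst) :=
  (lab_model md24 (by decide) (Or.inl rfl) z_lab).1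

variable {G : Type*} [Group G] {D : Set G} (R : Rep L24.F G D)

theorem z_equiv : Nonempty (commutator (R.V (bs 306936 (setL zS)) ⧸ center (R.V (bs 306936 (setL zS)))) ≃*
    POmega (ZMod 3) (qD 6 [1, 2, 1, 2, 1, 1])) := by
  obtain ⟨e1⟩ := (lab_model md24 (by decide) (Or.inl rfl) z_lab).2.2
  have h1 := commutator_gen_ne_bot (F := L24.F) (S := bs 306936 (setL zS)) (p := 16) (q := 20)
    (mem_setL.mpr (by decide)) (mem_setL.mpr (by decide)) fun h => by
      have h2 := md24.apply_eq (w := [3]) (p := 20) (q := 15) (by decide +kernel)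
      rw [wp_cons, wp_nil, mul_one, ← L24.TP 3 (by decide)] at h2
      exact absurd (h.symm.trans h2) (by decide)
  have := H47.reflectionSubgroup_normal (qD 6 [1, 2, 1, 2, 1, 1]) (1 : ℕ)
  obtain ⟨e2⟩ := commutator_equiv_POmega (qD_nondegenerate (n := 6) (d := [1, 2, 1, 2, 1, 1]) (by decide))
    (H30.not_isExc_of_card (Or.inl (by decide))) (by decide) (reflectionSubgroup _ (1 : ℕ)) fun h =>
      h1 (Subgroup.map_eq_bot_iff_of_injective _ e1.injective |>.mp ((H28.map_commutator_equiv e1).trans h))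
  have h2 : (R.V (bs 306936 (setL zS))).map R.a = L24.F.gen (bs 306936 (setL zS)) := by
    rw [Rep.V, MonoidHom.map_closure, Set.image_image]
    simp only [R.aτ, FS.gen]
  exact ⟨(H28.commutatorEquiv ((H28.centerQuotEquiv (((R.V _).equivMapOfInjective R.a R.inj).trans
    (MulEquiv.subgroupCongr h2))).trans e1)).trans e2⟩

theorem exists_z4 [Finite G] {s : G →* ℤˣ} (hs : ∀ p, s (R.τ p) = -1) : ∃ Q x,
    Z4 R Amb.F20 Amb.ι20 31671 3510 693 180 s (bs 306936 (setL zS)) Q x ∧ Nat.card Q = 2 ^ 13 := by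
  obtain ⟨μ, ha⟩ : ∃ μ : ℕ → G, ∀ u, R.a (wp μ u) = wp N24.π (flatM zG u) := by
    choose y hy using fun i => R.surj (mem24 i)
    exact ⟨genM y zG, fun u => by rw [← wp_flatM, map_wp]; simp only [hy]⟩
  have hr : ∀ u v, zR u v = true → wp μ u = wp μ v := fun u v h => R.inj (by rw [ha, ha]; exact md24.rel h)
  have hp : ∀ u (p q : Fin 306936), pW cf24.pp (flatM zG u) p = q → R.a (wp μ u) p = q := fun u p q h => by
    rw [ha]; exact md24.apply_eq h
  have ha' : ∀ i, R.a (μ i) = wp N24.π (flatM zG [i]) := fun i => by simpa using ha [i]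
  have hτ : ∀ i j, j ∈ L24.pl → flatM zG [i] = [j] → μ i = R.τ (pn 306936 j) := fun i j hj h =>
    R.inj (by rw [ha', h, R.aτ, L24.TP j hj]; simp)
  have m4 : μ 4 = R.τ 31671 := hτ 4 11 (by decide) rfl
  have m6 : μ 6 = R.τ 3510 := hτ 6 12 (by decide) rfl
  have m7 : μ 7 = R.τ 693 := hτ 7 6 (by decide) rfl
  have m8 : μ 8 = R.τ 180 := hτ 8 0 (by decide) rfl
  have hz : pr L24.F [31671, 3510, 693, 180] = wp N24.π [11, 12, 6, 0] := pr24 4
  have m9 : μ 9 = (([31671, 3510, 693, 180] : List (Fin 306936)).map R.τ).prod :=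
    R.inj (by rw [ha', R.a_prod, hz]; rfl)
  have hm : ∀ i ∈ [4, 6, 7, 8], ∃ p ∈ ([31671, 3510, 693, 180] : List (Fin 306936)), μ i = R.τ p := by
    simp [m4, m6, m7, m8]
  have k1 : ∀ i < 6, μ i ∈ R.V (bs 306936 (setL zS)) := fun i hi => R.mem_V.mpr (by
    rw [ha', z_gen]
    exact mem_closW _ (List.mem_map_of_mem (f := Prod.fst) (List.mem_map_of_mem (f := zL) (by revert i; decide))))
  have k2 : ∀ H : Subgroup G, (∀ i < 6, μ i ∈ H) → R.V (bs 306936 (setL zS)) ≤ H := fun H h g hg => by
    rw [← mem_map_iff_mem R.inj]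
    refine closW_le.mpr (fun w hw => ?_) (z_gen.le (R.mem_V.mp hg))
    obtain ⟨_, hi, rfl⟩ := List.mem_map.mp hw
    obtain ⟨i, hi, rfl⟩ := List.mem_map.mp hi
    exact ⟨_, h i (by revert i; decide), ha' i⟩
  have hb : SB (μ 9) (fun i => μ (10 + i)) (5 + 1) :=
    ⟨fun h => absurd (hp [9] 181 437 (by decide +kernel)) (by simp [h]), by simpa using hr [9, 9] [] (by decide +kernel),
      fun i hi => by simpa using hr _ _ (z_E i hi).1, fun i hi => by simpa [commute_iff_eq] using hr _ _ (z_E i hi).2.1,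
      fun i hi => by simpa [mul_assoc] using hr _ _ ((by decide +kernel : ∀ i < 6,
        zR [10 + 2 * i, 10 + (2 * i + 1)] [10 + (2 * i + 1), 10 + 2 * i, 9] = true) i hi),
      fun j hj i hi h => by simpa [commute_iff_eq] using hr _ _ ((z_E j hj).2.2.1 i hi h)⟩
  have hQ : ∀ k, 9 ≤ k ∧ k < 22 → μ k ∈ xsG (μ 9) (fun i => μ (10 + i)) (5 + 1) := fun k hk => by
    rcases hk.1.eq_or_lt with rfl | h
    · exact SB.mem _ _ _
    · obtain ⟨i, rfl⟩ := Nat.exists_eq_add_of_le h
      exact SB.mem' _ _ (i := i) (by omega)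
  have hQ' : ∀ u v, zR u v = true → (∀ k ∈ v, 9 ≤ k ∧ k < 22) →
      wp μ u ∈ xsG (μ 9) (fun i => μ (10 + i)) (5 + 1) := fun u v h h' => hr u v h ▸ wp_mem fun k hk => hQ k (h' k hk)
  refine ⟨xsG (μ 9) (fun i => μ (10 + i)) (5 + 1), wp μ zX, ⟨tw244, hT244, uf24 (by norm_num), uf24 le_rfl, hs,
    all24.map' tw244.clq (tw244.clq.perm (by decide)) rfl (by simp), mem_setL.mpr (by decide),
    fun p h => hz ▸ md24.apply_eq ((by decide +kernel : ∀ p ∈ zS, pW cf24.pp [11, 12, 6, 0] p = p) p (mem_setL.mp h)),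
    (lab_model md24 (by decide) (Or.inl rfl) z_lab).2.1 _ (mem_setL.mpr (by decide)), fun p h => ?_,
    wp_mem fun i hi => k1 i (by revert i; decide), fun k hk => (mem_centralizer_singleton_iff.mp (k2 _ (fun i hi =>
      mem_centralizer_singleton_iff.mpr (by simpa [wp_append] using hr _ _ (z_K i hi).2.1)) hk)).symm,
    by simpa [wp_append, pow_three] using hr (zX ++ (zX ++ zX)) [] (by decide +kernel),
    hp _ _ _ (by decide +kernel), hp _ _ _ (by decide +kernel), hp _ _ _ (by decide +kernel), m9 ▸ hb.xs,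
    k2 _ fun i hi => mem_normalizer_of rfl fun x hx => ?_, ?_, (closure_le _).mpr ?_,
    ⟨_, hQ 15 (by decide), by simpa using hp [15] 31671 3510 (by decide +kernel)⟩⟩, hb.card⟩
  · obtain ⟨k, hk, q, hq, e⟩ := md24.act.exists_of_mem_orb (fun w hw => z_gen.ge (mem_closW _ hw))
      (bs_subset_of_sub z_orb _ ((md24.mem_fixB _ p).mpr (hz ▸ h)))
    exact ⟨k, hk, q, by simpa [Fin.ext_iff] using mem_setL.mp hq, e⟩
  · obtain ⟨j, hj, rfl⟩ : ∃ j < 13, x = μ (9 + j) := by
      rcases hx with rfl | ⟨j, hj, rfl⟩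
      exacts [⟨0, by decide, rfl⟩, ⟨1 + j, by have : j < 12 := hj; omega, by rw [← add_assoc]⟩]
    rw [inv_eq_of_mul_eq_one_right (show μ i * μ i = 1 by simpa using hr _ _ (z_K i hi).1)]
    simpa [mul_assoc, xsG] using hQ' _ _ ((z_K i hi).2.2 j hj).1 ((z_K i hi).2.2 j hj).2
  · simp only [List.forall_mem_cons, ← m4, ← m6, ← m7, ← m8]
    exact ⟨by simpa using hQ' [4, 4] [] (by decide +kernel) (by simp),
      by simpa using hQ' [4, 6] [12, 9] (by decide +kernel) (by simp),
      by simpa using hQ' [4, 7] [12, 14] (by decide +kernel) (by simp),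
      by simpa using hQ' [4, 8] [14] (by decide +kernel) (by simp), by simp⟩
  · rintro _ (rfl | ⟨j, hj, rfl⟩)
    · rw [m9, List.map_cons, List.map_cons, List.prod_cons, List.prod_cons, ← mul_assoc]
      exact mul_mem (subset_closure ⟨1, one_mem _, 31671, by simp, 3510, by simp, by simp⟩)
        (subset_closure ⟨1, one_mem _, 693, by simp, 180, by simp, by simp⟩)
    · obtain ⟨-, -, -, h1, h2, p, hp, q, hq, h3⟩ := z_E j hj
      obtain ⟨p', hp', e⟩ := hm p hp
      obtain ⟨q', hq', e'⟩ := hm q hq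
      refine subset_closure ⟨_, wp_mem fun i hi => k1 i (h2 i hi), p', hp', q', hq', eq_mul_inv_of_mul_eq ?_⟩
      simpa [wp_append, h3, e, e'] using hr _ _ h1

end Cfsg.Agent.H60
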