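import Mathlib
import Cfsg.Agent.H60.FM0

/-!
# Three double centralisers in `Fi₂₄`
-/

set_option autoImplicit false
set_option maxRecDepth 1000000

namespace Cfsg.Agent.H60

open Cfsg.Agent.H41 Cfsg.Agent.H45

/-- Elements of a centraliser. -/
def eA : List (List ℕ) := [[7, 3, 7, 13, 8, 7, 3, 13, 8, 7, 4, 3, 2, 3, 4, 7, 8, 13, 3, 7, 8, 13, 11, 10, 11, 10, 0, 10,
  9, 6, 9, 12, 9, 12], [1, 0, 1, 2, 1, 2, 11, 10, 11, 10, 0, 10, 5, 4, 5, 6, 5, 6, 9, 6, 9, 12, 9, 12, 7, 3, 7, 13, 8,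
  7, 3, 13, 8, 7, 4, 3, 2, 3, 4, 7, 8, 13, 3, 7, 8, 13, 5, 4, 5, 6, 5, 6, 1, 0, 1, 2, 1, 2]]

/-- The elements of a double centraliser. -/
def zA : List (List ℕ) := [[], [11, 12, 6, 0], [11, 12, 2, 4], [11, 12, 2, 4, 11, 12, 6, 0], [11, 6, 2, 3, 13, 8, 2, 3,
  13, 7, 8, 3, 7, 4, 3, 2, 3, 4, 7, 3, 8, 7, 13, 3, 2, 8, 13, 3], [11, 6, 2, 3, 13, 8, 2, 3, 13, 7, 8, 3, 7, 4, 3, 2, 3,
  4, 7, 3, 8, 7, 13, 3, 2, 8, 13, 3, 11, 12, 6, 0], [11, 6, 2, 3, 13, 8, 2, 3, 13, 7, 8, 3, 7, 4, 3, 2, 3, 4, 7, 3, 8,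
  7, 13, 3, 2, 8, 13, 3, 11, 12, 2, 4], [11, 6, 2, 3, 13, 8, 2, 3, 13, 7, 8, 3, 7, 4, 3, 2, 3, 4, 7, 3, 8, 7, 13, 3, 2,
  8, 13, 3, 11, 12, 2, 4, 11, 12, 6, 0]]

theorem inA : InL N24.π L24.F ⟨eA, [31671, 7, 38, 180, 39], [], []⟩ zA :=
  (inL_step md24 (p := 34186) (prog := [.cl 1 0, .cl 4 1, .and 1 0, .mac 0 [1], .cl 0 2, .and 1 0, .cl 3 3, .and 1 0,
    .mac 3 [0], .cl 0 4, .and 1 0, .cl 2 5, .dif 1 0])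
    (W := [[10, 13, 0, 10], [10, 8, 13, 11, 10], [1, 0, 10, 11, 2, 1, 0, 10], [10, 13, 11, 10], [8, 13, 7, 8, 3, 13, 10,
      4, 3, 13, 0, 10], []])
    (us := [[], [11, 12, 6, 0], [11, 12, 2, 4], [11, 12, 2, 4, 11, 12, 6, 0], [11, 6, 2, 3, 13, 8, 2, 3, 13, 7, 8, 3, 7,
      4, 3, 2, 3, 4, 7, 3, 8, 7, 13, 3, 2, 8, 13, 3], [11, 6, 2, 3, 13, 8, 2, 3, 13, 7, 8, 3, 7, 4, 3, 2, 3, 4, 7, 3, 8,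
      7, 13, 3, 2, 8, 13, 3, 11, 12, 6, 0], [11, 6, 2, 3, 13, 8, 2, 3, 13, 7, 8, 3, 7, 4, 3, 2, 3, 4, 7, 3, 8, 7, 13, 3,
      2, 8, 13, 3, 11, 12, 2, 4], [11, 6, 2, 3, 13, 8, 2, 3, 13, 7, 8, 3, 7, 4, 3, 2, 3, 4, 7, 3, 8, 7, 13, 3, 2, 8, 13,
      3, 11, 12, 2, 4, 11, 12, 6, 0]]) (by norm_num) (by decide +kernel) (by decide +kernel)
  (inL_base md24 (prog := [.tr 0 0, .tr 1 1, .tr 3 2, .tr 4 3, .mac 5 [5, 0, 5, 3, 4, 3, 0, 5, 1, 5, 3, 4], .mac 6 [5,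
    1, 4, 1, 5, 3, 4, 3, 4, 5, 3, 5, 1], .mac 7 [5, 0, 1, 4, 3, 5, 1], .mac 3 [5, 1, 3, 5, 1, 2, 3, 4, 3, 0, 1, 5, 0],
    .mac 4 [0, 1, 4, 5, 2, 3, 5, 3, 4, 3, 5, 4]])
    (W := [[7, 8, 13, 10], [], [10, 13, 11, 10], [10, 11, 0, 10]]) (by decide +kernel)))

/-- Elements of a centraliser. -/
def eB : List (List ℕ) := [[11, 10, 11, 10, 0, 10, 7, 3, 7, 13, 8, 7, 3, 13, 8, 7, 4, 3, 2, 3, 4, 7, 8, 13, 3, 7, 8, 13,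
  9, 6, 9, 12, 9, 12], [1, 0, 1, 2, 1, 2, 11, 10, 11, 10, 0, 10, 5, 4, 5, 6, 5, 6, 7, 3, 7, 13, 8, 7, 3, 13, 8, 7, 4, 3,
  2, 3, 4, 7, 8, 13, 3, 7, 8, 13, 9, 6, 9, 12, 9, 12, 5, 4, 5, 6, 5, 6, 1, 0, 1, 2, 1, 2]]

/-- The elements of a double centraliser. -/
def zB : List (List ℕ) := [[], [11, 12, 6, 0], [11, 12, 2, 4], [11, 12, 2, 4, 11, 12, 6, 0], [11, 6, 2, 3, 13, 8, 4, 3,
  13, 7, 8, 3, 7, 4, 3, 2, 3, 4, 7, 3, 8, 7, 13, 3, 4, 8, 13, 3], [11, 6, 2, 3, 13, 8, 4, 3, 13, 7, 8, 3, 7, 4, 3, 2, 3,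
  4, 7, 3, 8, 7, 13, 3, 4, 8, 13, 3, 11, 12, 6, 0], [11, 6, 2, 3, 13, 8, 4, 3, 13, 7, 8, 3, 7, 4, 3, 2, 3, 4, 7, 3, 8,
  7, 13, 3, 4, 8, 13, 3, 11, 12, 2, 4], [11, 6, 2, 3, 13, 8, 4, 3, 13, 7, 8, 3, 7, 4, 3, 2, 3, 4, 7, 3, 8, 7, 13, 3, 4,
  8, 13, 3, 11, 12, 2, 4, 11, 12, 6, 0]]

theorem inB : InL N24.π L24.F ⟨eB, [31671, 7, 38, 180, 39], [], []⟩ zB :=
  (inL_step md24 (p := 34186) (prog := [.cl 1 0, .cl 4 1, .and 1 0, .mac 0 [1], .cl 0 2, .and 1 0, .cl 3 3, .and 1 0,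
    .mac 2 [0], .cl 0 4, .and 1 0, .cl 2 5, .dif 1 0])
    (W := [[10, 13, 0, 10], [10, 8, 13, 11, 10], [1, 0, 10, 11, 2, 1, 0, 10], [10, 13, 11, 10], [8, 13, 3, 4, 2, 3, 13,
      10, 8, 13, 0, 10], []])
    (us := [[], [11, 12, 6, 0], [11, 12, 2, 4], [11, 12, 2, 4, 11, 12, 6, 0], [11, 6, 2, 3, 13, 8, 4, 3, 13, 7, 8, 3, 7,
      4, 3, 2, 3, 4, 7, 3, 8, 7, 13, 3, 4, 8, 13, 3], [11, 6, 2, 3, 13, 8, 4, 3, 13, 7, 8, 3, 7, 4, 3, 2, 3, 4, 7, 3, 8,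
      7, 13, 3, 4, 8, 13, 3, 11, 12, 6, 0], [11, 6, 2, 3, 13, 8, 4, 3, 13, 7, 8, 3, 7, 4, 3, 2, 3, 4, 7, 3, 8, 7, 13, 3,
      4, 8, 13, 3, 11, 12, 2, 4], [11, 6, 2, 3, 13, 8, 4, 3, 13, 7, 8, 3, 7, 4, 3, 2, 3, 4, 7, 3, 8, 7, 13, 3, 4, 8, 13,
      3, 11, 12, 2, 4, 11, 12, 6, 0]]) (by norm_num) (by decide +kernel) (by decide +kernel)
  (inL_base md24 (prog := [.tr 0 0, .tr 1 1, .tr 3 2, .tr 4 3, .mac 0 [5, 3, 0, 3, 5, 3, 2, 5, 3, 2, 5, 4], .mac 3 [4,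
    3, 5, 3, 0, 2, 5, 3, 4, 3, 5], .mac 2 [2, 5, 2, 3, 4, 3, 0, 2, 5, 1, 4, 3, 0, 1, 5], .mac 5 [5, 0, 3, 5, 3, 2, 5, 0,
    1, 4, 3, 5, 3, 5], .mac 4 [4, 3, 5, 2, 3, 0, 5, 3, 4, 3, 2, 5, 1, 2, 4]])
    (W := [[7, 8, 13, 10], [], [10, 13, 11, 10], [10, 11, 0, 10]]) (by decide +kernel)))

/-- Elements of a centraliser. -/
def eC : List (List ℕ) := [[3, 13, 8, 7, 13, 3, 2, 7, 3, 13, 8, 7, 13, 3, 4, 13]]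

/-- The elements of a double centraliser. -/
def zC : List (List ℕ) := [[], [7, 2, 0, 11], [11], [11, 7, 2, 0, 11], [12], [12, 7, 2, 0, 11], [6], [6, 7, 2, 0, 11],
  [0], [0, 7, 2, 0, 11], [2], [2, 7, 2, 0, 11], [7], [7, 7, 2, 0, 11], [12, 11], [12, 11, 7, 2, 0, 11], [6, 11], [6, 11,
  7, 2, 0, 11], [0, 11], [0, 11, 7, 2, 0, 11], [2, 11], [2, 11, 7, 2, 0, 11], [7, 11], [7, 11, 7, 2, 0, 11], [6, 12],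
  [6, 12, 7, 2, 0, 11], [0, 12], [0, 12, 7, 2, 0, 11], [2, 12], [2, 12, 7, 2, 0, 11], [7, 12], [7, 12, 7, 2, 0, 11], [0,
  6], [0, 6, 7, 2, 0, 11], [2, 6], [2, 6, 7, 2, 0, 11], [7, 6], [7, 6, 7, 2, 0, 11], [6, 12, 11], [6, 12, 11, 7, 2, 0,
  11], [0, 12, 11], [0, 12, 11, 7, 2, 0, 11], [2, 12, 11], [2, 12, 11, 7, 2, 0, 11], [7, 12, 11], [7, 12, 11, 7, 2, 0,
  11], [0, 6, 11], [0, 6, 11, 7, 2, 0, 11], [2, 6, 11], [2, 6, 11, 7, 2, 0, 11], [7, 6, 11], [7, 6, 11, 7, 2, 0, 11],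
  [0, 6, 12], [0, 6, 12, 7, 2, 0, 11], [2, 6, 12], [2, 6, 12, 7, 2, 0, 11], [7, 6, 12], [7, 6, 12, 7, 2, 0, 11], [0, 6,
  12, 11], [0, 6, 12, 11, 7, 2, 0, 11], [2, 6, 12, 11], [2, 6, 12, 11, 7, 2, 0, 11], [7, 6, 12, 11], [7, 6, 12, 11, 7,
  2, 0, 11]]

theorem inC : InL N24.π L24.F ⟨eC, [31671, 7, 38, 180, 0, 11, 20, 21], [], []⟩ zC :=
  (inL_step md24 (p := 52365) (prog := [.mac 5 [0], .cl 0 0, .mac 6 [0, 0], .cl 0 1, .and 1 0, .mac 9 [0], .cl 0 2, .and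
    1 0, .mac 10 [0, 0], .cl 0 3, .and 1 0, .cl 4 4, .dif 1 0, .cl 5 5, .dif 1 0, .cl 8 6, .dif 1 0, .mac 6 [0], .cl 0
    7, .dif 1 0])
    (W := [[8, 3, 13, 10, 3, 7, 8, 4, 3, 13, 0, 10], [8, 13, 10, 7, 8, 3, 7, 4, 3, 13, 0, 10], [3, 7, 8, 13, 10, 4, 3,
      7, 8, 4, 3, 13, 0, 10], [3, 7, 8, 13, 10, 2, 3, 7, 8, 4, 3, 13, 0, 10], [], [10, 13, 0, 10], [1, 0, 10, 11, 2, 1,
      0, 10], [1, 0, 10, 13, 2, 1, 0, 10]])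
    (us := [[], [11], [12], [6], [0], [2], [7], [12, 11], [6, 11], [0, 11], [2, 11], [7, 11], [6, 12], [0, 12], [2, 12],
      [7, 12], [0, 6], [2, 6], [7, 6], [6, 12, 11], [0, 12, 11], [2, 12, 11], [7, 12, 11], [0, 6, 11], [2, 6, 11], [7,
      6, 11], [0, 6, 12], [2, 6, 12], [7, 6, 12], [0, 6, 12, 11], [2, 6, 12, 11], [7, 6, 12, 11]]) (by norm_num) (by
      decide +kernel) (by decide +kernel)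
  (inL_step md24 (p := 656) (prog := [.cl 1 0, .mac 0 [0], .cl 0 1, .and 1 0, .mac 1 [0, 0], .cl 0 2, .and 1 0, .cl 8 3,
    .and 1 0, .cl 4 4, .dif 1 0, .cl 5 5, .dif 1 0, .mac 5 [0], .cl 0 6, .dif 1 0, .cl 11 7, .and 1 0, .mac 9 [0], .cl 0
    8, .dif 1 0])
    (W := [[], [8, 3, 13, 8, 3, 7, 2, 3, 13, 6, 9, 8, 13, 11, 10], [3, 13, 10, 7, 8, 7, 3, 13, 10, 6, 9, 8, 13, 0, 10],
      [3, 13, 10, 4, 3, 13, 0, 10], [10, 13, 0, 10], [10, 13, 11, 10], [1, 0, 10, 13, 2, 1, 0, 10], [3, 13, 10, 4, 3,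
      13, 11, 10], [8, 3, 13, 10, 3, 7, 8, 4, 3, 13, 0, 10]])
    (us := [[], [7, 2, 0, 11]]) (by norm_num) (by decide +kernel) (by decide +kernel)
  (inL_base md24 (prog := [.tr 0 0, .tr 1 1, .tr 2 2, .tr 4 3, .tr 5 4, .mac 0 [0, 3, 5, 5, 3, 4, 0, 1, 3, 5, 5], .mac 1
    [0, 5, 3, 5, 4, 1, 2, 3, 5, 3], .mac 8 [3, 1, 2, 3, 5, 4, 3, 4, 5, 3, 4], .mac 9 [4, 0, 1, 3], .mac 4 [1, 4, 5, 1,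
    4, 5, 1, 5]])
    (W := [[10, 3, 13, 8, 4, 3, 13, 10], [9, 3, 13, 10], [], [10, 13, 11, 10], [10, 11, 0, 10]]) (by decide +kernel))))

theorem inD : ∃ L, InL N24.π L24.F ⟨[], [16, 52, 1, 13, 105, 0, 2, 21, 30, 101, 107, 108], [], []⟩ L ∧
    ∀ w ∈ L, Cm w [3, 7, 8, 13, 3, 13, 8, 7] :=
  ⟨_, (inL_step md24 (p := 31745) (prog := [.cl 0 0, .cl 3 1, .and 1 0, .cl 1 2, .and 1 0, .cl 11 3, .and 1 0, .cl 2 4,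
    .dif 1 0, .cl 4 5, .dif 1 0, .cl 8 6, .dif 1 0, .cl 10 7, .dif 1 0])
    (W := [[13, 10, 3, 13, 11, 10], [13, 10, 4, 3, 13, 11, 10], [13, 10, 8, 13, 11, 10], [10, 13, 3, 4, 2, 3, 13, 10],
      [13, 10, 7, 3, 13, 0, 10], [13, 10, 7, 8, 13, 0, 10], [9, 13, 10, 6, 9, 13, 0, 10], [10, 13, 3, 7, 4, 3, 13, 10]])
    (us := [[], [11], [10, 9, 13, 8, 3, 13, 4, 3, 2, 3, 4, 13, 3, 8, 13, 9, 10], [10, 9, 13, 8, 3, 13, 4, 3, 2, 3, 4,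
      13, 3, 8, 13, 9, 10, 11], [11, 10, 9, 13, 8, 3, 13, 4, 3, 2, 3, 4, 13, 3, 8, 13, 9, 10], [12, 10, 9, 13, 8, 3, 13,
      4, 3, 2, 3, 4, 13, 3, 8, 13, 9, 10], [6, 10, 9, 13, 8, 3, 13, 4, 3, 2, 3, 4, 13, 3, 8, 13, 9, 10], [0, 10, 9, 13,
      8, 3, 13, 4, 3, 2, 3, 4, 13, 3, 8, 13, 9, 10], [11, 10, 9, 13, 8, 3, 13, 4, 3, 2, 3, 4, 13, 3, 8, 13, 9, 10, 11],
      [12, 10, 9, 13, 8, 3, 13, 4, 3, 2, 3, 4, 13, 3, 8, 13, 9, 10, 11], [6, 10, 9, 13, 8, 3, 13, 4, 3, 2, 3, 4, 13, 3,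
      8, 13, 9, 10, 11], [0, 10, 9, 13, 8, 3, 13, 4, 3, 2, 3, 4, 13, 3, 8, 13, 9, 10, 11], [12, 11, 10, 9, 13, 8, 3, 13,
      4, 3, 2, 3, 4, 13, 3, 8, 13, 9, 10], [6, 11, 10, 9, 13, 8, 3, 13, 4, 3, 2, 3, 4, 13, 3, 8, 13, 9, 10], [0, 11, 10,
      9, 13, 8, 3, 13, 4, 3, 2, 3, 4, 13, 3, 8, 13, 9, 10], [6, 12, 10, 9, 13, 8, 3, 13, 4, 3, 2, 3, 4, 13, 3, 8, 13, 9,
      10], [0, 12, 10, 9, 13, 8, 3, 13, 4, 3, 2, 3, 4, 13, 3, 8, 13, 9, 10], [0, 6, 10, 9, 13, 8, 3, 13, 4, 3, 2, 3, 4,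
      13, 3, 8, 13, 9, 10], [10, 9, 13, 8, 3, 13, 4, 3, 2, 3, 4, 13, 3, 8, 13, 9, 10, 12, 11, 10, 9, 13, 8, 3, 13, 4, 3,
      2, 3, 4, 13, 3, 8, 13, 9, 10], [10, 9, 13, 8, 3, 13, 4, 3, 2, 3, 4, 13, 3, 8, 13, 9, 10, 6, 11, 10, 9, 13, 8, 3,
      13, 4, 3, 2, 3, 4, 13, 3, 8, 13, 9, 10], [10, 9, 13, 8, 3, 13, 4, 3, 2, 3, 4, 13, 3, 8, 13, 9, 10, 0, 11, 10, 9,
      13, 8, 3, 13, 4, 3, 2, 3, 4, 13, 3, 8, 13, 9, 10], [10, 9, 13, 8, 3, 13, 4, 3, 2, 3, 4, 13, 3, 8, 13, 9, 10, 6,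
      12, 10, 9, 13, 8, 3, 13, 4, 3, 2, 3, 4, 13, 3, 8, 13, 9, 10], [10, 9, 13, 8, 3, 13, 4, 3, 2, 3, 4, 13, 3, 8, 13,
      9, 10, 0, 12, 10, 9, 13, 8, 3, 13, 4, 3, 2, 3, 4, 13, 3, 8, 13, 9, 10], [10, 9, 13, 8, 3, 13, 4, 3, 2, 3, 4, 13,
      3, 8, 13, 9, 10, 0, 6, 10, 9, 13, 8, 3, 13, 4, 3, 2, 3, 4, 13, 3, 8, 13, 9, 10]]) (by norm_num)
      (by decide +kernel) (by decide +kernel)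
  (inL_step md24 (p := 7487) (prog := [.cl 0 0, .cl 9 1, .and 1 0, .cl 1 2, .and 1 0, .cl 10 3, .and 1 0, .cl 11 4, .and
    1 0, .cl 7 5, .dif 1 0])
    (W := [[1, 0, 10], [9, 13, 10, 6, 9, 13, 0, 10], [13, 10, 3, 13, 11, 10], [1, 0, 10, 13, 2, 1, 0, 10], [10, 13, 3,
      7, 4, 3, 13, 10], [13, 10, 7, 4, 3, 13, 0, 10]])
    (us := [[], [12], [6], [0], [6, 12], [0, 12], [0, 6], [0, 6, 12]]) (by norm_num) (by decide +kernel)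
      (by decide +kernel)
  (inL_base md24 (prog := [.tr 0 0, .tr 1 1, .tr 2 2, .tr 4 3, .tr 6 4, .tr 12 5, .mac 10 [2, 4, 5, 1, 0, 4, 1, 2, 4, 0,
    1, 5, 2, 4], .mac 4 [1, 0, 4, 1, 3, 2, 4, 5, 1, 3, 5, 2, 4, 0, 5], .mac 15 [3, 2, 4, 5, 1, 4, 0, 2, 4, 5, 1, 0, 2,
    4, 1, 5], .mac 16 [2, 5, 1, 2, 4, 0, 3, 2, 5, 1, 4, 0, 2, 4, 5, 1], .mac 7 [4, 0, 5, 1, 2, 4, 5, 1, 2, 4, 0, 4, 2,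
    5]])
    (W := [[10, 9, 13, 2, 1, 0, 10], [1, 0, 10], [13, 10, 3, 13, 11, 10], [13, 10, 7, 3, 13, 0, 10], [13, 10, 7, 8, 13,
      0, 10], [10, 13, 3, 7, 4, 3, 13, 10]]) (by decide +kernel)))), by decide +kernel⟩

end Cfsg.Agent.H60
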