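import Cfsg.Agent.H60.MlTv

/-!
# Solitary transvections: existence and uniqueness
-/

set_option autoImplicit false

namespace Cfsg.Agent.H60.ML

open Subgroup Cfsg.Agent.H83 Cfsg.Agent.H1.ML Cfsg.Agent.H98.ML

universe u

theorem tva : TvaStmt.{u} := by
  intro G M _ _ _ _ _ ff N T P hT PT NP nT ⟨c, cP, u, hc⟩ z hz hz'
  have nn := nn_of_syl hT nT
  have Tz' : ∀ x ∈ T, x • z = z := fun x hx => hz x ⟨hT.le hx, le_norm_JJ hx⟩
  obtain ⟨b, bN, w, hb, bz⟩ : ∃ b ∈ N, ∃ w : M, Tv b w ∧ b • z ≠ z := by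
    by_contra! H
    refine hz' fun g hg => ?_
    obtain ⟨n, hn, x, hx, rfl⟩ := (hT.inf_normal (JJ_le (Tz M) N) le_norm_JJ).frattini
      (le_norm_JJ hg)
    rw [mul_smul, hz x ⟨(mul_mem_cancel_left (JJ_le _ _ hn)).1 hg, JJ_norm fun e he y hy =>
      ((mem_normalizer_iff.1 hx e).1 ⟨he, tv_mem_JJ hy (hT.le he)⟩).1⟩]
    exact JJ_le_of (K := MulAction.stabilizer G z) H hn
  obtain ⟨a, aT, v, ha, ab⟩ : ∃ a ∈ T, ∃ v : M, Tv a v ∧ b * a ≠ a * b := by
    by_contra! H
    exact bz (Tz' b (kmax ff nn hT hb bN H))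
  have j1 : ∀ {a v}, a ∈ T → Tv a v → b * a ≠ a * b → b • v ≠ v ∧ a • w ≠ w := fun h1 h2 h3 =>
    ⟨fun e => h3 (k3 ff nn hb h2 bN (hT.le h1) e), fun e => h3 (k3 ff nn h2 hb (hT.le h1) bN e).symm⟩
  obtain ⟨bv, aw⟩ := j1 aT ha ab
  have aP : a ∉ P := fun e => ab (k5c ff nn (P := zpowers b ⊔ P)
    (isPGroup_sup (tv_pg ff hb) (hT.isPGroup.to_le PT) (zpowers_le.2 (NP bN)))
    (sup_le (zpowers_le.2 bN) (PT.trans hT.le)) hb ha (mem_sup_left (mem_zpowers b))
    (mem_sup_right e))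
  refine ⟨a, v, b, w, bN, bz, aP, aT, ha, hb, bv, aw, fun a' aT' v' ha' ne => ?_,
    c, PT cP, u, hc, fun e => aP (e ▸ cP)⟩
  by_contra ab'
  obtain ⟨bv', aw'⟩ := j1 aT' ha' ab'
  have k : ∀ {x y : G} {p q : M}, x ∈ T → y ∈ T → Tv x p → Tv y q → x • q = q :=
    fun h1 h2 h3 h4 => k5 ff nn hT.isPGroup hT.le h3 h4 h1 h2
  have gN : b * a * a' * b ∈ N := mul_mem (mul_mem (mul_mem bN (hT.le aT)) (hT.le aT')) bN
  have act : ∀ d : M, a • d = d → a' • d = d → (b • d = d ∧ (b * a * a' * b) • d = d) ∨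
      (b • d ≠ d ∧ (b * a * a' * b) • d = d + v + v') := fun d h1 h2 => by
    by_cases h3 : b • d = d
    · exact Or.inl ⟨h3, by simp only [mul_smul, h1, h2, h3]⟩
    · refine Or.inr ⟨h3, ?_⟩
      have w2 := tv_two hb
      simp only [mul_smul, smul_add, h1, h2, tv_add hb h3, tv_add ha aw, tv_add ha' aw',
        k aT aT' ha ha', tv_add hb bv, tv_add hb bv', hb.fix]
      grind
  have gz := hz _ ⟨gN, JJ_norm fun e eT y he => kmax ff nn hT (tv_cj he _)
    (mul_mem (mul_mem gN (hT.le eT)) (inv_mem gN)) fun x xT p hx =>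
      (k3 ff nn hx (tv_cj he _) (hT.le xT) (mul_mem (mul_mem gN (hT.le eT)) (inv_mem gN)) (by
        rcases act y (k aT eT ha he) (k aT' eT ha' he) with ⟨-, e⟩ | ⟨-, e⟩ <;>
          simp only [e, smul_add, k xT eT hx he, k xT aT hx ha, k xT aT' hx ha'])).symm⟩
  rw [((act z (Tz' a aT) (Tz' a' aT')).resolve_left fun e => bz e.1).2, add_assoc, add_eq_left,
    ← tv_two ha, add_right_inj] at gz
  exact ne (k6 ff nn ha' (gz ▸ ha) hb (hT.le aT') (hT.le aT) bN bv')

theorem tvc : TvcStmt.{u} := by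
  intro G M _ _ _ _ _ ff S hS nS a a' v b b' w w' h h'
  have nn := nn_of_syl hS nS
  obtain rfl : a = a' := k6 ff nn h.ta h'.ta h.tb trivial trivial trivial h.ne
  have br := tv_braid ff h.ta h.tb h.ne h.ne'
  have a1 := tv_inv ff h.ta
  have b1 := tv_inv ff h.tb
  have ca : ∀ c ∈ S, ∀ u : M, Tv c u → Commute a c := fun c hc u hu =>
    k5c ff nn hS.isPGroup le_top h.ta hu h.mem hc
  by_cases e : b • w' = w'
  · have bb : Commute b b' := k3 ff nn h.tb h'.tb trivial trivial e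
    have ga : b * a * b * (b * a)⁻¹ = a := by rw [← br]; group
    refine Or.inl (by_contra fun ne => ?_)
    have he := tv_cj h'.tb (b * a)
    have eS := kmax ff nn hS he trivial fun c hc u hu => by
      by_cases k : c = a
      · rw [k]
        nth_rw 3 4 [← ga]
        rw [conj_mul, conj_mul, bb.eq]
      · have c1 : Commute (b * a) c := Commute.mul_left (h.cm c hc u hu k) (ca c hc u hu)
        exact ((c1.mul_left (h'.cm c hc u hu k)).mul_left c1.inv_left).eq
    have c1 : Commute (b * a) (b * a * b' * (b * a)⁻¹) := Commute.mul_left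
      (h.cm _ eS _ he fun k => ne (by simpa using k.trans ga.symm)) (ca _ eS _ he)
    have e1 : b * a * b' * (b * a)⁻¹ = b' := by
      have := c1.eq
      rwa [inv_mul_cancel_right, mul_assoc (b * a) b', mul_right_inj, ← mul_assoc] at this
    exact h'.ne (tv_comm h.ta (e1 ▸ (ca _ eS _ he).symm.eq))
  · have he := tv_cj h'.tb b
    have eS := kmax ff nn hS he trivial fun c hc u hu => by
      by_cases k : c = a
      · rw [k]
        refine (k3 ff nn h.ta he trivial trivial ?_).symm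
        rw [tv_add h.tb e, smul_add, tv_add h.ta h.ne', tv_add h.ta h'.ne', add_add_add_comm,
          tv_two h.ta, add_zero]
      · have c1 : Commute b c := h.cm c hc u hu k
        exact ((c1.mul_left (h'.cm c hc u hu k)).mul_left c1.inv_left).eq
    by_cases k : b * b' * b⁻¹ = a
    · exact Or.inr (by rw [a1, br, ← k]; nth_rw 1 5 [← b1]; group)
    · have := h.cm _ eS _ he k
      rw [inv_mul_cancel_right, mul_assoc b b', mul_right_inj, ← mul_assoc,
        mul_inv_eq_iff_eq_mul] at this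
      exact absurd (tv_comm h'.tb this) e

end Cfsg.Agent.H60.ML
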