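import Cfsg.Agent.H63.WrDefs
import Cfsg.Agent.H67.Conj

/-! The wreath configuration: the normalizer of `L L^t` controls the fusion of `t`. -/

set_option autoImplicit false

namespace Cfsg.Agent.H60.WrE

open Cfsg Cfsg.Agent.H63 Cfsg.Agent.H63.SL Cfsg.Agent.H63.WR Cfsg.Agent.H67 Subgroup
open Cfsg.Agent.H8 (IsSylowIn exists_isSylowIn_ge lt_inf_normalizer_of_lt)
open scoped commutatorElement Pointwise

universe u

variable {G : Type u} [Group G] {L U T P : Subgroup G} {t w n d : G}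

theorem cm {A : Subgroup G} {y f : G} (h : y ∈ N[A]) (hf : f ∈ A) : y * f * y⁻¹ ∈ A :=
  (mem_normalizer_iff.1 h f).1 hf

theorem cm' {A : Subgroup G} {y f : G} (h : y ∈ N[A]) (hf : f ∈ A) : y⁻¹ * f * y ∈ A := by
  simpa using cm (inv_mem h) hf

theorem exists_pow_sq {A : Subgroup G} {u : G} (hu : u ∉ A) {k : ℕ} (h : u ^ 2 ^ k = 1) :
    ∃ i : ℕ, u ^ i ∉ A ∧ u ^ i * u ^ i ∈ A := by
  induction k generalizing u with
  | zero => exact absurd (by rw [← pow_one u]; exact h ▸ one_mem A) hu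
  | succ k ih =>
    by_cases e : u * u ∈ A
    · exact ⟨1, by simpa using hu, by simpa using e⟩
    · obtain ⟨i, h1, h2⟩ := ih e (by rw [← sq, ← pow_mul, ← pow_succ', h])
      rw [← sq u, ← pow_mul] at h1 h2
      exact ⟨_, h1, h2⟩

section WK

variable (h : WC L U T t w) (k : WK L U T t w)
include k

theorem par {a b : G} (ha : a ∈ N[L ⊔ cj t L]) (hb : b ∈ N[L ⊔ cj t L]) (na : a ∉ N[L])
    (nb : b ∉ N[L]) : a * b ∈ N[L] := by
  have := mul_mem ((k.perm a ha).resolve_left na)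
    (inv_mem ((k.perm _ (inv_mem hb)).resolve_left fun e => nb (inv_mem_iff.1 e)))
  simpa [mul_assoc] using this

theorem par_conj {m a : G} (hm : m ∈ N[L ⊔ cj t L]) (ha : a ∈ N[L ⊔ cj t L]) :
    m * a * m⁻¹ ∈ N[L] ↔ a ∈ N[L] := by
  have key : ∀ m ∈ N[L ⊔ cj t L], ∀ a ∈ N[L ⊔ cj t L], a ∈ N[L] → m * a * m⁻¹ ∈ N[L] := by
    intro m hm a ha e
    by_cases c : m ∈ N[L]
    · exact mul_mem (mul_mem c e) (inv_mem c)
    · exact par k (mul_mem hm ha) (inv_mem hm) (fun e' => c ((mul_mem_cancel_right e).1 e'))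
        fun e' => c (inv_mem_iff.1 e')
  refine ⟨fun e => ?_, key m hm a ha⟩
  simpa [mul_assoc] using key _ (inv_mem hm) _ (mul_mem (mul_mem hm ha) (inv_mem hm)) e

theorem U12 {a b : G} (ha : a ∈ U) (hb : b ∈ cj t U) : Commute a b := k.idp.2.2.1 a ha b hb

theorem U_inf {a : G} (ha : a ∈ U) (hb : a ∈ cj t U) : a = 1 :=
  mem_bot.1 (k.idp.2.2.2.1 ▸ (⟨ha, hb⟩ : a ∈ U ⊓ cj t U))

include h

omit k in
theorem UN : U ≤ T ⊓ N[L] := le_inf h.UT (h.wl.syl.le.trans le_normalizer)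

theorem U2N : cj t U ≤ T ⊓ N[L] := cj_le_iff.2 fun _ hx =>
  ⟨T.mul_mem (T.mul_mem h.tT (h.UT hx)) (T.inv_mem h.tT),
    (par_conj k (h.syl.le h.tT) (h.syl.le (h.UT hx))).2 (UN h hx).2⟩

omit k in
theorem w_fix {s : G} (hs : s ∈ T) (e : s ∈ N[L]) : s * w * s⁻¹ = w :=
  mul_inv_eq_iff_eq_mul.2 (mem_centralizer_singleton_iff.1 (h.wc ⟨hs, e⟩))

theorem w_sw {s : G} (hs : s ∈ T) (e : s ∉ N[L]) : w * s * w⁻¹ * s⁻¹ = w * (t * w * t⁻¹) := by
  rw [← (k.Tsw s hs e).2.2.1, inv_eq_of_mul_eq_one_right h.w2]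
  group

/-- The commutator of `w` with an element of `T`. -/
theorem w_com {s : G} (hs : s ∈ T) :
    s * w * s⁻¹ * w⁻¹ = 1 ∨ s * w * s⁻¹ * w⁻¹ = w * (t * w * t⁻¹) := by
  by_cases e : s ∈ N[L]
  · exact .inl (by rw [w_fix h hs e, mul_inv_cancel])
  · exact .inr (by rw [(k.Tsw s hs e).2.2.1, inv_eq_of_mul_eq_one_right h.w2,
      (U12 k h.wZ.1 (conj_mem_cj h.wZ.1)).eq])

theorem trick (ab : AB L T t w) (hP : P ≤ T) (hn : n ∈ N[P]) (hw : w ∈ P) (hd : d ∈ P)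
    (sd : d ∉ N[L]) {ρ : G} (hρ : ρ ∈ P) (hU : ρ ∈ U ∨ ρ ∈ cj t U) : n⁻¹ * ρ * n ∈ N[L] := by
  by_contra sρ
  have e1 : n * w * n⁻¹ * ρ * (n * w * n⁻¹)⁻¹ * ρ⁻¹ = n * (w * (t * w * t⁻¹)) * n⁻¹ := by
    rw [← w_sw h k (hP (cm' hn hρ)) sρ]; group
  have hw' := hP (cm hn hw)
  by_cases c : n * w * n⁻¹ ∈ N[L]
  · have e2 : d * (n * (w * (t * w * t⁻¹)) * n⁻¹) * d⁻¹ = n * (w * (t * w * t⁻¹)) * n⁻¹ := by
      have := mem_centralizer_singleton_iff.1 (k.zT (hP (cm' hn hd)))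
      calc _ = n * (n⁻¹ * d * n * (w * (t * w * t⁻¹))) * n⁻¹ * d⁻¹ := by group
        _ = _ := by rw [this]; group
    have t0 := k.T0 ⟨hw', c⟩
    have ts := k.Tsw d (hP hd) sd
    have e3 : n * (w * (t * w * t⁻¹)) * n⁻¹ = 1 := by
      rcases hU with hU | hU
      · have m : n * (w * (t * w * t⁻¹)) * n⁻¹ ∈ U := e1 ▸ mul_mem (cm t0.1 hU) (inv_mem hU)
        exact U_inf k m (by rw [← ts.1, ← e2]; exact conj_mem_cj m)
      · have m : n * (w * (t * w * t⁻¹)) * n⁻¹ ∈ cj t U := e1 ▸ mul_mem (cm t0.2 hU) (inv_mem hU)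
        exact U_inf k (by rw [← ts.2.1, ← e2]; exact conj_mem_cj m) m
    exact k.z1 (by simpa [mul_inv_eq_iff_eq_mul] using e3)
  · have e2 := w_sw h k hw' c
    have e3 : w * (n * w * n⁻¹) * w⁻¹ * (n * w * n⁻¹)⁻¹ =
        n * (n⁻¹ * w * n * w * (n⁻¹ * w * n)⁻¹ * w⁻¹) * n⁻¹ := by group
    rcases w_com h k (hP (cm' hn hw)) with e | e <;> rw [e, e2] at e3
    · exact k.z1 (by simpa using e3)
    · exact c (ab n (mem_centralizer_singleton_iff.2 (mul_inv_eq_iff_eq_mul.1 e3.symm)) hw')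

theorem full [Finite G] (ab : AB L T t w) (hP : P ≤ T) (hn : n ∈ N[P]) (h1 : U ≤ P) (hd : d ∈ P)
    (sd : d ∉ N[L]) (nd : n⁻¹ * d * n ∈ N[L]) : False := by
  have h2 : cj t U ≤ P := by
    rw [← (k.Tsw d (hP hd) sd).1]
    exact cj_le_of_mem hd h1
  have hw := h1 h.wZ.1
  have a1 : ∀ {V : Subgroup G}, V ≤ P → (∀ ρ ∈ V, ρ ∈ U ∨ ρ ∈ cj t U) → cj n V ≤ T ⊓ N[L] :=
    fun hV hV' => cj_le_iff.2 fun ρ hρ => ⟨hP (cm hn (hV hρ)), by
      simpa using trick h k ab hP (inv_mem hn) hw hd sd (hV hρ) (hV' ρ hρ)⟩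
  have a2 : U ⊔ cj t U ≤ cj n (T ⊓ N[L]) := sup_le
    (fun ρ hρ => mem_cj.2 ⟨hP (cm' hn (h1 hρ)), trick h k ab hP hn hw hd sd (h1 hρ) (.inl hρ)⟩)
    fun ρ hρ => mem_cj.2 ⟨hP (cm' hn (h2 hρ)), trick h k ab hP hn hw hd sd (h2 hρ) (.inr hρ)⟩
  have wc : w ∈ ⁅U, U⁆ := h.wl.zc h.wZ
  have := k.ntl (cj n U) (cj n (cj t U)) (a1 h1 fun _ => .inl) (a1 h2 fun _ => .inr)
    (a2.trans (by rw [← cj_normalizer]; exact cj_mono (k.T0.trans inf_le_left)))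
    (a2.trans (by rw [← cj_normalizer]; exact cj_mono (k.T0.trans inf_le_right)))
    (by rw [← cj_centralizer]; exact cj_mono fun a ha b hb => (U12 k ha hb).symm.eq)
    (by rw [← cj_inf, k.idp.2.2.2.1, cj_bot])
    (by
      rw [← cj_commutator, ← cj_commutator, Ne, cj_eq_bot_iff, cj_eq_bot_iff]
      exact fun e => h.w1 (mem_bot.1 (e ▸ wc)))
    (n * w * n⁻¹) (by rw [← cj_commutator]; exact conj_mem_cj wc) d (hP hd) sd (by
      have := w_fix h (hP (cm' hn hd)) nd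
      show _ * _ = _ * _
      calc n * w * n⁻¹ * d = n * (n⁻¹ * d * n * w * (n⁻¹ * d * n)⁻¹) * n⁻¹ * d := by rw [this]
        _ = _ := by group)
  exact h.w1 (by simpa [mul_inv_eq_iff_eq_mul] using this)

end WK

/-- The family of bad `2`-subgroups. -/
structure Fam (M : Subgroup G) (t : G) (P : Subgroup G) : Prop where
  two : IsPGroup 2 P
  le : P ≤ M
  sw : ∃ g ∈ M, g * t * g⁻¹ ∈ P
  out : ∃ g ∉ M, ∀ p ∈ P, g⁻¹ * p * g ∈ M

theorem Fam.conj {M : Subgroup G} (f : Fam M t P) {m : G} (hm : m ∈ M) : Fam M t (cj m P) := by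
  obtain ⟨g, hg, e⟩ := f.sw
  obtain ⟨g', hg', e'⟩ := f.out
  refine ⟨isPGroup_cj f.two m, cj_le_of_mem hm f.le, ⟨m * g, mul_mem hm hg, mem_cj.2 ?_⟩,
    m * g', fun c => hg' ((mul_mem_cancel_left hm).1 c), fun p hp => ?_⟩
  · simpa [mul_assoc] using e
  · simpa [mul_assoc] using e' _ (mem_cj.1 hp)

variable [Finite G]

theorem exists_n {M : Subgroup G} (f : Fam M t P) (hT : IsSylowIn 2 T M) (hP : P ≤ T)
    (uq : ∀ Q : Subgroup G, IsPGroup 2 Q → P < Q → Q ≤ M → ∀ g, (∀ p ∈ Q, g⁻¹ * p * g ∈ M) →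
      g ∈ M) : ∃ n ∈ N[P], n ∉ M := by
  obtain ⟨g, hg, e⟩ := f.out
  have l1 : cj g⁻¹ P ≤ M := cj_le_iff.2 fun p hp => by simpa using e p hp
  rcases hP.eq_or_lt with rfl | lt
  · obtain ⟨m, hm, le⟩ := hT.exists_conj_le (isPGroup_cj f.two g⁻¹) l1
    exact ⟨m * g⁻¹, mem_normalizer_of_cj_le (by rw [cj_mul]; exact le),
      fun c => hg (inv_mem_iff.1 ((mul_mem_cancel_left hm).1 c))⟩
  have lt1 := lt_inf_normalizer_of_lt hT.isPGroup lt
  obtain ⟨R, hR, le1⟩ := exists_isSylowIn_ge (hT.isPGroup.to_inf_left (K := N[P])) inf_le_right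
  have RM : R ≤ M := by
    by_contra c
    have lt2 := lt_inf_normalizer_of_lt hR.isPGroup
      (inf_lt_left.2 c : R ⊓ M < R)
    obtain ⟨x, hx, nx⟩ := SetLike.exists_of_lt lt2
    exact nx ⟨hx.1, uq (R ⊓ M) hR.isPGroup.to_inf_left
      (lt1.trans_le (le_inf le1 (inf_le_left.trans hT.le))) inf_le_right x
      fun p hp => (cm' hx.2 hp).2⟩
  obtain ⟨S, hS, le2⟩ := exists_isSylowIn_ge (isPGroup_cj f.two g⁻¹) l1
  have lt3 : cj g⁻¹ P < S := lt_of_le_of_ne le2 fun c => lt.ne (eq_of_le_of_card_ge lt.le (by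
    rw [hT.card_eq, ← hS.card_eq, ← c, card_cj]))
  have lt4 := lt_inf_normalizer_of_lt hS.isPGroup lt3
  obtain ⟨c, hc, le3⟩ := hR.exists_conj_le
    (isPGroup_cj (hS.isPGroup.to_inf_left (K := N[cj g⁻¹ P])) g) (by
      rw [cj_inf, cj_normalizer, cj_cj_inv]; exact inf_le_right)
  refine ⟨c, hc, fun cM => hg ((mul_mem_cancel_left cM).1 (uq (cj c (cj g (S ⊓ N[cj g⁻¹ P])))
    (hR.isPGroup.to_le le3) ?_ (le3.trans RM) _ fun p hp => ?_))⟩
  · conv_lhs => rw [← cj_eq_self hc, ← cj_cj_inv g P]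
    rwa [cj_lt_cj_iff, cj_lt_cj_iff]
  · rw [cj_cj] at hp
    exact hS.le (mem_cj.1 hp).1

theorem main (h : WC L U T t w) (k : WK L U T t w) (ab : AB L T t w)
    (f : Fam N[L ⊔ cj t L] t P) (hP : P ≤ T)
    (uq : ∀ Q : Subgroup G, IsPGroup 2 Q → P < Q → Q ≤ N[L ⊔ cj t L] → ∀ g,
      (∀ p ∈ Q, g⁻¹ * p * g ∈ N[L ⊔ cj t L]) → g ∈ N[L ⊔ cj t L]) : False := by
  obtain ⟨n, hn, nM⟩ := exists_n f h.syl hP uq
  obtain ⟨g, hg, hd⟩ := f.sw
  have tM := h.syl.le h.tT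
  have sd : g * t * g⁻¹ ∉ N[L] := fun e => k.tn ((par_conj k hg tM).1 e)
  have d2 : g * t * g⁻¹ * (g * t * g⁻¹) = 1 := by
    rw [show g * t * g⁻¹ * (g * t * g⁻¹) = g * (t * t) * g⁻¹ by group, h.t2]; group
  have hat : ∀ y, y ∉ N[L ⊔ cj t L] → y * (g * t * g⁻¹) * y⁻¹ ∈ P →
      y * (g * t * g⁻¹) * y⁻¹ ∈ N[L] := fun y hy m => by
    by_contra c
    have e : y * (g * t * g⁻¹) * y⁻¹ = y * g * t * (y * g)⁻¹ := by group
    rw [e] at m c
    exact hy ((mul_mem_cancel_right hg).1 (h.hat _ (f.le m) c))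
  generalize g * t * g⁻¹ = d at hd sd d2 hat
  have hd' := cm hn hd
  have nd' := hat n nM hd'
  have nd : n⁻¹ * d * n ∈ N[L] := by
    simpa using hat n⁻¹ (fun c => nM (inv_mem_iff.1 c)) (cm (inv_mem hn) hd)
  have star : ∀ x ∈ T, x ∈ N[P] → x ∉ P →
      n⁻¹ * (x * (n * d * n⁻¹) * x⁻¹ * (n * d * n⁻¹)⁻¹) * n ∉ N[L] := fun x hx nx px c => by
    have h1 : n⁻¹ * x * n ∉ N[L ⊔ cj t L] := fun c => nM (uq (T ⊓ cj n N[L ⊔ cj t L])
      h.syl.isPGroup.to_inf_left (lt_of_le_of_ne (le_inf hP fun p hp => mem_cj.2 (f.le (cm' hn hp)))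
        fun e => px (e ▸ ⟨hx, mem_cj.2 c⟩)) (inf_le_left.trans h.syl.le) n
      fun p hp => mem_cj.1 hp.2)
    have h2 := hat _ h1 (by
      have := cm' hn (cm nx hd')
      convert this using 1
      group)
    refine sd (inv_mem_iff.1 ((mul_mem_cancel_left h2).1 ?_))
    convert c using 1
    group
  have wT := h.UT h.wZ.1
  have hz : w * (t * w * t⁻¹) ∈ P := by
    by_contra c
    have cz : ∀ p ∈ P, w * (t * w * t⁻¹) * p * (w * (t * w * t⁻¹))⁻¹ = p := fun p hp => by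
      rw [← mem_centralizer_singleton_iff.1 (k.zT (hP hp)), mul_inv_cancel_right]
    refine star _ (mul_mem wT (mul_mem (mul_mem h.tT wT) (inv_mem h.tT)))
      (mem_normalizer_fintype fun p hp => by rwa [cz p hp]) c ?_
    rw [cz _ hd']
    simp
  have hw : w ∈ P := by
    by_contra c
    refine star w wT (mem_normalizer_fintype fun p hp => ?_) c ?_
    · by_cases e : p ∈ N[L]
      · rwa [← mem_centralizer_singleton_iff.1 (h.wc ⟨hP hp, e⟩), mul_inv_cancel_right]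
      · rw [← inv_mul_cancel_right (w * p * w⁻¹) p, w_sw h k (hP hp) e]
        exact mul_mem hz hp
    · rw [← mem_centralizer_singleton_iff.1 (h.wc ⟨hP hd', nd'⟩)]
      simp
  have tr := fun ρ => trick h k ab hP hn hw hd sd (ρ := ρ)
  by_cases h1 : U ≤ P
  · exact full h k ab hP hn h1 hd sd nd
  have P0 : P ⊓ N[L] ≤ T ⊓ N[L] := inf_le_inf_right _ hP
  have P0U : P ⊓ N[L] ≤ N[U] := P0.trans (k.T0.trans inf_le_left)
  obtain ⟨y, yU, yN, yP, y2⟩ : ∃ y ∈ U, y ∈ N[P ⊓ N[L]] ∧ y ∉ P ∧ y * y ∈ P := by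
    have lt := lt_inf_normalizer_of_lt (h.syl.isPGroup.to_le
      ((sup_le P0 (UN h)).trans inf_le_left)) (left_lt_sup.2 fun c => h1 (c.trans inf_le_left))
    obtain ⟨q, hq, nq⟩ := SetLike.exists_of_lt lt
    obtain ⟨p, hp, u, hu, rfl⟩ : (q : G) ∈ ((P ⊓ N[L] : Subgroup G) : Set G) * (U : Set G) := by
      rw [← coe_mul_of_left_le_normalizer_right _ _ P0U]; exact hq.1
    have uN : u ∈ N[P ⊓ N[L]] := (mul_mem_cancel_left (le_normalizer hp)).1 hq.2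
    obtain ⟨j, hj⟩ := h.wl.syl.isPGroup ⟨u, hu⟩
    obtain ⟨i, a, b⟩ := exists_pow_sq (A := P) (u := u)
      (fun c => nq (mul_mem hp ⟨c, (UN h hu).2⟩)) (congrArg Subtype.val hj)
    exact ⟨_, pow_mem hu i, pow_mem uN i, a, b⟩
  have di : d⁻¹ = d := inv_eq_of_mul_eq_one_right d2
  have dN : d ∈ N[P ⊓ N[L]] := mem_normalizer_fintype fun p hp =>
    ⟨P.mul_mem (P.mul_mem hd hp.1) (P.inv_mem hd), (par_conj k (f.le hd) (f.le hp.1)).2 hp.2⟩
  have y2U : d * y * d⁻¹ ∈ cj t U := (k.Tsw d (hP hd) sd).1 ▸ conj_mem_cj yU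
  have y2N : d * y * d⁻¹ ∈ N[P ⊓ N[L]] := mul_mem (mul_mem dN yN) (inv_mem dN)
  have nP : ∀ x ∈ N[P ⊓ N[L]], x * d * x⁻¹ ∈ P → x ∈ N[P] := fun x hx e =>
    mem_normalizer_fintype fun p hp => by
      by_cases c : p ∈ N[L]
      · exact (cm hx ⟨hp, c⟩).1
      · have := P.mul_mem (cm hx ⟨mul_mem hp hd, par k (f.le hp) (f.le hd) c sd⟩).1 (P.inv_mem e)
        rwa [show x * (p * d) * x⁻¹ * (x * d * x⁻¹)⁻¹ = x * p * x⁻¹ by group] at this
  have r1 := tr (y * (n * d * n⁻¹) * y⁻¹ * (n * d * n⁻¹)⁻¹)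
    (mul_mem (cm yN ⟨hd', nd'⟩).1 (inv_mem hd')) (.inl (by
      have := mul_mem yU (cm (P0U ⟨hd', nd'⟩) (inv_mem yU))
      convert this using 1
      group))
  have m2 : d * y * d⁻¹ * (n * d * n⁻¹) * (d * y * d⁻¹)⁻¹ * (n * d * n⁻¹)⁻¹ ∈ cj t U := by
    have := mul_mem y2U (cm (k.T0 ⟨hP hd', nd'⟩).2 (inv_mem y2U))
    convert this using 1
    group
  have r2 := tr _ (mul_mem (cm y2N ⟨hd', nd'⟩).1 (inv_mem hd')) (.inr m2)
  have yy := U12 k yU y2U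
  by_cases c : y * (d * y * d⁻¹) ∈ P
  · refine star y (h.UT yU) (nP y yN ?_) yP r1
    have := mul_mem (mul_mem c (inv_mem (mul_mem (mul_mem hd y2) (inv_mem hd)))) hd
    convert this using 1
    group
  · refine star _ (mul_mem (h.UT yU) (U2N h k y2U).1) (nP _ (mul_mem yN y2N) ?_) c ?_
    · have e : d * (y * (d * y * d⁻¹)) = y * (d * y * d⁻¹) * d := by
        calc _ = d * y * (d * y) * d⁻¹ := by group
          _ = d * y * d⁻¹ * y * d := by rw [di]; group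
          _ = _ := by rw [yy.eq]
      rwa [← e, mul_inv_cancel_right]
    · have := mul_mem r2 r1
      convert this using 1
      have e := (U12 k yU m2).eq
      generalize d * y * d⁻¹ = y' at e ⊢
      generalize n * d * n⁻¹ = d' at e ⊢
      calc _ = n⁻¹ * (y * (y' * d' * y'⁻¹ * d'⁻¹) * (d' * y⁻¹ * d'⁻¹)) * n := by group
        _ = _ := by rw [e]; group

theorem e0 (wk : WKStmt.{u}) : WR.E0Stmt.{u} := by
  intro G _ _ L U T t w h ab g hg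
  by_contra c
  have k := wk L U T t w h
  have f0 : Fam N[L ⊔ cj t L] t (zpowers t) := by
    refine ⟨h.syl.isPGroup.to_le (zpowers_le.2 h.tT), zpowers_le.2 (h.syl.le h.tT),
      ⟨1, one_mem _, by simp⟩, g⁻¹, fun e => c (inv_mem_iff.1 e), fun p hp => ?_⟩
    have : cj g (zpowers t) ≤ N[L ⊔ cj t L] := by
      rw [cj_zpowers]; exact zpowers_le.2 (hg t rfl)
    simpa using this (conj_mem_cj hp)
  obtain ⟨P, f, mx⟩ := Set.exists_max_image {P | Fam N[L ⊔ cj t L] t P} (fun P => Nat.card P)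
    (Set.toFinite _) ⟨_, f0⟩
  obtain ⟨m, hm, le⟩ := h.syl.exists_conj_le f.two f.le
  have f' := Fam.conj f hm
  refine main h k ab f' le fun Q q2 lt qM x hx => by_contra fun nx => lt.ne
    (eq_of_le_of_card_ge lt.le ?_)
  rw [card_cj]
  exact mx Q ⟨q2, qM, f'.sw.imp fun _ e => ⟨e.1, lt.le e.2⟩, x, nx, hx⟩

end Cfsg.Agent.H60.WrE
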