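import Cfsg.Agent.H93.LTKitDefs

/-! The model of `T₀ = ⟨t⟩ × ⟨f⟩ × D₈` and the first half of the kit. -/

set_option autoImplicit false
set_option linter.unusedSectionVars false

namespace Cfsg.Agent.H60.LT

open Subgroup H85 H93.LT

universe u

/-- `t ^ i * f ^ j * z ^ m * a ^ k * b ^ l` -/
structure M where
  i : Bool
  j : Bool
  m : Bool
  k : Bool
  l : Bool
  deriving DecidableEq, Fintype

instance : Mul M := ⟨fun x y =>
  ⟨x.i ^^ y.i, x.j ^^ y.j, (x.m ^^ y.m) ^^ (x.l && y.k), x.k ^^ y.k, x.l ^^ y.l⟩⟩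
instance : One M := ⟨⟨false, false, false, false, false⟩⟩
instance : Inv M := ⟨fun x => ⟨x.i, x.j, x.m ^^ (x.l && x.k), x.k, x.l⟩⟩
instance : Group M := Group.ofLeftAxioms (fun ⟨_, _, m, _, l⟩ ⟨_, _, m', k', l'⟩ ⟨_, _, m'', k'', _⟩ =>
  (M.mk.injEq ..).mpr ⟨Bool.xor_assoc .., Bool.xor_assoc .., (by decide : ∀ m l m' k' l' m'' k'' : Bool,
    ((((m ^^ m') ^^ (l && k')) ^^ m'') ^^ ((l ^^ l') && k'')) =
      ((m ^^ ((m' ^^ m'') ^^ (l' && k''))) ^^ (l && (k' ^^ k'')))) m l m' k' l' m'' k'',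
    Bool.xor_assoc .., Bool.xor_assoc ..⟩) (by decide) (by decide)

namespace M

def t : M := ⟨true, false, false, false, false⟩
def f : M := ⟨false, true, false, false, false⟩
def z : M := ⟨false, false, true, false, false⟩
def a : M := ⟨false, false, false, true, false⟩
def b : M := ⟨false, false, false, false, true⟩

/-- the action of `e` -/
def ε (x : M) : M := ⟨x.i, x.j, (x.m ^^ x.j) ^^ (x.k && x.l), x.l, x.k⟩

def E1 : Subgroup M where
  carrier := {x | x.l = false}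
  mul_mem' := by decide
  one_mem' := rfl
  inv_mem' := by decide

def E2 : Subgroup M where
  carrier := {x | x.k = false}
  mul_mem' := by decide
  one_mem' := rfl
  inv_mem' := by decide

end M

variable {G : Type u} [Group G]

/-- `g ^ x` for a Boolean `x` -/
def bp (x : Bool) (g : G) : G := cond x g 1

theorem bp_xor {g : G} (h : g * g = 1) (x y : Bool) : bp (x ^^ y) g = bp x g * bp y g := by
  cases x <;> cases y <;> simp [bp, h]

theorem bp_comm {g k : G} (h : Commute g k) (x y : Bool) : Commute (bp x g) (bp y k) := by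
  cases x <;> cases y <;> simp [bp, h]

theorem bp_mem {g : G} {H : Subgroup G} (h : g ∈ H) (x : Bool) : bp x g ∈ H := by
  cases x <;> simp [bp, h]

theorem bp_cn (g k : G) (x : Bool) : cn (bp x g) k = bp x (cn g k) := by
  cases x <;> simp [bp, cn]

theorem cn_mul (x y g : G) : cn (x * y) g = cn x g * cn y g := by simp [cn, mul_assoc]

theorem comm_mem {S : Set G} {N : Subgroup G} (hN : closure S ≤ normalizer (N : Set G))
    (h : ∀ x ∈ S, ∀ y ∈ S, x⁻¹ * y⁻¹ * x * y ∈ N) {x y : G} (hx : x ∈ closure S)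
    (hy : y ∈ closure S) : x⁻¹ * y⁻¹ * x * y ∈ N := by
  have k : ∀ {g n}, g ∈ closure S → n ∈ N → g⁻¹ * n * g ∈ N := fun hg hn =>
    (mem_normalizer_iff''.1 (hN hg) _).1 hn
  induction hx, hy using closure_induction₂ with
  | mem x y hx hy => exact h x hx y hy
  | one_left => simp
  | one_right => simp
  | mul_left x y z _ hy _ h1 h2 => convert mul_mem (k hy h1) h2 using 1; group
  | mul_right y z x _ hz _ h1 h2 => convert mul_mem h2 (k hz h1) using 1; group
  | inv_left x y hx _ h1 => convert k (inv_mem hx) (inv_mem h1) using 1; group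
  | inv_right x y _ hy h1 => convert k (inv_mem hy) (inv_mem h1) using 1; group

theorem exists_sq_mem {Q : Subgroup G} {n : ℕ} : ∀ {g : G}, g ∉ Q → g ^ 2 ^ n ∈ Q →
    ∃ k : ℕ, g ^ k ∉ Q ∧ g ^ k * g ^ k ∈ Q := by
  induction n with
  | zero => exact fun h1 h2 => absurd (by simpa using h2) h1
  | succ n ih =>
    intro g h1 h2
    by_cases h3 : g ^ 2 ∈ Q
    · exact ⟨1, by simpa using h1, by simpa [sq] using h3⟩
    · obtain ⟨k, hk⟩ := ih h3 (by rwa [← pow_mul, ← pow_succ'])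
      exact ⟨2 * k, by simpa only [pow_mul] using hk⟩

section Pre

variable (h : Pre G)

theorem zab : h.z = h.a⁻¹ * h.b⁻¹ * h.a * h.b := by
  rw [mul_assoc, mul_assoc, ← mul_assoc h.b⁻¹, show h.b⁻¹ * h.a * h.b = _ from h.ab]
  group

theorem aL : h.a ∈ h.L := (h.LiT.ge (subset_closure (by simp))).1
theorem bL : h.b ∈ h.L := (h.LiT.ge (subset_closure (by simp))).1
theorem zL : h.z ∈ h.L :=
  zab h ▸ mul_mem (mul_mem (mul_mem (inv_mem (aL h)) (inv_mem (bL h))) (aL h)) (bL h)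

theorem tz : Commute h.t h.z :=
  zab h ▸ ((h.ta.inv_right.mul_right h.tb.inv_right).mul_right h.ta).mul_right h.tb

theorem fz : Commute h.f h.z :=
  zab h ▸ ((h.fa.inv_right.mul_right h.fb.inv_right).mul_right h.fa).mul_right h.fb

theorem ba : h.b * h.a = h.z * (h.a * h.b) := by
  rw [← mul_assoc, h.za.eq, ← h.ab, cn, inv_eq_of_mul_eq_one_right h.bb, mul_assoc _ h.b, h.bb,
    mul_one]

theorem TC : h.T ≤ centralizer {h.t} := h.syl.le

theorem cnL {g x : G} (hg : g ∈ centralizer ({h.t} : Set G)) (hx : x ∈ h.L) : cn x g ∈ h.L :=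
  (mem_normalizer_iff''.1 (h.Ln hg) _).1 hx

theorem mem_or (g : G) : g ∈ h.X ∨ g * h.t ∈ h.X := by
  have := h.Xn
  obtain ⟨x, hx, y, ⟨n, rfl⟩, rfl⟩ := mem_sup_of_normal_left.1 (h.XG.ge (mem_top g))
  rcases Int.even_or_odd' n with ⟨k, rfl | rfl⟩
  · exact Or.inl (by simpa [zpow_mul, sq, h.tt] using hx)
  · exact Or.inr (by simpa [zpow_add, zpow_mul, sq, h.tt, mul_assoc] using hx)

theorem muX (x y : G) (hx : x ∉ h.X) (hy : y ∉ h.X) : x * y ∈ h.X := by
  have h1 := mul_mem ((mem_or h x).resolve_left hx)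
    (h.Xn.conj_mem _ ((mem_or h y).resolve_left hy) h.t)
  rwa [mul_assoc h.t, mul_inv_cancel_right, ← mul_assoc, mul_assoc x, h.tt, mul_one] at h1

theorem sqX (x : G) : x * x ∈ h.X := by
  by_cases e : x ∈ h.X
  · exact mul_mem e e
  · exact muX h x x e e

theorem cmX (x y : G) : x⁻¹ * y⁻¹ * x * y ∈ h.X := by
  by_cases e : x ∈ h.X
  · convert mul_mem (inv_mem e) (h.Xn.conj_mem' _ e y) using 1; group
  · convert muX h x⁻¹ (y⁻¹ * x * y) (by simpa using e) fun e' =>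
      e (by simpa [mul_assoc] using h.Xn.conj_mem _ e' y) using 1
    group

theorem odX [Finite G] (x : G) (hx : Odd (orderOf x)) : x ∈ h.X :=
  mem_of_pow_mem_of_coprime (n := 2) (Nat.coprime_two_right.2 hx) (sq x ▸ sqX h x)

theorem X_le {N : Subgroup G} (hN : ∀ x ∈ h.X, ∀ y ∈ h.X, x⁻¹ * y⁻¹ * x * y ∈ N) : h.X ≤ N := by
  have := h.Xs
  have h1 : commutator h.X = ⊤ := (inferInstance : (commutator h.X).Normal).eq_bot_or_eq_top.resolve_left
    fun e => h.Xa ((commutator_eq_bot_iff _).1 e)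
  rw [← h.X.range_subtype, MonoidHom.range_eq_map, ← h1, map_subtype_commutator, commutator_le]
  exact fun x hx y hy => by simpa [commutatorElement_def] using hN _ (inv_mem hx) _ (inv_mem hy)

end Pre

variable (h : Hyp G)

/-- the model of `T₀` -/
def φ : M →* G := MonoidHom.mk'
  (fun x => bp x.i h.t * bp x.j h.f * bp x.m h.z * (bp x.k h.a * bp x.l h.b)) fun x y => by
    have c : ∀ i j m k l, Commute (bp i h.t * bp j h.f * bp m h.z) (bp k h.a * bp l h.b) :=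
      fun i j m k l => (((bp_comm h.ta _ _).mul_right (bp_comm h.tb _ _)).mul_left
        ((bp_comm h.fa _ _).mul_right (bp_comm h.fb _ _))).mul_left
        ((bp_comm h.za _ _).mul_right (bp_comm h.zb _ _))
    have d : bp x.l h.b * bp y.k h.a = bp (x.l && y.k) h.z * (bp y.k h.a * bp x.l h.b) := by
      cases x.l <;> cases y.k <;> simp [bp, ba]
    change bp (x.i ^^ y.i) h.t * bp (x.j ^^ y.j) h.f * bp ((x.m ^^ y.m) ^^ (x.l && y.k)) h.z *
      (bp (x.k ^^ y.k) h.a * bp (x.l ^^ y.l) h.b) = _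
    rw [(c _ _ _ _ _).symm.mul_mul_mul_comm, ((bp_comm (tz h.toPre) _ _).mul_left
      (bp_comm (fz h.toPre) _ _)).symm.mul_mul_mul_comm, (bp_comm h.tf _ _).symm.mul_mul_mul_comm,
      bp_xor h.tt, bp_xor h.ff, bp_xor h.zz, bp_xor h.zz, bp_xor h.aa, bp_xor h.bb,
      mul_assoc (bp x.k h.a) (bp x.l h.b), ← mul_assoc (bp x.l h.b) (bp y.k h.a), d]
    simp only [mul_assoc]
    rw [(bp_comm h.za _ _).left_comm]

theorem φ_apply (x : M) :
    φ h x = bp x.i h.t * bp x.j h.f * bp x.m h.z * (bp x.k h.a * bp x.l h.b) := rfl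

theorem φ_t : φ h M.t = h.t := by simp [φ_apply, bp, M.t]
theorem φ_f : φ h M.f = h.f := by simp [φ_apply, bp, M.f]
theorem φ_z : φ h M.z = h.z := by simp [φ_apply, bp, M.z]
theorem φ_a : φ h M.a = h.a := by simp [φ_apply, bp, M.a]
theorem φ_b : φ h M.b = h.b := by simp [φ_apply, bp, M.b]

theorem φ_mem_L {x : M} : φ h x ∈ h.L ↔ x.i = false ∧ x.j = false := by
  rw [φ_apply, mul_assoc, mul_mem_cancel_right (mul_mem (bp_mem (zL h.toPre) _)
    (mul_mem (bp_mem (aL h.toPre) _) (bp_mem (bL h.toPre) _)))]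
  cases x.i <;> cases x.j <;> simp [bp, h.tL, h.fL, h.tfL]

theorem φ_inj : Function.Injective (φ h) := (injective_iff_map_eq_one _).2 fun x hx => by
  have k : ∀ x : M, x.i = false ∧ x.j = false → x = 1 ∨ x = M.z ∨ ∃ y, x⁻¹ * y⁻¹ * x * y = M.z := by
    decide
  rcases k x ((φ_mem_L h).1 (hx ▸ h.L.one_mem)) with e | rfl | ⟨y, e⟩
  · exact e
  · exact absurd (φ_z h ▸ hx) h.z1
  · exact absurd (by simpa [hx, φ_z] using (congrArg (φ h) e).symm) h.z1

theorem range_φ : (φ h).range = h.T0 := by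
  refine le_antisymm ?_ ((closure_le _).2 ?_)
  · rintro _ ⟨x, rfl⟩
    have ha : h.a ∈ h.T0 := subset_closure (by simp)
    have hb : h.b ∈ h.T0 := subset_closure (by simp)
    exact mul_mem (mul_mem (mul_mem (bp_mem (subset_closure (by simp)) _)
      (bp_mem (subset_closure (by simp)) _)) (bp_mem (zab h.toPre ▸ mul_mem (mul_mem (mul_mem
      (inv_mem ha) (inv_mem hb)) ha) hb) _)) (mul_mem (bp_mem ha _) (bp_mem hb _))
  · rintro _ (rfl | rfl | rfl | rfl)
    exacts [⟨_, φ_t h⟩, ⟨_, φ_f h⟩, ⟨_, φ_a h⟩, ⟨_, φ_b h⟩]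

theorem mem_T0 {u : G} : u ∈ h.T0 ↔ ∃ x, φ h x = u := by rw [← range_φ]; rfl

theorem map_E1 : M.E1.map (φ h) = h.E1 := by
  refine le_antisymm ?_ ((closure_le _).2 ?_)
  · rintro _ ⟨x, hx, rfl⟩
    rw [φ_apply, show x.l = false from hx]
    exact mul_mem (mul_mem (mul_mem (bp_mem (subset_closure (by simp)) _)
      (bp_mem (subset_closure (by simp)) _)) (bp_mem (subset_closure (by simp)) _))
      (mul_mem (bp_mem (subset_closure (by simp)) _) (one_mem _))
  · rintro _ (rfl | rfl | rfl | rfl)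
    exacts [⟨_, rfl, φ_t h⟩, ⟨_, rfl, φ_z h⟩, ⟨_, rfl, φ_f h⟩, ⟨_, rfl, φ_a h⟩]

theorem map_E2 : M.E2.map (φ h) = h.E2 := by
  refine le_antisymm ?_ ((closure_le _).2 ?_)
  · rintro _ ⟨x, hx, rfl⟩
    rw [φ_apply, show x.k = false from hx]
    exact mul_mem (mul_mem (mul_mem (bp_mem (subset_closure (by simp)) _)
      (bp_mem (subset_closure (by simp)) _)) (bp_mem (subset_closure (by simp)) _))
      (mul_mem (one_mem _) (bp_mem (subset_closure (by simp)) _))
  · rintro _ (rfl | rfl | rfl | rfl)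
    exacts [⟨_, rfl, φ_t h⟩, ⟨_, rfl, φ_z h⟩, ⟨_, rfl, φ_f h⟩, ⟨_, rfl, φ_b h⟩]

theorem ε_φ (he : h.e ≠ 1) (x : M) : cn (φ h x) h.e = φ h x.ε := by
  obtain ⟨h1, h2, h3, -⟩ := h.he.resolve_left he
  have h4 : cn h.z h.e = h.z := by
    rw [← φ_z, show M.z = M.a * M.b * (M.a * M.b) by decide, map_mul, map_mul, φ_a, φ_b, cn_mul,
      cn_mul, h1, h2, ← φ_a, ← φ_b, ← map_mul, ← map_mul, ← map_mul, ← map_mul]
    congr 1
  have h5 : cn h.t h.e = h.t := by rw [cn, mul_assoc, h.te.eq, inv_mul_cancel_left]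
  have k : ∀ (c : Bool) (y : M), bp c (φ h y) = φ h (bp c y) := fun c y => by cases c <;> simp [bp]
  rw [φ_apply]
  simp only [cn_mul, bp_cn, h1, h2, h3, h4, h5]
  rw [← φ_t, ← φ_f, ← φ_z, ← φ_a, ← φ_b]
  simp only [← map_mul, k]
  congr 1
  revert x
  decide

theorem ee_mem : h.e * h.e ∈ h.T0 := by
  rcases h.he with e | ⟨-, -, -, e | e⟩ <;> rw [e]
  exacts [by simp, one_mem _, subset_closure (by simp)]

theorem e_norm [Finite G] : h.e ∈ normalizer (h.T0 : Set G) := by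
  by_cases he : h.e = 1
  · exact he ▸ one_mem _
  · refine inv_mem_iff.1 (mem_normalizer_of_cj_le ?_)
    rintro _ ⟨_, hx, rfl⟩
    obtain ⟨x, rfl⟩ := (mem_T0 h).1 hx
    exact (mem_T0 h).2 ⟨x.ε, by simpa [cn] using (ε_φ h he x).symm⟩

theorem T0_le : h.T0 ≤ h.T := h.hT ▸ closure_mono (by simp [Set.subset_def])

theorem e_mem : h.e ∈ h.T := h.hT ▸ subset_closure (by simp)

theorem mem_T [Finite G] {u : G} (hu : u ∈ h.T) : u ∈ h.T0 ∨ u * h.e⁻¹ ∈ h.T0 := by
  have k : ∀ {x}, x ∈ h.T0 → h.e * x * h.e⁻¹ ∈ h.T0 := fun hx =>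
    (mem_normalizer_iff.1 (e_norm h) _).1 hx
  rw [h.hT] at hu
  induction hu using closure_induction with
  | mem x hx =>
    rcases hx with rfl | rfl | rfl | rfl | rfl
    exacts [Or.inl (subset_closure (by simp)), Or.inl (subset_closure (by simp)),
      Or.inl (subset_closure (by simp)), Or.inl (subset_closure (by simp)), Or.inr (by simp)]
  | one => exact Or.inl (one_mem _)
  | mul x y _ _ hx hy =>
    rcases hx with hx | hx <;> rcases hy with hy | hy
    · exact Or.inl (mul_mem hx hy)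
    · exact Or.inr (mul_assoc x _ _ ▸ mul_mem hx hy)
    · exact Or.inr (by convert mul_mem hx (k hy) using 1; group)
    · exact Or.inl (by convert mul_mem (mul_mem hx (k hy)) (ee_mem h) using 1; group)
  | inv x _ hx =>
    rcases hx with hx | hx
    · exact Or.inl (inv_mem hx)
    · exact Or.inr (by convert mul_mem (inv_mem (ee_mem h)) (k (inv_mem hx)) using 1; group)

theorem e_notMem (he : h.e ≠ 1) : h.e ∉ h.T0 := fun h1 => by
  obtain ⟨x, hx⟩ := (mem_T0 h).1 h1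
  have := ε_φ h he M.a
  rw [← hx, cn, ← map_inv, ← map_mul, ← map_mul] at this
  exact (by decide : ∀ x : M, x⁻¹ * M.a * x ≠ M.a.ε) x (φ_inj h this)

theorem comm_D0 {x y : G} (hx : x ∈ h.T) (hy : y ∈ h.T) : x⁻¹ * y⁻¹ * x * y ∈ h.L := by
  have k1 : ∀ x ∈ h.L, ∀ y ∈ h.T, x⁻¹ * y⁻¹ * x * y ∈ h.L := fun x hx y hy => by
    convert mul_mem (inv_mem hx) (cnL h.toPre (TC h.toPre hy) hx) using 1; simp [cn, mul_assoc]
  have k2 : ∀ x y : G, x⁻¹ * y⁻¹ * x * y ∈ h.L → y⁻¹ * x⁻¹ * y * x ∈ h.L := fun x y h1 => by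
    convert inv_mem h1 using 1; group
  have k3 : ∀ x y : G, Commute x y → x⁻¹ * y⁻¹ * x * y ∈ h.L := fun x y h1 => by
    rw [mul_assoc, h1.eq]; simp
  have k4 : h.f⁻¹ * h.e⁻¹ * h.f * h.e ∈ h.L := by
    rcases h.he with e | ⟨-, -, e, -⟩
    · simp [e]
    · rw [mul_assoc, mul_assoc, ← mul_assoc h.e⁻¹, show h.e⁻¹ * h.f * h.e = _ from e]
      simpa using zL h.toPre
  rw [h.hT] at hx hy
  refine comm_mem (h.hT ▸ (TC h.toPre).trans h.Ln) (fun x hx y hy => ?_) hx hy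
  have hx' : x ∈ h.T := h.hT ▸ subset_closure hx
  have hy' : y ∈ h.T := h.hT ▸ subset_closure hy
  rcases hx with rfl | rfl | rfl | rfl | rfl <;> rcases hy with rfl | rfl | rfl | rfl | rfl
  all_goals first
    | exact k1 _ (aL _) _ hy' | exact k1 _ (bL _) _ hy' | exact k2 _ _ (k1 _ (aL _) _ hx')
    | exact k2 _ _ (k1 _ (bL _) _ hx') | exact k3 _ _ (Commute.refl _) | exact k3 _ _ h.tf
    | exact k3 _ _ h.te | exact k3 _ _ h.tf.symm | exact k3 _ _ h.te.symm | exact k4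
    | exact k2 _ _ k4

theorem card_T0 : Nat.card h.T0 = 32 := by
  rw [← range_φ, ← Nat.card_congr (MonoidHom.ofInjective (φ_inj h)).toEquiv, Nat.card_eq_fintype_card]
  rfl

theorem card_T [Finite G] (he : h.e ≠ 1) : Nat.card h.T = 64 := by
  have h1 : h.T0.relIndex h.T = 2 := relIndex_eq_two_iff.2 ⟨h.e⁻¹, inv_mem (e_mem h), fun b hb => by
    rcases mem_T h hb with h2 | h2
    · exact Or.inr ⟨h2, fun h3 => e_notMem h he (by simpa [mul_mem_cancel_left h2] using h3)⟩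
    · exact Or.inl ⟨h2, fun h3 => e_notMem h he (by simpa [mul_mem_cancel_left h3] using h2)⟩⟩
  rw [← (h.T0.subgroupOf h.T).card_mul_index, Nat.card_congr (subgroupOfEquivOfLe (T0_le h)).toEquiv,
    card_T0]
  exact congrArg (32 * ·) h1

theorem card_E : Nat.card h.E1 = 16 ∧ Nat.card h.E2 = 16 := by
  rw [← map_E1, ← map_E2, card_map_of_injective (φ_inj h), card_map_of_injective (φ_inj h)]
  exact ⟨(Nat.card_eq_fintype_card (α := {x : M // x.l = false})).trans rfl,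
    (Nat.card_eq_fintype_card (α := {x : M // x.k = false})).trans rfl⟩

theorem j16 [Finite G] (E : Subgroup G) (hE : E ≤ h.T) (h2 : EA E) (hc : 16 ≤ Nat.card E) :
    E = h.E1 ∨ E = h.E2 := by
  classical
  have sq : ∀ x : M, φ h x ∈ E → x * x = 1 := fun x hx => φ_inj h (by
    rw [map_mul, h2 _ hx, map_one])
  by_cases h0 : E ≤ h.T0
  · by_cases h1 : E ≤ h.E1
    · exact Or.inl (eq_of_le_of_card_ge h1 ((card_E h).1 ▸ hc))
    refine Or.inr (eq_of_le_of_card_ge (fun u hu => ?_) ((card_E h).2 ▸ hc))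
    obtain ⟨v, hv, hv'⟩ := SetLike.not_le_iff_exists.1 h1
    obtain ⟨x, rfl⟩ := (mem_T0 h).1 (h0 hu)
    obtain ⟨y, rfl⟩ := (mem_T0 h).1 (h0 hv)
    exact map_E2 h ▸ mem_map_of_mem _ (((by decide : ∀ x y : M, x * x = 1 → y * y = 1 →
      x * y * (x * y) = 1 → y.l = false ∨ x.k = false) x y (sq x hu) (sq y hv)
      (sq _ (map_mul (φ h) x y ▸ mul_mem hu hv))).resolve_left fun e =>
        hv' (map_E1 h ▸ mem_map_of_mem _ e))
  obtain ⟨v, hv, hv'⟩ := SetLike.not_le_iff_exists.1 h0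
  have he : h.e ≠ 1 := fun e => hv' ((mem_T h (hE hv)).elim id fun h3 => by simpa [e] using h3)
  obtain ⟨y, hy⟩ := (mem_T0 h).1 ((mem_T h (hE hv)).resolve_left hv')
  have k : ∀ u ∈ E, u ∈ h.T0 → ∃ i m, u = φ h ⟨i, false, m, false, false⟩ := fun u hu hu' => by
    obtain ⟨x, rfl⟩ := (mem_T0 h).1 hu'
    have h3 : cn (φ h x) v = φ h x := by
      have := h2 _ (mul_mem hu hv)
      rw [cn, inv_eq_of_mul_eq_one_right (h2 v hv), ← mul_left_cancel_iff (a := φ h x), h2 _ hu,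
        ← this]
      simp only [mul_assoc]
    rw [← inv_mul_cancel_right v h.e, ← hy, show cn (φ h x) (φ h y * h.e) =
      cn (φ h (y⁻¹ * x * y)) h.e by simp [cn, mul_assoc], ε_φ h he] at h3
    obtain ⟨h4, h5, h6⟩ := (by decide : ∀ x y : M, x * x = 1 → (y⁻¹ * x * y).ε = x →
      x.j = false ∧ x.k = false ∧ x.l = false) x y (sq x hu) (φ_inj h h3)
    exact ⟨x.i, x.m, congrArg _ ((M.mk.injEq ..).mpr ⟨rfl, h4, rfl, h5, h6⟩)⟩
  have := Nat.card_le_card_of_surjective (α := Bool × Bool × Bool) (β := E)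
    (fun p => if h3 : φ h ⟨p.1, false, p.2.1, false, false⟩ * bp p.2.2 v ∈ E then ⟨_, h3⟩ else 1)
    (fun ⟨u, hu⟩ => by
      by_cases h3 : u ∈ h.T0
      · obtain ⟨i, m, rfl⟩ := k u hu h3
        exact ⟨(i, m, false), by simp [bp, hu]⟩
      · obtain ⟨i, m, h4⟩ := k _ (mul_mem hu (inv_mem hv)) (by
          convert mul_mem ((mem_T h (hE hu)).resolve_left h3)
            (inv_mem ((mem_T h (hE hv)).resolve_left hv')) using 1; group)
        exact ⟨(i, m, true), by simp [bp, ← h4, hu]⟩)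
  simp at this
  omega

theorem into [Finite G] (u : G) (R : Subgroup G) (hu : IsConj h.t u) (hR : IsPGroup 2 R)
    (hc : R ≤ centralizer {u}) : ∃ g : G, cn u g = h.t ∧ ∀ x ∈ R, cn x g ∈ h.T := by
  obtain ⟨k, rfl⟩ := isConj_iff.1 hu
  obtain ⟨c, hc1, hc2⟩ := h.syl.exists_cj_le (isPGroup_cj k⁻¹ hR) (fun x hx => by
    have := mem_centralizer_singleton_iff.1 (hc (mem_cj.1 hx))
    rw [mem_centralizer_singleton_iff]
    simpa [mul_assoc] using congrArg (· * k) this)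
  refine ⟨k * c⁻¹, ?_, fun x hx => ?_⟩
  · simp [cn, mul_assoc, ← mul_assoc c, mem_centralizer_singleton_iff.1 hc1]
  · simpa [cn, mul_assoc] using hc2 (conj_mem_cj (conj_mem_cj hx))

/-- the first half of the kit -/
theorem kitA (tr : TrStmt.{u}) (sm : SmallStmt.{u}) : KitAStmt.{u} := by
  intro G _ _ h
  have hz : h.z ∈ h.X := zab h.toPre ▸ cmX h.toPre _ _
  have ha : h.a ∈ h.X := h.zr ▸ h.Xn.conj_mem' _ hz _
  have hb : h.b ∈ h.X := h.zs ▸ h.Xn.conj_mem' _ hz _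
  have sylX : ∀ S : Subgroup G, IsSyl 2 S ⊤ → IsSyl 2 (S ⊓ h.X) h.X := fun S hS =>
    hS.inf_of_le_normalizer le_top (normalizer_eq_top_iff.2 h.Xn).ge
  refine ⟨⟨ha, hb, hz⟩, odX h.toPre, sqX h.toPre, cmX h.toPre, muX h.toPre, card_T0 h, ?_,
    ⟨(card_E h).1, (card_E h).2, ?_, ?_⟩, fun S hS => ?_, fun h1 => ?_, fun c hc u hu h1 => ?_,
    into h, j16 h, fun Q S hS ht hQ hC => ?_, fun S N B u hS hN hc hu h1 h2 h3 h4 h5 h6 => ?_,
    fun S N B u hS hN hc h1 h2 h3 hB h4 h5 h6 => ?_, fun S N hS hN h2 h3 => ?_, sylX⟩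
  · by_cases he : h.e = 1
    · exact Or.inl ⟨he, le_antisymm (fun u hu => (mem_T h hu).elim id fun h3 => by
        simpa [he] using h3) (T0_le h)⟩
    · exact Or.inr ⟨he, e_notMem h he, card_T h he⟩
  · rw [← map_E1]
    rintro _ ⟨x, hx, rfl⟩
    rw [← map_mul, (by decide : ∀ x : M, x.l = false → x * x = 1) x hx, map_one]
  · rw [← map_E2]
    rintro _ ⟨x, hx, rfl⟩
    rw [← map_mul, (by decide : ∀ x : M, x.k = false → x * x = 1) x hx, map_one]
  · have h1 : (h.a * h.b) ^ 2 = h.z := by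
      rw [← φ_a, ← φ_b, ← φ_z, ← map_mul, ← map_pow]
      congr 1
    have h2 := sm h.X h.Xs h.X5 ⟨_, ha⟩ ⟨_, hb⟩ (Subtype.ext h.aa) (Subtype.ext h.bb)
      (Subtype.ext (show (h.a * h.b) ^ (2 * 2) = 1 by rw [pow_mul, h1, sq, h.zz]))
      (fun e => h.z1 (h1 ▸ congrArg Subtype.val e))
    have h3 := (sylX S hS).toSylow.pow_dvd_card_of_pow_dvd_card (n := 8) h2
    rw [IsSyl.coe_toSylow, Nat.card_congr (subgroupOfEquivOfLe (sylX S hS).le).toEquiv] at h3
    exact Nat.le_of_dvd Nat.card_pos h3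
  · have haT : h.a ∈ h.T := h.hT ▸ subset_closure (by simp)
    have hbT : h.b ∈ h.T := h.hT ▸ subset_closure (by simp)
    obtain ⟨g, hg, hg'⟩ := into h h.z (closure {h.a, h.b}) h1
      (h.syl.isPGroup.to_le (h.LiT.ge.trans inf_le_right)) ((closure_le _).2 (by
        rintro _ (rfl | rfl)
        exacts [mem_centralizer_singleton_iff.2 h.za.symm, mem_centralizer_singleton_iff.2 h.zb.symm]))
    refine h.tL ?_
    convert comm_D0 h (hg' h.a (subset_closure (by simp))) (hg' h.b (subset_closure (by simp))) using 1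
    rw [← hg, zab h.toPre]
    simp [cn, mul_assoc]
  · obtain ⟨l, hl, v, hv, rfl⟩ := h.CL c hc
    refine h.LiT.le ⟨?_, h.T.mul_mem (h.T.inv_mem hu) h1⟩
    convert mul_mem (comm_D0 h hu hv) (cnL h.toPre (TC h.toPre hv)
      (mul_mem (cnL h.toPre (TC h.toPre hu) (inv_mem hl)) hl)) using 1
    simp [cn, mul_assoc]
  · obtain ⟨g, hg, hg'⟩ := SetLike.exists_of_lt (lt_inf_normalizer_of_lt hS hQ)
    obtain ⟨n, hn⟩ := hS ⟨g, hg.1⟩
    obtain ⟨k, hk, hk'⟩ := exists_sq_mem hg' (show g ^ 2 ^ n ∈ Q by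
      rw [show g ^ 2 ^ n = 1 from congrArg Subtype.val hn]; exact one_mem _)
    refine ⟨g ^ k, pow_mem hg.1 k, hk, pow_mem hg.2 k, hk', fun q hq e => hk ?_⟩
    refine (mul_mem_cancel_right (inv_mem hq)).1 (hC ⟨S.mul_mem (S.pow_mem hg.1 k) (S.inv_mem (hQ.le hq)),
      mem_centralizer_singleton_iff.2 ?_⟩)
    calc g ^ k * q⁻¹ * h.t = g ^ k * cn h.t q * q⁻¹ := by simp [cn, mul_assoc]
      _ = _ := by rw [← e]; simp [cn, mul_assoc]
  · obtain ⟨K, -, hK, hK'⟩ := tr G ⊤ S N hS hN hc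
    exact (hK' u u B h1 h3 le_top h4 h5 h2 fun g _ => h6 g).1
      (X_le h.toPre (fun x _ y _ => hK x trivial y trivial) hu)
  · obtain ⟨K, -, hK, hK'⟩ := tr G h.X S N hS hN hc
    exact (hK' u u B h1 h3 hB h4 h5 h2 h6).1 (X_le h.toPre hK (hB h3))
  · have mu : ∀ x ∈ S, ∀ y ∈ S, x * y ∈ N ↔ (x ∈ N ↔ y ∈ N) := fun x hx y hy =>
      mul_mem_iff_of_index_two (H := N.subgroupOf S) h2 (a := ⟨x, hx⟩) (b := ⟨y, hy⟩)
    obtain ⟨K, -, hK, hK'⟩ := tr G ⊤ S N hS hN fun x hx y hy => by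
      rw [mu _ (mul_mem (mul_mem (inv_mem hx) (inv_mem hy)) hx) _ hy,
        mu _ (mul_mem (inv_mem hx) (inv_mem hy)) _ hx, mu _ (inv_mem hx) _ (inv_mem hy), inv_mem_iff,
        inv_mem_iff]
      tauto
    have hX := X_le h.toPre fun x _ y _ => hK x trivial y trivial
    obtain ⟨c, hc, hc'⟩ : ∃ c ∈ S, c ∉ N := by
      by_contra H
      push Not at H
      rw [relIndex_eq_one.2 H] at h2
      omega
    have htT : h.t ∈ h.T := h.hT ▸ subset_closure (by simp)
    have ht : h.t ∉ K := fun e => hc' ((hK' h.t c h.T h.tt htT le_top h.syl.isPGroup h.syl.le hc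
      fun g _ hg => (mu _ (inv_mem hc) _ (hg _ htT)).2 (by simp [hc', h3 g hg])).1 e)
    refine ⟨fun e => ht (hX e), fun u B h4 h5 h6 h7 h8 => ?_⟩
    have hu := (hK' u 1 B h4 h5 le_top h6 h7 (one_mem _) fun g _ hg => by
      simpa using h8 g hg).2 (one_mem _)
    exact (mem_or h.toPre u).resolve_right fun e => ht ((mul_mem_cancel_left hu).1 (hX e))

end Cfsg.Agent.H60.LT
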