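import Cfsg.Agent.H60.LTKitA
import Cfsg.Agent.H3.LTB1
import Cfsg.Agent.H2.Har2

/-! Case (b) of the action of `N(T₀)` on `Z` is impossible; `f ∈ X` in the cases (a), (c''). -/

set_option autoImplicit false
set_option linter.unusedSectionVars false

namespace Cfsg.Agent.H60.LT

open Subgroup H85 H93.LT
open H3.LTB (cn_comm comm_of_cn cn_mem mem_N_closure)

universe u

variable {G : Type u} [Group G]

theorem card_orbit (N : Subgroup G) (z : G) :
    {a | ∃ m ∈ N, cn z m = a}.ncard * Nat.card ↥(N ⊓ centralizer {z}) = Nat.card N := by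
  let _ := MulAction.compHom G ((MulAut.conj : G →* MulAut G).comp N.subtype)
  have e1 : MulAction.orbit N z = {a | ∃ m ∈ N, cn z m = a} := by
    ext a
    exact ⟨fun ⟨m, e⟩ => ⟨m.1⁻¹, inv_mem m.2, by rw [cn, inv_inv]; exact e⟩,
      fun ⟨m, hm, e⟩ => ⟨⟨m⁻¹, inv_mem hm⟩, by
        change m⁻¹ * z * m⁻¹⁻¹ = a
        rwa [inv_inv]⟩⟩
  have e2 : MulAction.stabilizer N z = (N ⊓ centralizer {z}).subgroupOf N := by
    ext m
    rw [MulAction.mem_stabilizer_iff, mem_subgroupOf, mem_inf, and_iff_right m.2,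
      mem_centralizer_singleton_iff, ← mul_inv_eq_iff_eq_mul]
    rfl
  rw [← e1, ← MulAction.index_stabilizer, ← index_mul_card (MulAction.stabilizer N z), e2,
    Nat.card_congr (subgroupOfEquivOfLe inf_le_left).toEquiv]

theorem cn_cn (x g k : G) : cn (cn x g) k = cn x (g * k) := by simp [cn, mul_assoc]

theorem isConj_cn (x g : G) : IsConj x (cn x g) := isConj_iff.2 ⟨g⁻¹, by simp [cn]⟩

/-- substitution of generators in the model -/
def M.sub (t f z a b x : M) : M := bp x.i t * bp x.j f * bp x.m z * (bp x.k a * bp x.l b)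

theorem cn_φ (h : Hyp G) {g : G} {t f z a b : M} (x : M) (ht : cn h.t g = φ h t)
    (hf : cn h.f g = φ h f) (hz : cn h.z g = φ h z) (ha : x.k = true → cn h.a g = φ h a)
    (hb : x.l = true → cn h.b g = φ h b) : cn (φ h x) g = φ h (M.sub t f z a b x) := by
  have k : ∀ (c : Bool) (y : G) (y' : M), (c = true → cn y g = φ h y') →
      cn (bp c y) g = φ h (bp c y') := fun c y y' e => by cases c <;> simp [bp, cn, ← e]
  rw [φ_apply]
  simp only [cn_mul, M.sub, map_mul, k _ _ _ ha, k _ _ _ hb, k _ _ _ fun _ => ht,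
    k _ _ _ fun _ => hf, k _ _ _ fun _ => hz]

theorem mem_Z (h : Hyp G) {x : M} (h1 : x.k = false) (h2 : x.l = false) : φ h x ∈ h.Z := by
  rw [φ_apply, h1, h2]
  exact mul_mem (mul_mem (mul_mem (bp_mem (subset_closure (by simp)) _)
    (bp_mem (subset_closure (by simp)) _)) (bp_mem (subset_closure (by simp)) _))
    (by simp [bp])

/-- the action of `r` on `E₁` -/
def M.ρ : M → M := M.sub M.t M.f M.a (M.a * M.z) 1

/-- the action of `s` on `E₂` -/
def M.σ : M → M := M.sub M.t (M.f * M.z * M.b) M.b 1 (M.b * M.z)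

theorem cn_r (h : Hyp G) {x : M} (hx : x.l = false) : cn (φ h x) h.r = φ h x.ρ :=
  cn_φ h x (by rw [cn_comm h.rt.symm, φ_t]) (by rw [cn_comm h.rf.symm, φ_f]) (by rw [h.zr, φ_a])
    (fun _ => by rw [h.ar, map_mul, φ_a, φ_z]) fun e => by simp [hx] at e

theorem cn_s (h : Hyp G) {x : M} (hx : x.k = false) : cn (φ h x) h.s = φ h x.σ :=
  cn_φ h x (by rw [cn_comm h.st.symm, φ_t]) (by
    rw [map_mul, map_mul, φ_f, φ_z, φ_b, ← cn_comm h.sf.symm, ← h.zs, ← cn_mul, mul_assoc, h.zz,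
      mul_one]) (by rw [h.zs, φ_b]) (fun e => by simp [hx] at e)
    fun _ => by rw [h.bs, map_mul, φ_b, φ_z]

/-- the conjugates of `t` in `T₀` in case (b) -/
def M.Om (x : M) : Prop := x = M.t ∨ x = M.t * M.f ∨ x = (M.t * M.f).σ ∨ x = (M.t * M.f).σ.σ

instance : DecidablePred M.Om := fun _ => inferInstanceAs (Decidable (_ ∨ _))

theorem om_of (h : RB G) {x : M} (hx : IsConj h.t (φ h.toHyp x)) : x.Om := by
  have k : ∀ y : M, IsConj h.t (φ h.toHyp y) → y.k = false → y.l = false →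
      y = M.t ∨ y = M.t * M.f := fun y hy h1 h2 => (h.DZ _ (mem_Z h.toHyp h1 h2) hy).imp
    (fun e => φ_inj h.toHyp (e.trans (φ_t _).symm))
    fun e => φ_inj h.toHyp (by rw [e, map_mul, φ_t, φ_f])
  have h1 : x * x = 1 := φ_inj h.toHyp (by
    obtain ⟨c, hc⟩ := isConj_iff.1 hx
    rw [map_mul, ← hc, conj_mul, h.tt, map_one, mul_one, mul_inv_cancel])
  have kr : ∀ y : M, y.l = false → IsConj h.t (φ h.toHyp y) → IsConj h.t (φ h.toHyp y.ρ) :=
    fun y hy e => e.trans (cn_r h.toHyp hy ▸ isConj_cn _ _)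
  have ks : ∀ y : M, y.k = false → IsConj h.t (φ h.toHyp y) → IsConj h.t (φ h.toHyp y.σ) :=
    fun y hy e => e.trans (cn_s h.toHyp hy ▸ isConj_cn _ _)
  rcases (by decide : ∀ x : M, x * x = 1 → (x.l = false ∧ x.ρ.l = false) ∨
    (x.k = false ∧ x.σ.k = false)) x h1 with ⟨h2, h3⟩ | ⟨h2, h3⟩
  · exact (by decide : ∀ x : M, x.l = false →
      (∀ y ∈ [x, x.ρ, x.ρ.ρ], y.k = false → y.l = false → y = M.t ∨ y = M.t * M.f) → x.Om) x h2
      (by simpa using ⟨k _ hx, k _ (kr _ h2 hx), k _ (kr _ h3 (kr _ h2 hx))⟩)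
  · exact (by decide : ∀ x : M, x.k = false →
      (∀ y ∈ [x, x.σ, x.σ.σ], y.k = false → y.l = false → y = M.t ∨ y = M.t * M.f) → x.Om) x h2
      (by simpa using ⟨k _ hx, k _ (ks _ h2 hx), k _ (ks _ h3 (ks _ h2 hx))⟩)

theorem bStmt (hk : KitStmt.{u}) : BStmt.{u} := by
  intro G _ _ h
  have K := hk G h.toHyp
  set ψ := φ h.toHyp with hψ
  have inj : Function.Injective ψ := φ_inj h.toHyp
  have hT : h.T = h.T0 := (K.cT.resolve_right fun e => e.1 h.e1).2
  have mE : ∀ x : M, x.k = false → ψ x ∈ h.E2 := fun x hx => map_E2 h.toHyp ▸ mem_map_of_mem _ hx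
  have tE : h.t ∈ h.E2 := subset_closure (by simp)
  have hN0 : h.T0 ≤ normalizer (h.E2 : Set G) := by
    rw [← H3.LTB.m_E1, ← H3.LTB.m_T0]; exact H3.LTB.T0_N _
  have hs : h.s ∈ normalizer (h.E2 : Set G) := by
    rw [← H3.LTB.m_E1]; exact H3.LTB.r_N (H3.LTB.mirror h.toHyp)
  have hy : h.y ∈ normalizer (h.E2 : Set G) := mem_N_closure (by
    have hf : h.f ∈ h.E2 := subset_closure (by simp)
    have hz : h.z ∈ h.E2 := subset_closure (by simp)
    rintro x (rfl | rfl | rfl | rfl)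
    · exact h.ty ▸ mul_mem tE hf
    · change _ ∈ h.E2
      rw [zab h.toPre]
      simp only [cn_mul, show ∀ x : G, cn x⁻¹ h.y = (cn x h.y)⁻¹ by simp [cn, mul_assoc], h.by,
        cn_comm h.ya.symm]
      simpa [map_mul, hψ, φ_a, φ_b, φ_f, φ_z, mul_assoc] using
        mE (M.a⁻¹ * (M.b * M.f * M.z)⁻¹ * M.a * (M.b * M.f * M.z)) (by decide)
    · exact (cn_comm h.yf.symm).symm ▸ hf
    · exact h.by ▸ mul_mem (mul_mem (subset_closure (by simp)) hf) hz)
  have om : ∀ n ∈ normalizer (h.E2 : Set G), ∀ x : M, x.Om → IsConj h.t (ψ x) →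
      ∃ y : M, y.Om ∧ cn (ψ x) n = ψ y := fun n hn x hx hc => by
    obtain ⟨y, hy⟩ := (mem_T0 h.toHyp).1 (H3.LTB.E2_T0 h.toHyp (cn_mem hn (mE x
      ((by decide : ∀ x : M, x.Om → x.k = false) x hx))))
    exact ⟨y, om_of h (hy ▸ hc.trans (isConj_cn _ _)), hy.symm⟩
  have tψ : ψ M.t = h.t := φ_t _
  have om1 : ∀ n ∈ normalizer (h.E2 : Set G), cn h.t n ∈ ψ '' {x | x.Om} := fun n hn => by
    obtain ⟨y, h1, h2⟩ := om n hn M.t (Or.inl rfl) (tψ ▸ IsConj.refl _)
    exact ⟨y, h1, tψ ▸ h2.symm⟩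
  have c4 : (ψ '' {x | x.Om}).ncard = 4 := by
    rw [Set.ncard_image_of_injective _ inj, ← Nat.card_coe_set_eq]
    exact (Nat.card_eq_fintype_card (α := {x : M // x.Om})).trans rfl
  have o1 : {a | ∃ m ∈ normalizer (h.E2 : Set G), cn h.t m = a} = ψ '' {x | x.Om} := by
    refine Set.Subset.antisymm (by rintro _ ⟨n, hn, rfl⟩; exact om1 n hn) ?_
    have e1 : cn h.t h.y = ψ (M.t * M.f) := by rw [h.ty, map_mul, φ_t, φ_f]
    rintro _ ⟨x, rfl | rfl | rfl | rfl, rfl⟩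
    · exact ⟨1, one_mem _, by simp [cn, tψ]⟩
    · exact ⟨_, hy, e1⟩
    · exact ⟨_, mul_mem hy hs, by rw [← cn_cn, e1, cn_s _ rfl]⟩
    · exact ⟨_, mul_mem (mul_mem hy hs) hs, by rw [← cn_cn, ← cn_cn, e1, cn_s _ rfl, cn_s _ rfl]⟩
  have p0 : IsPGroup 2 h.T0 := hT ▸ h.syl.isPGroup
  have cT : ∀ S : Subgroup G, IsPGroup 2 S → h.T0 ≤ S → S ⊓ centralizer {h.t} = h.T0 :=
    fun S hS h1 => hT ▸ h.syl.eq_of_le hS.to_inf_left (le_inf (hT ▸ h1) h.syl.le) inf_le_right
  obtain ⟨Q, hQ, hQ0⟩ := exists_isSyl_ge p0 hN0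
  have n1 := card_orbit (normalizer (h.E2 : Set G)) h.t
  have n2 := card_orbit Q h.t
  rw [cT Q hQ.isPGroup hQ0, K.cT0] at n2
  rw [o1, c4] at n1
  have n3 : 2 ^ 7 ∣ Nat.card Q := by
    have := hQ.toSylow.pow_dvd_card_of_pow_dvd_card (n := 7) (n1 ▸ Nat.mul_dvd_mul_left 4
      (K.cT0 ▸ card_dvd_of_le (le_inf hN0 (hT ▸ h.syl.le))))
    rwa [IsSyl.coe_toSylow, Nat.card_congr (subgroupOfEquivOfLe hQ.le).toEquiv] at this
  have sub : {a | ∃ m ∈ Q, cn h.t m = a} ⊆ ψ '' {x | x.Om} := by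
    rintro _ ⟨n, hn, rfl⟩; exact om1 n (hQ.le hn)
  have n4 := Set.ncard_le_ncard sub
  have n5 := Nat.le_of_dvd Nat.card_pos n3
  have o2 := Set.eq_of_subset_of_ncard_le sub (by omega)
  obtain ⟨S, hS, hQS⟩ := exists_isSyl_ge hQ.isPGroup (le_top (a := Q))
  have tQ : h.t ∈ Q := hQ0 (subset_closure (by simp))
  obtain ⟨g, -, -, hg, -, hg'⟩ := K.climb Q S hS.isPGroup tQ (lt_of_le_of_ne hQS fun e => by
    have := (K.big S hS).trans (card_le_of_le (inf_le_left.trans e.ge))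
    omega) ((cT S hS.isPGroup (hQ0.trans hQS)).le.trans hQ0)
  set u := cn h.t g with hu
  have uQ : u ∈ Q := cn_mem hg tQ
  have tr : ∀ x : M, x.Om → ∃ q ∈ Q, cn h.t q = ψ x := fun x hx => o2.ge ⟨x, hx, rfl⟩
  have mv : ∀ x : M, x.Om → ∃ y : M, y.Om ∧ y ≠ x ∧ cn (ψ x) u = ψ y := fun x hx => by
    obtain ⟨q, hq, e⟩ := tr x hx
    obtain ⟨y, h1, h2⟩ := om u (hQ.le uQ) x hx (e ▸ isConj_cn _ _)
    refine ⟨y, h1, fun e1 => ?_, h2⟩
    rw [e1, ← e] at h2
    obtain ⟨w, hw⟩ := (mem_T0 h.toHyp).1 ((cT Q hQ.isPGroup hQ0).le (mem_inf.2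
      ⟨cn_mem (le_normalizer (inv_mem hq)) uQ, mem_centralizer_singleton_iff.2 (by
        simpa [cn, mul_assoc] using congrArg (fun v => q * v * q⁻¹) (comm_of_cn h2).symm)⟩))
    obtain ⟨q', hq', e'⟩ := tr w (om_of h (hw ▸ (isConj_cn _ g).trans (isConj_cn _ _)))
    exact hg' _ (mul_mem hq' hq) (by rw [← cn_cn, e', hψ, hw, cn_cn, inv_mul_cancel]; simp [cn, hu])
  have bk : ∀ x y : M, x.k = false → cn (ψ x) u = ψ y →
      ∃ w : M, w.Om ∧ ψ w = h.t * cn (ψ (y⁻¹ * x)) g⁻¹ := fun x y hx e => by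
    obtain ⟨w, h1, h2⟩ := om1 _ (hQ.le (cn_mem (inv_mem hg)
      (hQ0 (H3.LTB.E2_T0 h.toHyp (mE x hx)))))
    refine ⟨w, h1, ?_⟩
    rw [h2, map_mul, map_inv, ← e, hu]
    simp [cn, mul_assoc]
  obtain ⟨t', ht1, ht2, ht3⟩ := mv M.t (Or.inl rfl)
  have fin : ∀ x : M, x.Om → ∃ y : M, y.Om ∧ t' * y = M.t * x := fun x hx => by
    obtain ⟨y, h1, h2, h3⟩ := mv x hx
    have hx' := (by decide : ∀ x : M, x.Om → x.k = false) x hx
    obtain ⟨w1, a1, b1⟩ := bk _ _ rfl ht3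
    obtain ⟨w2, a2, b2⟩ := bk _ _ hx' h3
    obtain ⟨w3, a3, b3⟩ := bk (M.t * x) (t' * y) (show (false ^^ x.k) = false by simpa using hx')
      (by rw [map_mul, cn_mul, ht3, h3, map_mul])
    have k : ∀ w c : M, ψ w = h.t * cn (ψ c) g⁻¹ → (w = M.t ↔ c = 1) := fun w c e => by
      rw [← inj.eq_iff, e, tψ, mul_eq_left, ← inj.eq_iff, map_one]
      simp [cn]
    have e3 : w3 = w1 * M.t * w2 := inj (by
      rw [map_mul, map_mul, b1, b2, b3, tψ, mul_assoc _ h.t, ← mul_assoc h.t h.t, h.tt, one_mul,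
        mul_assoc, ← cn_mul, ← map_mul, (by decide : ∀ x y t' : M, x.Om → y.Om → t'.Om →
          (t' * y)⁻¹ * (M.t * x) = t'⁻¹ * M.t * (y⁻¹ * x)) x y t' hx h1 ht1])
    refine ⟨y, h1, inv_mul_eq_one.1 ((k _ _ b3).1 ?_)⟩
    exact (by decide : ∀ a b : M, a.Om → b.Om → (a * M.t * b).Om → a ≠ M.t → b ≠ M.t →
      a * M.t * b = M.t) w1 w2 a1 a2 (e3 ▸ a3) (fun e => ht2 (inv_mul_eq_one.1 ((k _ _ b1).1 e)))
      (fun e => h2 (inv_mul_eq_one.1 ((k _ _ b2).1 e))) ▸ e3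
  exact ht2 ((by decide : ∀ t' : M, t'.Om → (∀ x : M, x.Om → ∃ y : M, y.Om ∧ t' * y = M.t * x) →
    t' = M.t) t' ht1 fin)

/-- the extraspecial group `D₈ ∘ D₈` -/
structure N where
  m : Bool
  k : Bool
  l : Bool
  p : Bool
  q : Bool
  deriving DecidableEq, Fintype

instance : Mul N := ⟨fun x y =>
  ⟨((x.m ^^ y.m) ^^ (x.l && y.k)) ^^ (x.q && y.p), x.k ^^ y.k, x.l ^^ y.l, x.p ^^ y.p, x.q ^^ y.q⟩⟩
instance : One N := ⟨⟨false, false, false, false, false⟩⟩
instance : Inv N := ⟨fun x => ⟨(x.m ^^ (x.l && x.k)) ^^ (x.q && x.p), x.k, x.l, x.p, x.q⟩⟩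
instance : Group N := Group.ofLeftAxioms
  (fun ⟨m, _, l, _, q⟩ ⟨m', k', l', p', q'⟩ ⟨m'', k'', _, p'', _⟩ => (N.mk.injEq ..).mpr ⟨by
    change (((((m ^^ m') ^^ (l && k')) ^^ (q && p')) ^^ m'') ^^ ((l ^^ l') && k'') ^^
      ((q ^^ q') && p'')) = (((m ^^ (((m' ^^ m'') ^^ (l' && k'')) ^^ (q' && p''))) ^^
      (l && (k' ^^ k''))) ^^ (q && (p' ^^ p'')))
    simp only [Bool.and_xor_distrib_left, Bool.and_xor_distrib_right, Bool.xor_assoc,
      Bool.xor_comm, Bool.xor_left_comm],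
    Bool.xor_assoc .., Bool.xor_assoc .., Bool.xor_assoc .., Bool.xor_assoc ..⟩)
  (by decide) (by decide)

/-- quaternion subgroups -/
def N.quat (i j : N) : QuaternionGroup 2 → N
  | .a n => i ^ n.val
  | .xa n => j * i ^ n.val

def N.q1 : QuaternionGroup 2 →* N :=
  MonoidHom.mk' (N.quat ⟨false, true, true, false, false⟩ ⟨false, true, false, true, true⟩) (by decide)

def N.q2 : QuaternionGroup 2 →* N :=
  MonoidHom.mk' (N.quat ⟨false, false, false, true, true⟩ ⟨false, true, true, true, false⟩) (by decide)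

theorem bp_pair {z a b : G} (aa : a * a = 1) (bb : b * b = 1) (za : Commute z a)
    (ba : b * a = z * (a * b)) (k l k' l' : Bool) : bp k a * bp l b * (bp k' a * bp l' b) =
      bp (l && k') z * (bp (k ^^ k') a * bp (l ^^ l') b) := by
  have d : bp l b * bp k' a = bp (l && k') z * (bp k' a * bp l b) := by
    cases l <;> cases k' <;> simp [bp, ba]
  rw [bp_xor aa, bp_xor bb, mul_assoc (bp k a), ← mul_assoc (bp l b), d]
  simp only [mul_assoc]
  rw [(bp_comm za _ k).left_comm]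

/-- a `2`-group with a self-centralising subgroup `D₈ ∘ D₈` has sectional rank at most four -/
theorem sec_dd [Finite G] (hS : IsPGroup 2 G) {z a b c d : G} (z1 : z ≠ 1) (zz : z * z = 1)
    (aa : a * a = 1) (bb : b * b = 1) (cc : c * c = 1) (dd : d * d = 1) (za : Commute z a)
    (zb : Commute z b) (zc : Commute z c) (zd : Commute z d) (ac : Commute a c) (ad : Commute a d)
    (bc : Commute b c) (bd : Commute b d) (ba : b * a = z * (a * b)) (dc : d * c = z * (c * d))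
    (hC : ∀ x, Commute a x → Commute b x → Commute c x → Commute d x → x = 1 ∨ x = z) :
    H2.Sec G 16 := by
  let ψ : N →* G := MonoidHom.mk'
    (fun x => bp x.m z * (bp x.k a * bp x.l b * (bp x.p c * bp x.q d))) fun x y => by
      have c1 : ∀ m k l, Commute (bp m z) (bp k a * bp l b) := fun m k l =>
        (bp_comm za _ _).mul_right (bp_comm zb _ _)
      have c2 : ∀ m k l, Commute (bp m z) (bp k c * bp l d) := fun m k l =>
        (bp_comm zc _ _).mul_right (bp_comm zd _ _)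
      have c3 : ∀ k l p q, Commute (bp k a * bp l b) (bp p c * bp q d) := fun k l p q =>
        ((bp_comm ac _ _).mul_right (bp_comm ad _ _)).mul_left
          ((bp_comm bc _ _).mul_right (bp_comm bd _ _))
      change bp (((x.m ^^ y.m) ^^ (x.l && y.k)) ^^ (x.q && y.p)) z * (bp (x.k ^^ y.k) a *
        bp (x.l ^^ y.l) b * (bp (x.p ^^ y.p) c * bp (x.q ^^ y.q) d)) = _
      rw [((c1 _ _ _).mul_right (c2 _ _ _)).symm.mul_mul_mul_comm, (c3 _ _ _ _).symm.mul_mul_mul_comm,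
        bp_pair aa bb za ba, bp_pair cc dd zc dc, (c1 _ _ _).symm.mul_mul_mul_comm, bp_xor zz,
        bp_xor zz, bp_xor zz]
      simp only [mul_assoc]
  have ap : ∀ x, ψ x = bp x.m z * (bp x.k a * bp x.l b * (bp x.p c * bp x.q d)) := fun _ => rfl
  have hz : ψ ⟨true, false, false, false, false⟩ = z := by simp [ap, bp]
  have inj : Function.Injective ψ := (injective_iff_map_eq_one _).2 fun x hx => by
    rcases (by decide : ∀ x : N, x = 1 ∨ x = ⟨true, false, false, false, false⟩ ∨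
      ∃ y, x⁻¹ * y⁻¹ * x * y = ⟨true, false, false, false, false⟩) x with e | rfl | ⟨y, e⟩
    · exact e
    · exact absurd (hz ▸ hx) z1
    · exact absurd (by simpa [hx, hz] using (congrArg ψ e).symm) z1
  have e : (ψ.comp N.q1).range ⊔ (ψ.comp N.q2).range = ψ.range := by
    rw [← MonoidHom.map_range, ← MonoidHom.map_range, ← Subgroup.map_sup, MonoidHom.range_eq_map ψ]
    refine congrArg _ (eq_top_iff.2 fun x _ => ?_)
    obtain ⟨u, v, rfl⟩ := (by decide +kernel : ∀ x : N, ∃ u v, x = N.q1 u * N.q2 v) x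
    exact mul_mem (mem_sup_left ⟨u, rfl⟩) (mem_sup_right ⟨v, rfl⟩)
  refine H2.sec_of_quat hS
    (MonoidHom.ofInjective (f := ψ.comp N.q1) (inj.comp (by decide : Function.Injective N.q1))).symm
    (MonoidHom.ofInjective (f := ψ.comp N.q2) (inj.comp (by decide : Function.Injective N.q2))).symm
    ?_ ?_ fun x hx => ?_
  · rintro _ ⟨u, rfl⟩ _ ⟨v, rfl⟩
    simp only [MonoidHom.comp_apply, ← map_mul ψ]
    rw [(by decide : ∀ u v, N.q1 u * N.q2 v = N.q2 v * N.q1 u)]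
  · rw [e, ← Nat.card_congr (MonoidHom.ofInjective inj).toEquiv, Nat.card_eq_fintype_card]
    rfl
  · rw [e] at hx ⊢
    rcases hC x (hx _ ⟨⟨false, true, false, false, false⟩, by simp [ap, bp]⟩)
      (hx _ ⟨⟨false, false, true, false, false⟩, by simp [ap, bp]⟩)
      (hx _ ⟨⟨false, false, false, true, false⟩, by simp [ap, bp]⟩)
      (hx _ ⟨⟨false, false, false, false, true⟩, by simp [ap, bp]⟩) with rfl | rfl
    exacts [one_mem _, ⟨_, hz⟩]

theorem fxStmt (hk : KitStmt.{u}) : FXStmt.{u} := by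
  intro G _ _ h hx
  have K := hk G h.toHyp
  set ψ := φ h.toHyp with hψ
  have inj : Function.Injective ψ := φ_inj h.toHyp
  by_contra hf
  have tX : h.t ∉ h.X := fun e => hf ((mem_or h.toPre h.f).elim id (mul_mem_cancel_right e).1)
  have cX : h.f * h.t ∈ h.X := K.muX _ _ hf tX
  have xz : Commute h.x h.z := H3.LTB.comm_z _ h.xa h.xb
  have tz := tz h.toPre
  have fz := fz h.toPre
  have p0 : IsPGroup 2 h.T0 := h.syl.isPGroup.to_le (T0_le h.toHyp)
  have mT : ∀ x, ψ x ∈ h.T0 := fun x => (mem_T0 h.toHyp).2 ⟨x, rfl⟩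
  have fT : h.f ∈ h.T0 := subset_closure (by simp)
  obtain ⟨S, hS, hR⟩ := exists_isSyl_ge (p0.to_sup_of_normal_left' (K := zpowers h.x)
    (IsPGroup.of_card_dvd_pow (n := 1) (by
      rw [Nat.card_zpowers, pow_one]; exact orderOf_dvd_of_pow_eq_one (by rw [sq, hx])))
    (zpowers_le_of_mem (mem_N_closure (by
      rintro _ (rfl | rfl | rfl | rfl)
      · exact h.tx ▸ mul_mem (subset_closure (by simp)) (φ_z h.toHyp ▸ mT _)
      · exact (cn_comm h.xf.symm).symm ▸ subset_closure (by simp)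
      · exact (cn_comm h.xa.symm).symm ▸ subset_closure (by simp)
      · exact (cn_comm h.xb.symm).symm ▸ subset_closure (by simp))))) le_top
  have hT : h.T0 ≤ S := le_sup_left.trans hR
  have xS : h.x ∈ S := hR (mem_sup_right (mem_zpowers _))
  obtain ⟨d, dX, dS, dd, da, db, df, dz, td⟩ : ∃ d ∈ h.X, d ∈ S ∧ d * d = 1 ∧ Commute d h.a ∧
      Commute d h.b ∧ Commute d h.f ∧ Commute d h.z ∧ cn h.t d = h.t * h.z := by
    by_cases e : h.x ∈ h.X
    · exact ⟨h.x, e, xS, hx, h.xa, h.xb, h.xf, xz, h.tx⟩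
    · exact ⟨h.x * h.f, K.muX _ _ e hf, mul_mem xS (hT fT), by
        rw [h.xf.symm.mul_mul_mul_comm, hx, h.ff, one_mul], h.xa.mul_left h.fa, h.xb.mul_left h.fb,
        h.xf.mul_left (Commute.refl _), xz.mul_left fz, by
        rw [← cn_cn, h.tx, cn_comm (h.tf.mul_left fz.symm)]⟩
  let C := S ⊓ centralizer {h.a, h.b, h.f * h.t, d}
  have mC : ∀ y, y ∈ C ↔ y ∈ S ∧ Commute h.a y ∧ Commute h.b y ∧ Commute (h.f * h.t) y ∧
      Commute d y := fun y => by simp [C, mem_centralizer_iff, commute_iff_eq]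
  have mP : ∀ y, y ∈ h.P ↔ ∃ j m, ψ ⟨false, j, m, false, false⟩ = y := fun y => by
    have e : ∀ j m, ψ ⟨false, j, m, false, false⟩ = bp j h.f * bp m h.z := fun j m => by
      simp [hψ, φ_apply, bp]
    refine ⟨fun hy => ?_, ?_⟩
    · induction hy using closure_induction with
      | mem y hy =>
        rcases hy with rfl | rfl
        exacts [⟨false, true, φ_z _⟩, ⟨true, false, φ_f _⟩]
      | one => exact ⟨false, false, map_one ψ⟩
      | mul _ _ _ _ h1 h2 =>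
        obtain ⟨j, m, rfl⟩ := h1
        obtain ⟨j', m', rfl⟩ := h2
        exact ⟨j ^^ j', m ^^ m', by
          rw [← map_mul]; congr 1; cases j <;> cases m <;> cases j' <;> cases m' <;> rfl⟩
      | inv _ _ h1 =>
        obtain ⟨j, m, rfl⟩ := h1
        exact ⟨j, m, by rw [← map_inv]; congr 1; cases j <;> cases m <;> rfl⟩
    · rintro ⟨j, m, rfl⟩
      exact e j m ▸ mul_mem (bp_mem (subset_closure (by simp)) _) (bp_mem (subset_closure (by simp)) _)
  have st1 : ∀ y ∈ C, Commute h.t y → y ∈ h.P := fun y hy ht => by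
    obtain ⟨h1, h2, h3, -, h4⟩ := (mC y).1 hy
    have h5 : y ∈ S ⊓ centralizer {h.t} := ⟨h1, mem_centralizer_singleton_iff.2 ht.symm⟩
    have h6 : h.T0 ≤ S ⊓ centralizer {h.t} := le_inf hT ((T0_le h.toHyp).trans h.syl.le)
    have h7 : ∀ v ∈ h.T0, cn h.a v ≠ h.b := fun v hv e => by
      obtain ⟨w, rfl⟩ := (mem_T0 h.toHyp).1 hv
      rw [← φ_a, ← φ_b, cn, ← map_inv, ← map_mul, ← map_mul] at e
      exact (by decide : ∀ x : M, x⁻¹ * M.a * x ≠ M.b) w (inj e)
    obtain ⟨w, rfl⟩ := (mem_T0 h.toHyp).1 (show y ∈ h.T0 by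
      rcases K.cT2 _ hS.isPGroup.to_inf_left h6 inf_le_right with e | ⟨-, e, c, hc, e1, -⟩
      · exact e ▸ h5
      · by_contra e2
        exact h7 _ (H3.LTB.mul_mem_of_card h6 (by rw [e, K.cT0]) h5 hc e2 fun e3 => h7 c e3 e1)
          (by rw [← cn_cn, cn_comm h2, e1]))
    have h8 := cn_φ h.toHyp (g := d) (t := M.t * M.z) (f := M.f) (z := M.z) (a := M.a) (b := M.b) w
      (by rw [td, map_mul, φ_t, φ_z]) (by rw [cn_comm df.symm, φ_f]) (by rw [cn_comm dz.symm, φ_z])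
      (fun _ => by rw [cn_comm da.symm, φ_a]) fun _ => by rw [cn_comm db.symm, φ_b]
    rw [cn_comm h4.symm] at h8
    obtain ⟨e1, e2, e3⟩ := (by decide : ∀ w : M, M.a * w = w * M.a → M.b * w = w * M.b →
      w = M.sub (M.t * M.z) M.f M.z M.a M.b w → w.i = false ∧ w.k = false ∧ w.l = false) w
      (inj (by rw [map_mul, map_mul, φ_a]; exact h2)) (inj (by rw [map_mul, map_mul, φ_b]; exact h3))
      (inj h8)
    exact (mP _).2 ⟨w.j, w.m, congrArg _ ((M.mk.injEq ..).mpr ⟨e1.symm, rfl, rfl, e2.symm, e3.symm⟩)⟩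
  have PC : h.P ≤ C := (closure_le _).2 (by
    rintro _ (rfl | rfl)
    · exact (mC _).2 ⟨hT (φ_z h.toHyp ▸ mT _), h.za.symm, h.zb.symm, fz.mul_left tz, dz⟩
    · exact (mC _).2 ⟨hT fT, h.fa.symm, h.fb.symm, (Commute.refl _).mul_left h.tf, df⟩)
  have st2 : C ≤ h.P := by
    by_contra H
    obtain ⟨y, ⟨hy, hn⟩, hy'⟩ := SetLike.exists_of_lt
      (lt_inf_normalizer_of_lt hS.isPGroup.to_inf_left (lt_of_le_not_ge PC H))
    obtain ⟨-, h2, h3, h4, -⟩ := (mC y).1 hy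
    have h5 : cn h.z y = h.z := cn_comm (H3.LTB.comm_z _ h2.symm h3.symm).symm
    have h6 : cn h.f y = h.f * h.z := by
      obtain ⟨j, m, e⟩ := (mP _).1 (cn_mem hn (subset_closure (by simp) : h.f ∈ h.P))
      have e1 : cn h.f y ∉ h.X := fun e1 => hf (by simpa [cn, mul_assoc] using h.Xn.conj_mem _ e1 y)
      cases j <;> cases m <;> simp [hψ, φ_apply, bp] at e
      · exact absurd (e ▸ one_mem _) e1
      · exact absurd (e ▸ K.aX.2.2) e1
      · exact absurd (st1 y hy (by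
          simpa using (show Commute h.f y from comm_of_cn e.symm).inv_left.mul_left h4)) hy'
      · exact e.symm
    have h7 : cn h.t y = h.t * h.z := by
      have := cn_comm h4
      rw [cn_mul, h6, mul_assoc, mul_right_inj] at this
      rw [tz.eq, ← mul_right_inj h.z, this, ← mul_assoc, h.zz, one_mul]
    have h8 : cn h.t (d * y) = h.t := by rw [← cn_cn, td, cn_mul, h7, h5, mul_assoc, h.zz, mul_one]
    have h9 : cn h.f (d * y) = h.f * h.z := by rw [← cn_cn, cn_comm df.symm, h6]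
    obtain ⟨w, hw, e⟩ := K.aut1 (d * y) (mem_centralizer_singleton_iff.2 (comm_of_cn h8).symm)
      (mem_N_closure (by
        rintro _ (rfl | rfl | rfl | rfl)
        · exact h8.symm ▸ subset_closure (by simp)
        · rw [← cn_cn, cn_comm dz.symm, h5]; exact subset_closure (by simp)
        · exact h9.symm ▸ mul_mem (subset_closure (by simp)) (subset_closure (by simp))
        · rw [← cn_cn, cn_comm da.symm, cn_comm h2]; exact subset_closure (by simp)))
    have h10 : w ∈ centralizer {h.f} := (closure_le _).2 (by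
      rintro _ (rfl | rfl)
      exacts [mem_centralizer_singleton_iff.2 h.fb.symm, mem_centralizer_singleton_iff.2 h.rf]) hw
    have := e h.f (subset_closure (by simp))
    rw [h9, cn_comm (mem_centralizer_singleton_iff.1 h10).symm, mul_eq_left] at this
    exact h.z1 this
  have mS : ∀ {y}, y ∈ h.T0 → y ∈ h.X → y ∈ S ⊓ h.X := fun h1 h2 => ⟨hT h1, h2⟩
  have sec := sec_dd (G := ↥(S ⊓ h.X)) hS.isPGroup.to_inf_left
    (z := ⟨_, mS (φ_z h.toHyp ▸ mT _) K.aX.2.2⟩) (a := ⟨_, mS (φ_a h.toHyp ▸ mT _) K.aX.1⟩)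
    (b := ⟨_, mS (φ_b h.toHyp ▸ mT _) K.aX.2.1⟩)
    (c := ⟨_, mS (mul_mem fT (φ_t h.toHyp ▸ mT _)) cX⟩) (d := ⟨d, dS, dX⟩)
    (fun e => h.z1 (congrArg Subtype.val e)) (Subtype.ext h.zz) (Subtype.ext h.aa)
    (Subtype.ext h.bb) (Subtype.ext (show h.f * h.t * (h.f * h.t) = 1 by
      rw [h.tf.mul_mul_mul_comm, h.ff, h.tt, one_mul])) (Subtype.ext dd) (Subtype.ext h.za)
    (Subtype.ext h.zb) (Subtype.ext (fz.mul_left tz).symm) (Subtype.ext dz.symm)
    (Subtype.ext (h.fa.mul_left h.ta).symm) (Subtype.ext da.symm)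
    (Subtype.ext (h.fb.mul_left h.tb).symm) (Subtype.ext db.symm) (Subtype.ext (ba h.toPre))
    (Subtype.ext (show d * (h.f * h.t) = h.z * (h.f * h.t * d) by
      have e : h.t * d = d * (h.t * h.z) := by rw [← td]; simp [cn, mul_assoc]
      rw [mul_assoc h.f, e, fz.symm.left_comm, dz.symm.left_comm, tz.eq, ← mul_assoc h.z h.z, h.zz,
        one_mul, df.left_comm]))
    fun y h1 h2 h3 h4 => by
      obtain ⟨j, m, e⟩ := (mP _).1 (st2 ((mC y).2 ⟨y.2.1, congrArg Subtype.val h1,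
        congrArg Subtype.val h2, congrArg Subtype.val h3, congrArg Subtype.val h4⟩))
      have e1 : (y : G) ∈ h.X := y.2.2
      cases j <;> cases m <;> simp [hψ, φ_apply, bp] at e
      · exact Or.inl (Subtype.ext e.symm)
      · exact Or.inr (Subtype.ext e.symm)
      · exact absurd (e ▸ e1) hf
      · exact absurd ((mul_mem_cancel_right K.aX.2.2).1 (e ▸ e1)) hf
  exact h.X5 (H2.Sec.sectional (k := 4) (H2.Sec.of_sylow (K.sylX S hS).toSylow
    (sec.inj (subgroupOfEquivOfLe (K.sylX S hS).le).toMonoidHom (MulEquiv.injective _))))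

end Cfsg.Agent.H60.LT
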