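import Cfsg.Agent.H74.CksDefs

/-! # Generation of the unipotent radical by the simple root groups -/

set_option autoImplicit false
set_option linter.unusedSectionVars false

namespace Cfsg.Agent.H74.Cks.H60Gen

open Cfsg.Agent.H35 Cfsg.Agent.H35.BN Cfsg.Agent.Lead.T3 Subgroup

theorem sup_l {G : Type} [Group G] {A B : Subgroup G} (h : A ≤ normalizer (B : Set G)) {x : G}
    (hx : x ∈ A ⊔ B) : ∃ a ∈ A, ∃ b ∈ B, a * b = x := by
  rwa [← SetLike.mem_coe, coe_mul_of_left_le_normalizer_right A B h, Set.mem_mul] at hx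

theorem sup_r {G : Type} [Group G] {A B : Subgroup G} (h : B ≤ normalizer (A : Set G)) {x : G}
    (hx : x ∈ A ⊔ B) : ∃ a ∈ A, ∃ b ∈ B, a * b = x := by
  rwa [← SetLike.mem_coe, coe_mul_of_right_le_normalizer_left A B h, Set.mem_mul] at hx

variable {G : Type} [Group G] [Finite G] {p n : ℕ} [Fact p.Prime] (S : Sys G p n)

theorem B_le_N (J : Finset S.bn.S) : S.B ≤ normalizer (S.sp.U J : Set G) :=
  (B_le_PJ J).trans (S.sp.U_normal J)

theorem U_inf_T : S.U ⊓ S.T = ⊥ := by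
  refine disjoint_iff.1 (disjoint_of_coprime_natCard ?_)
  obtain ⟨n, hn⟩ := (S.sp.U_pgroup ∅).exists_card_eq
  rw [hn]
  exact ((Nat.Prime.coprime_iff_not_dvd Fact.out).2 S.sp.coprime).pow_left n

theorem X_le (i : Fin n) : S.X i ≤ S.U := le_sup_left.trans (S.X_sup i).le

theorem Q_le (J : Finset S.bn.S) : S.sp.U J ≤ S.U := S.anti _ _ (Finset.empty_subset _)

/-- Positive root groups lie in `U`. -/
theorem root_le {i : Fin n} {m : G} (hm : m ∈ S.bn.N)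
    (h : (gens S.bn).len (mkW S.bn m hm) < (gens S.bn).len (S.w i * mkW S.bn m hm)) {y : G}
    (hy : y ∈ S.X i) : m⁻¹ * y * m ∈ S.U :=
  S.conj i m hm h ∅ (fun e => gens_s_ne_one (S.e i) (by
    have e' : (mkW S.bn m hm)⁻¹ * S.w i * mkW S.bn m hm = 1 := by simpa [WJ] using e
    rwa [mul_assoc, inv_mul_eq_one, eq_comm, mul_eq_right] at e')) y hy

section Walk

variable {J : Finset (Fin n)} {K : Subgroup G} (hK : K ≤ S.U)
  (h : ∀ i ∈ J, ∀ m (hm : m ∈ S.bn.N), mkW S.bn m hm ∈ WJ S.bn (J.map S.e.toEmbedding) →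
    (gens S.bn).len (mkW S.bn m hm) < (gens S.bn).len (S.w i * mkW S.bn m hm) →
    ∀ y ∈ S.X i, m⁻¹ * y * m ∈ K)
include hK h

theorem walk (k : ℕ) : ∀ m (hm : m ∈ S.bn.N), mkW S.bn m hm ∈ WJ S.bn (J.map S.e.toEmbedding) →
    (gens S.bn).len (mkW S.bn m hm) = k → ∀ u ∈ S.U, ∃ a ∈ K, m * (a⁻¹ * u) * m⁻¹ ∈ S.B := by
  induction k with
  | zero =>
    intro m hm _ e u hu
    have := (mkW_eq_one_iff hm).1 ((gens S.bn).len_eq_zero_iff.1 e)
    exact ⟨1, one_mem _, mul_mem (mul_mem this (by simpa using S.sp.U_le _ hu)) (inv_mem this)⟩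
  | succ k ih =>
    intro m hm hJ e u hu
    obtain ⟨s, hs, e1⟩ := (exchange S.bn).exists_left_descent_mem hJ (by
      intro e'; rw [e'] at e; simp at e)
    obtain ⟨i, hi, rfl⟩ := Finset.mem_map.1 hs
    have sN : S.s i ∈ S.bn.N := S.bn.subset (S.e i).2
    have hm' := mul_mem (inv_mem sN) hm
    have e2 : mkW S.bn _ hm' = S.w i * mkW S.bn m hm := by
      rw [mkW_mul (inv_mem sN) hm, mkW_inv sN, ← gens_s, InvGen.inv_s]
    have hJ' : mkW S.bn _ hm' ∈ WJ S.bn (J.map S.e.toEmbedding) :=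
      e2 ▸ mul_mem (InvGen.s_mem_closure hs) hJ
    change (gens S.bn).len (S.w i * _) + 1 = _ at e1
    obtain ⟨a, ha, hb⟩ := ih _ hm' hJ' (by rw [e2]; omega) u hu
    rw [Sys.B, S.sp.B_eq] at hb
    obtain ⟨v, hv, t, ht, e3⟩ := sup_r (inf_le_left.trans (B_le_N S ∅)) hb
    rw [← S.X_sup i] at hv
    obtain ⟨y, hy, r, hr, rfl⟩ := sup_l (((X_le S i).trans (S.sp.U_le _)).trans (B_le_N S _)) hv
    refine ⟨a * (((S.s i)⁻¹ * m)⁻¹ * y * ((S.s i)⁻¹ * m)), mul_mem ha (h i hi _ hm' hJ' (by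
      rw [e2, InvGen.s_mul_s_cancel_left]; omega) y hy), ?_⟩
    have e4 : m * ((a * (((S.s i)⁻¹ * m)⁻¹ * y * ((S.s i)⁻¹ * m)))⁻¹ * u) * m⁻¹ =
        S.s i * r * (S.s i)⁻¹ * (S.s i * t * (S.s i)⁻¹) := by
      calc _ = S.s i * y⁻¹ * ((S.s i)⁻¹ * m * (a⁻¹ * u) * ((S.s i)⁻¹ * m)⁻¹) * (S.s i)⁻¹ := by group
        _ = _ := by rw [← e3]; group
    rw [e4]
    exact mul_mem (S.sp.U_le _ ((mem_normalizer_iff.1 (S.sp.U_normal {S.e i}
      (mem_parabolic_of_mem ⟨S.e i, by simp, rfl⟩)) r).1 hr)) (S.bn.conj_mem _ sN t ht)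

theorem gen_of : K ⊔ S.Q J = S.U := by
  refine le_antisymm (sup_le hK (Q_le S _)) fun u hu => ?_
  obtain ⟨m, hm, hP, k⟩ := S.sp.exists_n (J.map S.e.toEmbedding)
  obtain ⟨a, ha, hb⟩ := walk S hK h _ m⁻¹ (inv_mem hm)
    ((mem_parabolic_iff_of_mem_cell (self_mem_cell _)).1 (inv_mem hP)) rfl u hu
  have hU := mul_mem (inv_mem (hK ha)) hu
  obtain ⟨r, hr, t, ht, e⟩ := sup_r (inf_le_left.trans (B_le_N S _))
    (k _ (S.sp.U_le _ hU) (by simpa using hb))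
  have t1 : t = 1 := mem_bot.1 ((U_inf_T S).le
    ⟨(mul_mem_cancel_left (Q_le S _ hr)).1 (e ▸ hU), ht⟩)
  rw [t1, mul_one, eq_inv_mul_iff_mul_eq] at e
  exact e ▸ mul_mem (mem_sup_left ha) (mem_sup_right hr)

end Walk

theorem two {i j : Fin n} (h : S.m i j = 2) : S.X i ⊔ S.X j ⊔ S.Q {i, j} = S.U := by
  have c : Commute (S.w i) (S.w j) := by
    have : (S.w i * S.w j) ^ 2 = 1 := h ▸ pow_orderOf_eq_one _
    rw [pow_two, mul_eq_one_iff_eq_inv, mul_inv_rev, InvGen.inv_s, InvGen.inv_s] at this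
    exact this
  refine gen_of S (sup_le (X_le S i) (X_le S j)) fun k hk m hm hJ hl y hy => ?_
  have hc : WJ S.bn (({i, j} : Finset (Fin n)).map S.e.toEmbedding) ≤ centralizer {S.w k} :=
    (closure_le _).2 (by
      rintro _ ⟨s, hs, rfl⟩
      obtain ⟨l, hl, rfl⟩ := Finset.mem_map.1 hs
      simp only [Finset.mem_insert, Finset.mem_singleton] at hk hl
      rw [SetLike.mem_coe, mem_centralizer_singleton_iff]
      rcases hk with rfl | rfl <;> rcases hl with rfl | rfl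
      exacts [rfl, c.symm, c, rfl])
  have k2 := S.conjS k k m hm hl (mem_centralizer_singleton_iff.1 (hc hJ)).symm y hy
  simp only [Finset.mem_insert, Finset.mem_singleton] at hk
  rcases hk with rfl | rfl
  exacts [mem_sup_left k2, mem_sup_right k2]

theorem prod_mem {K : Subgroup G} {J : Finset (Fin n)} (h : ∀ k ∈ J, S.s k ∈ K) (l : List S.bn.S)
    (hl : ∀ s ∈ l, s ∈ J.map S.e.toEmbedding) : (l.map Subtype.val).prod ∈ K := by
  refine K.list_prod_mem fun x hx => ?_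
  obtain ⟨s, hs, rfl⟩ := List.mem_map.1 hx
  obtain ⟨k, hk, rfl⟩ := Finset.mem_map.1 (hl s hs)
  exact h k hk

theorem root_mem (h : ∀ i j : Fin n, i ≠ j → S.X i ⊔ S.X j ⊔ S.Q {i, j} = S.U) (k : ℕ) :
    ∀ i m (hm : m ∈ S.bn.N), (gens S.bn).len (mkW S.bn m hm) = k →
      (gens S.bn).len (mkW S.bn m hm) < (gens S.bn).len (S.w i * mkW S.bn m hm) →
      ∀ y ∈ S.X i, m⁻¹ * y * m ∈ ⨆ i, S.X i := by
  induction k using Nat.strong_induction_on with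
  | _ k ih =>
  intro i m hm e hl y hy
  by_cases h1 : mkW S.bn m hm = 1
  · refine mem_iSup_of_mem i ?_
    simpa using (mem_normalizer_iff.1 (S.X_T i (inv_mem ⟨(mkW_eq_one_iff hm).1 h1, hm⟩)) y).1 hy
  obtain ⟨s, e1⟩ := (gens S.bn).exists_left_descent h1
  obtain ⟨j, rfl⟩ := S.e.surjective s
  change (gens S.bn).len (S.w j * _) + 1 = _ at e1
  have ij : i ≠ j := by rintro rfl; omega
  set J : Finset S.bn.S := ({i, j} : Finset (Fin n)).map S.e.toEmbedding with hJ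
  have mi : S.e i ∈ (J : Set S.bn.S) := by simp [hJ]
  have mj : S.e j ∈ (J : Set S.bn.S) := by simp [hJ]
  obtain ⟨d, d1, d2⟩ := InvGen.exists_min_inDC (X := gens S.bn) J ∅ (mkW S.bn m hm)
  obtain ⟨v, hv, v', hv', e2, e3⟩ := (exchange S.bn).exists_len_add_of_min d2 d1.symm
  obtain rfl : v' = 1 := by simpa using hv'
  have d3 : (gens S.bn).len d ≤ (gens S.bn).len (S.w j * mkW S.bn m hm) :=
    d2 _ ⟨S.w j * v, mul_mem (InvGen.s_mem_closure mj) hv, 1, one_mem _, by rw [e2]; group⟩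
  obtain ⟨l, hl', rfl⟩ := (gens S.bn).mem_closure_iff.1 hv
  set Lv := S.T ⊔ ⨆ k ∈ ({i, j} : Finset (Fin n)), S.L k with hLv
  have LL : ∀ k ∈ ({i, j} : Finset (Fin n)), S.L k ≤ Lv := fun k hk =>
    (le_iSup₂ (f := fun k (_ : k ∈ ({i, j} : Finset (Fin n))) => S.L k) k hk).trans le_sup_right
  obtain ⟨a, aN, ea, aL⟩ : ∃ a, ∃ aN : a ∈ S.bn.N, mkW S.bn a aN = (gens S.bn).wp l ∧ a ∈ Lv :=
    ⟨_, prod_mem_N l, mkW_prod l, prod_mem S (fun k hk =>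
      (sup_le le_sup_left (LL k hk) : S.T ⊔ S.L k ≤ Lv) (S.s_mem k)) l hl'⟩
  rw [mul_one, ← ea] at e2
  rw [InvGen.len_one, add_zero, ← ea] at e3
  have XL : S.X i ⊔ S.X j ≤ Lv :=
    sup_le (le_sup_left.trans (LL i (by simp))) (le_sup_left.trans (LL j (by simp)))
  have y1 : a⁻¹ * y * a ∈ S.U := root_le S aN (by
    have := (gens S.bn).len_mul_le (S.w i * mkW S.bn a aN) d
    rw [mul_assoc, ← e2] at this
    omega) hy
  rw [← h i j ij] at y1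
  obtain ⟨x, hx, r, hr, e4⟩ := sup_l (((sup_le (X_le S i) (X_le S j)).trans (S.sp.U_le _)).trans
    (B_le_N S _)) y1
  have r1 : r = 1 := mem_bot.1 ((S.levi {i, j}).le ⟨(mul_mem_cancel_left (XL hx)).1
    (e4 ▸ mul_mem (mul_mem (inv_mem aL) (XL (mem_sup_left hy))) aL), hr⟩)
  rw [r1, mul_one] at e4
  have hm' := mul_mem (inv_mem aN) hm
  have e5 : mkW S.bn _ hm' = d := by rw [mkW_mul (inv_mem aN) hm, mkW_inv aN, e2]; group
  have up : ∀ k, S.e k ∈ (J : Set S.bn.S) → S.X k ≤ (⨆ i, S.X i).comap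
      (MulAut.conj (a⁻¹ * m)⁻¹).toMonoidHom := fun k hk z hz => by
    have := ih _ (by rw [e5]; omega) k _ hm' rfl (by
      have := (InvGen.isDRed_of_min d2).1 _ hk
      have := len_s_mul (S.e k) d
      rw [e5]
      change (gens S.bn).len d < (gens S.bn).len ((gens S.bn).s (S.e k) * d)
      omega) z hz
    simpa [mul_assoc] using this
  have := sup_le (up i mi) (up j mj) hx
  simpa [e4, mul_assoc] using this

/-- **GEN** -/
theorem gen : GenStmt := fun S => ⟨fun _ _ => two S, fun h _ => by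
  have := gen_of S (J := Finset.univ) (iSup_le (X_le S)) fun i _ m hm _ => root_mem S h _ i m hm rfl
  rwa [Sys.Q, S.sp.U_univ _ (by simp), sup_bot_eq] at this⟩

theorem tm3 {n : ℕ} {par : ℕ → ℕ} {sp : ℕ} {a b : Fin n} (h : a.1 ≠ b.1)
    (h2 : (b.1 ≠ 0 ∧ par b = a) ∨ (a.1 ≠ 0 ∧ par a = b)) :
    tm n par sp a b = if max a.1 b.1 = sp then 4 else 3 := by
  rw [tm, if_neg (Fin.ne_of_val_ne h), if_pos h2]

theorem tm2 {n : ℕ} {par : ℕ → ℕ} {sp : ℕ} {a b : Fin n} (h : a.1 ≠ b.1)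
    (h2 : ¬ ((b.1 ≠ 0 ∧ par b = a) ∨ (a.1 ≠ 0 ∧ par a = b))) : tm n par sp a b = 2 := by
  rw [tm, if_neg (Fin.ne_of_val_ne h), if_neg h2]

theorem tm_conn {n : ℕ} {par : ℕ → ℕ} {sp : ℕ} (h : Typ n par sp) (i : Fin n) :
    ∃ j, 3 ≤ tm n par sp i j := by
  have k : 3 ≤ n ∧ par 1 = 0 ∧ ∀ a, 0 < a → a < n → par a < a := by
    rcases h with ⟨⟨h, rfl⟩ | ⟨h, rfl⟩ | ⟨h, rfl⟩, -⟩ | ⟨h, rfl, -⟩ | ⟨h, rfl, -⟩ <;>
      refine ⟨by omega, ?_, fun a _ _ => ?_⟩ <;> simp only [parA, parD, parE] <;>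
      (try split_ifs) <;> omega
  obtain ⟨k1, k2, k3⟩ := k
  have := i.2
  by_cases hi : (i : ℕ) = 0
  · refine ⟨⟨1, by omega⟩, ?_⟩
    rw [tm3 (by simp [hi]) (Or.inl ⟨one_ne_zero, k2.trans hi.symm⟩)]
    split_ifs <;> omega
  · have := k3 i (by omega) i.2
    refine ⟨⟨par i, by omega⟩, ?_⟩
    rw [tm3 this.ne' (Or.inr ⟨hi, rfl⟩)]
    split_ifs <;> omega

theorem tm_cases {n : ℕ} {par : ℕ → ℕ} {sp : ℕ} (h : Typ n par sp) {i j : Fin n} (ij : i ≠ j) :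
    tm n par sp i j = 2 ∨ tm n par sp i j = 3 ∨ (tm n par sp i j = 4 ∧ tm n par sp j i = 4 ∧
      ∃ k, (tm n par sp k i = 3 ∧ tm n par sp k j = 2) ∨
        (tm n par sp k j = 3 ∧ tm n par sp k i = 2)) := by
  rw [Ne, Fin.ext_iff] at ij
  by_cases h2 : (j.1 ≠ 0 ∧ par j = i) ∨ (i.1 ≠ 0 ∧ par i = j)
  swap
  · exact Or.inl (tm2 ij h2)
  by_cases h4 : max i.1 j.1 = sp
  swap
  · exact Or.inr (Or.inl (by rw [tm3 ij h2, if_neg h4]))
  have h0 := i.2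
  have h1 := j.2
  have k : par = parA ∧ 2 ≤ sp ∧ sp < n := by
    rcases h with ⟨-, h⟩ | ⟨h, h', h''⟩ | ⟨h, h', h''⟩
    · omega
    · exact ⟨h', by omega, by omega⟩
    · exact ⟨h', by omega, by omega⟩
  obtain ⟨rfl, k1, k2⟩ := k
  refine Or.inr (Or.inr ⟨by rw [tm3 ij h2, if_pos h4],
    by rw [tm3 (Ne.symm ij) h2.symm, if_pos (max_comm i.1 j.1 ▸ h4)], ⟨sp - 2, by omega⟩, ?_⟩)
  simp only [parA] at h2
  have t3 : ∀ a : Fin n, a.1 + 1 = sp → tm n parA sp ⟨sp - 2, by omega⟩ a = 3 := fun a ha => by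
    rw [tm3 (by simp only; omega) (by simp only [parA]; omega), if_neg (by simp only; omega)]
  have t2 : ∀ a : Fin n, a.1 = sp → tm n parA sp ⟨sp - 2, by omega⟩ a = 2 := fun a ha =>
    tm2 (by simp only; omega) (by simp only [parA]; omega)
  by_cases hi : i.1 = sp
  · exact Or.inr ⟨t3 j (by omega), t2 i hi⟩
  · exact Or.inl ⟨t3 i (by omega), t2 j (by omega)⟩

/-- **GEN3** -/
theorem gen3 (torq : TorqStmt) (qgen : QgenStmt) : Gen3Stmt := by
  intro G _ _ _ p n _ S par sp ty hm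
  refine ⟨fun i => (tm_conn ty i).imp fun j h => hm i j ▸ h, fun pl qd nd => ?_⟩
  rcases n.eq_zero_or_pos with rfl | n0
  · rcases ty with ⟨⟨h, -⟩ | ⟨h, -⟩ | ⟨h, -⟩, -⟩ | ⟨h, -⟩ | ⟨h, -⟩ <;> omega
  have k : ∀ i j k, S.m k i = 3 → S.m i j = 4 → S.m k j = 2 →
      S.X i ⊔ S.X j ⊔ S.Q {i, j} = S.U := fun i j k h1 h2 h3 => by
    obtain ⟨F, _, _, ⟨D⟩⟩ := qd k i j h1 h2 h3
    exact (qgen S k i j h1 h2 h3 F D).2.2.2.2 fun e => nd ⟨i, j, h2, e⟩
  refine (gen S).2 (fun i j ij => ?_) n0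
  have := tm_cases ty ij
  simp only [← hm] at this
  rcases this with h | h | ⟨h, h', l, ⟨h1, h2⟩ | ⟨h1, h2⟩⟩
  · exact two S h
  · obtain ⟨F, _, _, ⟨D⟩⟩ := pl i j h
    exact (torq S i j h F D).2.2.2.1
  · exact k i j l h1 h h2
  · rw [sup_comm (S.X i), Finset.pair_comm]
    exact k j i l h1 h' h2

end Cfsg.Agent.H74.Cks.H60Gen
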