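import Cfsg.Agent.H42.ASGlue
import Cfsg.Agent.H10.BB2

/-! Project AS: the data around `V` and `W`. -/

set_option autoImplicit false
set_option linter.unusedSectionVars false

namespace Cfsg.Agent.H60.AsT

open Cfsg Subgroup Cfsg.Agent.H28 Cfsg.Agent.H30 QuadraticMap Cfsg.Agent.H42.AS
open Cfsg.Agent.H72.ASB

universe u

variable {G : Type u} [Group G]

theorem eq_one_of_odd {x : G} {m : ℕ} (hm : Odd m) (h1 : x ^ m = 1) (h2 : x * x = 1) : x = 1 := by
  obtain ⟨k, rfl⟩ := hm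
  rwa [pow_succ, pow_mul, pow_two, h2, one_pow, one_mul] at h1

theorem vv2 (x : N6 × N6) : x + x = 0 :=
  Prod.ext (funext fun _ => CharTwo.add_self_eq_zero _) (funext fun _ => CharTwo.add_self_eq_zero _)

variable [Finite G] {D : RD G} {R Od W : Subgroup G} {r f : F4 → G} {c : F4} {π : G → N6 × N6}

section

variable (hF : D.Fa) (hP : PD D R) (hA : WA D R Od r f c)
include hP hA

theorem r_K (s : F4) : r s ∈ D.K := hP.syl.le ((hA.r_mem _).2 ⟨s, rfl⟩)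

theorem r_sq (s : F4) : r s * r s = 1 := hP.sq _ ((hA.r_mem _).2 ⟨s, rfl⟩)

include hF

/-- an element of odd order of `K` commuting with some `r s` lies in `O` -/
theorem mem_O_of (hB : WB D r f 1) {k : G} (hk : k ∈ D.K) (ho : Odd (orderOf k)) {s : F4}
    (hs : s ≠ 0) (hc : k * r s = r s * k) : k ∈ Od := by
  have hf : ∀ t, f t ∈ centralizer {k} := fun t =>
    mem_centralizer_singleton_iff.2 (hA.fI k hk ho ⟨s, hs, hc⟩ t)
  have hA' : ∀ a ∈ D.A, a ∈ centralizer {k} := fun a ha =>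
    mem_centralizer_singleton_iff.2 (K_comm hk ha)
  have hr : ∀ t, r t ∈ centralizer {k} := fun t => by
    obtain ⟨x, e⟩ := hB.sb 1 t
    have h1 : sE D f 1 ∈ centralizer {k} := mul_mem (mul_mem (hA' _ nb_A) (hf 1)) (hA' _ nb_A)
    have h2 := mul_mem (mul_mem h1 (hA' _ (xb_A t))) (inv_mem h1)
    rw [e, mul_mem_cancel_right (hA' _ (xv_A hF.rel x)), mul_mem_cancel_right (hA' _ (xb_A t)),
      mul_mem_cancel_right (hA' _ (xe_A hF.rel _)), mul_mem_cancel_right (hf _)] at h2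
    simpa using h2
  obtain ⟨x, hx, o, hO, rfl⟩ := hA.cKR k hk fun x hx => by
    obtain ⟨t, rfl⟩ := (hA.r_mem x).1 hx
    exact (mem_centralizer_singleton_iff.1 (hr t)).symm
  have cm : Commute x o := (hA.OR o hO x hx).symm
  have h1 : (x * o) ^ (orderOf (x * o) * Nat.card Od) = 1 := by
    rw [pow_mul, pow_orderOf_eq_one, one_pow]
  have h2 : o ^ (orderOf (x * o) * Nat.card Od) = 1 :=
    orderOf_dvd_iff_pow_eq_one.1 ((Od.orderOf_dvd_natCard hO).mul_left _)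
  rw [cm.mul_pow, h2, mul_one] at h1
  rwa [eq_one_of_odd (ho.mul hA.oddO) h1 (hP.sq x hx), one_mul]

theorem oddn (hB : WB D r f 1) (B : Subgroup G) (hV : B ≤ centralizer (D.V : Set G))
    (hN : centralizer (D.V : Set G) ≤ normalizer (B : Set G)) (ho : Odd (Nat.card B)) : B ≤ Od := by
  have h := hF.rel
  have PC : D.P ≤ centralizer (D.V : Set G) := fun p hp v hv => (P_V h hp hv).symm
  have oB : ∀ b ∈ B, b * b = 1 → b = 1 := fun b hb h2 =>
    eq_one_of_odd ho (orderOf_dvd_iff_pow_eq_one.1 (B.orderOf_dvd_natCard hb)) h2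
  have BP : ∀ b ∈ B, b ∈ D.P → b = 1 := fun b hb hp => by
    by_cases hv : b ∈ D.V
    · exact oB b hb (V_sq h hv)
    · obtain ⟨t, ht, k⟩ := hF.par.normP B (PC.trans hN) ⟨b, hb, hp, hv⟩
      have := oB _ k (sq_of_add h.bb t)
      exact absurd (h.nf 0 t 0 0 0 0 (by
        rw [this, one_of_add h.aa, one_of_add h.cc, one_of_add h.dd, one_of_add h.ee, v0 h]
        simp)).2.1 ht
  have key : ∀ s, s ≠ 0 → B ⊓ centralizer {r s} ≤ Od := by
    rintro s hs b ⟨hb, hc⟩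
    have hc' : b * r s = r s * b := mem_centralizer_singleton_iff.1 hc
    obtain ⟨k, hk, p, hp, rfl⟩ := hA.cV b (hA.cr s hs b hc') fun t => (hV hb _ (xv_V t)).symm
    have kp : Commute k p := (K_comm hk (P_A h hp)).symm
    have pV : p ∈ D.V := hF.par.cQA p hp fun q hq => by
      have m : q * (k * p) * q⁻¹ ∈ B := (mem_normalizer_iff.1 (hN (PC (Q_P hq))) _).1 hb
      have e : q * (k * p) * q⁻¹ * (k * p)⁻¹ = q * p * q⁻¹ * p⁻¹ := by
        rw [kp.eq, ← mul_assoc q, mul_assoc (q * p), ← K_comm hk (P_A h (inv_mem (Q_P hq)))]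
        group
      have := BP _ (mul_mem m (inv_mem hb)) (e ▸ mul_mem (mul_mem (mul_mem (Q_P hq) hp)
        (inv_mem (Q_P hq))) (inv_mem hp))
      rw [e, mul_inv_eq_one, mul_inv_eq_iff_eq_mul] at this
      exact this.symm
    have h1 : (k * p) ^ Nat.card B = 1 := orderOf_dvd_iff_pow_eq_one.1 (B.orderOf_dvd_natCard hb)
    rw [kp.mul_pow] at h1
    have h2 : p ^ Nat.card B = 1 := AK hF (pow_mem (P_A h hp) _)
      (eq_inv_of_mul_eq_one_right h1 ▸ inv_mem (pow_mem hk _))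
    obtain rfl := eq_one_of_odd ho h2 (V_sq h pV)
    rw [mul_one] at hb hc' ⊢
    exact mem_O_of hF hP hA hB hk (ho.of_dvd_nat (B.orderOf_dvd_natCard hb)) hs hc'
  have o2 : ∀ s, s ≠ 0 → orderOf (r s) = 2 := fun s hs =>
    order_two (fun e => hs (hA.r_inj s e)) (r_sq hP hA s)
  have rN : ∀ s, r s ∈ normalizer (B : Set G) := fun s =>
    hN fun v hv => K_comm (r_K hP hA s) (P_A h (Q_P (V_Q h hv)))
  refine (H10.Bender.le_sup_cent_four ho (o2 1 one_ne_zero) (o2 om om_ne) (fun e => ?_)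
    (by rw [← hA.r_add, ← hA.r_add, add_comm]) (rN 1) (rN om)).trans
    (sup_le (sup_le (key 1 one_ne_zero) (key om om_ne)) (hA.r_add 1 om ▸ key _ (by decide)))
  exact absurd (hA.r_inj (1 + om) (by rw [hA.r_add, e, r_sq hP hA])) (by decide)

end

section

variable (h : D.Rel) (h6 : W6 D r f W π)
include h6

theorem Q_W : D.QA ≤ W := h6.W_eq ▸ le_sup_left

theorem r_W (s : F4) : r s ∈ W := h6.W_eq ▸ mem_sup_right (subset_closure (.inl ⟨s, rfl⟩))

theorem f_W (s : F4) : f s ∈ W := h6.W_eq ▸ mem_sup_right (subset_closure (.inr ⟨s, rfl⟩))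

theorem π_v (s : F4) : π (D.xv s) = 0 := (h6.π_ker _ (Q_W h6 (xv_Q s))).2 ⟨s, rfl⟩

theorem π_inv {a : G} (ha : a ∈ W) : π a⁻¹ = π a := by
  have h1 : π 1 = 0 := by simpa using h6.π_mul 1 (one_mem _) 1 (one_mem _)
  have h2 := h6.π_mul _ (inv_mem ha) a ha
  rw [inv_mul_cancel, h1] at h2
  exact add_right_cancel (h2.symm.trans (vv2 _).symm)

theorem π_conj {a b : G} (ha : a ∈ W) (hb : b ∈ W) : π (a * b * a⁻¹) = π b := by
  rw [h6.π_mul _ (mul_mem ha hb) _ (inv_mem ha), h6.π_mul _ ha _ hb, π_inv h6 ha, add_right_comm,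
    vv2, zero_add]

theorem V_of_π {a b : G} (ha : a ∈ W) (hb : b ∈ W) (e : π a = π b) : ∃ t, D.xv t = a * b⁻¹ :=
  (h6.π_ker _ (mul_mem ha (inv_mem hb))).1 (by
    rw [h6.π_mul _ ha _ (inv_mem hb), π_inv h6 hb, e, vv2])

end

theorem real_w : ∀ t : F4, (sm t (vT', vT) + sm (t ^ 2) (vT + vT', vT)).2 = 0 ∧
    polar q6 (sm t (vT', vT) + sm (t ^ 2) (vT + vT', vT)).1 vP = 0 ∧
    polar q6 (sm t (vT', vT) + sm (t ^ 2) (vT + vT', vT)).1 vP' = 0 := by
  simp only [polar_qPlus]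
  decide

theorem real_b : (sm 1 (vF, 0)).2 = 0 ∧ polar q6 (sm 1 (vF, 0)).1 vP = 0 ∧
    polar q6 (sm 1 (vF, 0)).1 vP' = 0 := by
  simp only [polar_qPlus]
  decide

theorem real_e : (sm 1 (vE, 0)).2 = 0 ∧ polar q6 (sm 1 (vE, 0)).1 vP = 0 ∧
    polar q6 (sm 1 (vE, 0)).1 vP' = 0 := by
  simp only [polar_qPlus]
  decide

theorem tw (hF : D.Fa) (hP : PD D R) (hA : WA D R Od r f c) (h6 : W6 D r f W π) {g : G}
    (gW : g ∈ normalizer (W : Set G)) (g1 : g * D.xv 1 = D.xv 1 * g)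
    (gr : ∀ s, ∃ s', π (g * r s * g⁻¹) = π (r s'))
    (gf : ∀ a ∈ W, (π a).2 = 0 → polar q6 (π a).1 vP = 0 → polar q6 (π a).1 vP' = 0 →
      π (g * a * g⁻¹) = π a) : g ∈ centralizer (D.V : Set G) := by
  have h := hF.rel
  have cW : ∀ a ∈ W, g * a * g⁻¹ ∈ W := fun a ha => (mem_normalizer_iff.1 gW a).1 ha
  have PC : D.P ≤ centralizer (D.V : Set G) := fun p hp v hv => (P_V h hp hv).symm
  obtain ⟨t, ht⟩ := hA.nE g fun s => by
    obtain ⟨s', e⟩ := gr s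
    obtain ⟨x, hx⟩ := V_of_π h6 (cW _ (r_W h6 s)) (r_W h6 s') e
    exact ⟨s', x, by rw [← K_comm (r_K hP hA s') (xv_A h x), hx, inv_mul_cancel_right]⟩
  have fC : f t ∈ centralizer (D.V : Set G) := fun v hv => (hA.fP t v (Q_P (V_Q h hv))).symm
  have f1 : (f t)⁻¹ * g ∈ centralizer {D.xv 1} := mul_mem (inv_mem
    (mem_centralizer_singleton_iff.2 (hA.fP t _ (Q_P (xv_Q 1))))) (mem_centralizer_singleton_iff.2 g1)
  obtain ⟨a, ha, k⟩ := hF.glob.out _ (hA.nR ht)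
  have aP : a * ((f t)⁻¹ * g) ∈ centralizer {D.xv 1} → a ∈ D.P := fun m =>
    hF.glob.centV 1 one_ne_zero a ha
      (mem_centralizer_singleton_iff.1 ((mul_mem_cancel_right f1).1 m))
  rcases k with k | k
  · have hp := aP (mem_centralizer_singleton_iff.2 (K_comm k (xv_A h 1)).symm)
    have : a * ((f t)⁻¹ * g) ∈ centralizer (D.V : Set G) := fun v hv =>
      K_comm k (P_A h (Q_P (V_Q h hv)))
    rwa [mul_mem_cancel_left (PC hp), mul_mem_cancel_left (inv_mem fC)] at this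
  · have hp := aP (mem_centralizer_singleton_iff.2 (by
      have := (k.1 1).2.2.2.2.2
      rwa [one_pow, mul_inv_eq_iff_eq_mul] at this))
    have key : ∀ x ∈ W, ∀ y, a * ((f t)⁻¹ * g) * x * (a * ((f t)⁻¹ * g))⁻¹ = y → (π x).2 = 0 ∧
        polar q6 (π x).1 vP = 0 ∧ polar q6 (π x).1 vP' = 0 → a⁻¹ * y * a⁻¹⁻¹ * x⁻¹ ∈ D.V := by
      rintro x hx _ rfl ⟨p1, p2, p3⟩
      obtain ⟨s, e⟩ := V_of_π h6 (mul_mem (mul_mem (inv_mem (f_W h6 t)) (cW x hx))
        (inv_mem (inv_mem (f_W h6 t)))) hx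
        ((π_conj h6 (inv_mem (f_W h6 t)) (cW x hx)).trans (gf x hx p1 p2 p3))
      have : a⁻¹ * (a * ((f t)⁻¹ * g) * x * (a * ((f t)⁻¹ * g))⁻¹) * a⁻¹⁻¹ * x⁻¹ = D.xv s := by
        rw [e]; group
      exact this ▸ xv_V s
    refine absurd (fun s => ?_) (hF.par.nofrob a⁻¹ (inv_mem hp)
      (key _ (Q_W h6 (xb_Q 1)) _ (by rw [(k.1 1).2.1, one_pow]) (h6.πb 1 ▸ real_b))
      (key _ (Q_W h6 (xe_Q 1)) _ (by rw [(k.1 1).2.2.2.2.1, one_pow]) (h6.πe 1 ▸ real_e)))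
    refine key _ (Q_W h6 (mul_mem (xd_Q s) (xc_Q _))) _ ?_ ?_
    · have e4 : ∀ s : F4, (s ^ 2) ^ 2 = s := by decide
      rw [← conj_mul, (k.1 s).2.2.2.1, (k.1 _).2.2.1, e4]
    · rw [h6.π_mul _ (Q_W h6 (xd_Q s)) _ (Q_W h6 (xc_Q _)), h6.πd, h6.πc]
      exact real_w s

theorem hd : HDStmt.{u} := by
  intro G _ _ D R Od W r f c π Φ hF hP hA hB h6 hΦ
  have h := hF.rel
  have OA : ∀ o ∈ Od, ∀ a ∈ D.A, o * a = a * o := fun o ho a ha => (K_comm (hA.OK ho) ha).symm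
  exact {
    v_add := h.vv
    v_inj := fun _ => v_eq_one h
    vW := fun s => Q_W h6 (xv_Q s)
    π_mul := h6.π_mul
    π_ker := h6.π_ker
    π_surj := h6.π_surj
    sq := h6.sq
    comm := h6.comm
    phi := hΦ
    odd := hA.oddO
    OW := fun o ho a ha => by
      have : W ≤ centralizer {o} := by
        rw [h6.W_eq]
        refine sup_le (fun q hq => mem_centralizer_singleton_iff.2 (OA o ho q (P_A h (Q_P hq))).symm)
          ((closure_le _).2 ?_)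
        rintro _ (⟨s, rfl⟩ | ⟨s, rfl⟩)
        · exact mem_centralizer_singleton_iff.2 (hA.OR o ho _ ((hA.r_mem _).2 ⟨s, rfl⟩)).symm
        · exact mem_centralizer_singleton_iff.2 (hA.fI o (hA.OK ho)
            (hA.oddO.of_dvd_nat (Od.orderOf_dvd_natCard ho))
            ⟨1, one_ne_zero, hA.OR o ho _ ((hA.r_mem _).2 ⟨1, rfl⟩)⟩ s)
      exact (mem_centralizer_singleton_iff.1 (this ha)).symm
    oddn := oddn hF hP hA hB
    tM := by
      refine ⟨fun v hv => (P_V h (L_P (xa_L 1)) hv).symm, ?_⟩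
      refine mem_normalizer_fintype fun a ha => ?_
      have : W ≤ W.comap (MulAut.conj (D.xa 1)).toMonoidHom := by
        nth_rewrite 1 [h6.W_eq]
        refine sup_le (fun q hq => Q_W h6 (P_Q h (L_P (xa_L 1)) q hq)) ((closure_le _).2 ?_)
        rintro _ (⟨s, rfl⟩ | ⟨s, rfl⟩)
        · change D.xa 1 * r s * (D.xa 1)⁻¹ ∈ W
          rw [K_comm (r_K hP hA s) (xa_A 1), mul_inv_cancel_right]
          exact r_W h6 s
        · change D.xa 1 * f s * (D.xa 1)⁻¹ ∈ W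
          rw [← hA.fP s _ (L_P (xa_L 1)), mul_inv_cancel_right]
          exact f_W h6 s
      exact this ha
    tW := fun k => by
      have e1 := π_conj h6 k (Q_W h6 (xd_Q 1))
      change π (D.xa 1 * D.xd 1 * (D.xa 1)⁻¹) = _ at e1
      rw [h.ad, mul_inv_cancel_right, h6.π_mul _ (Q_W h6 (xd_Q 1)) _ (Q_W h6 (xe_Q _)), h6.πe,
        add_eq_left] at e1
      exact absurd e1 (by decide)
    t2 := sq_of_add h.aa 1
    e_add := h.ee
    eW := fun s => Q_W h6 (xe_Q s)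
    πe := h6.πe
    bW := fun s => Q_W h6 (xb_Q s)
    πb := h6.πb
    rW := r_W h6
    πr := h6.πr
    fW := f_W h6 1
    πf := (h6.πf 1).trans (by decide)
    n2 := h.nb2
    nO := fun o ho => OA o ho _ nb_A
    ne := h.nbe
    nr := fun s => K_comm (r_K hP hA s) nb_A
    nf := fun k => by
      obtain ⟨x, e⟩ := hB.sb 1 1
      have e1 := π_conj h6 k (Q_W h6 (xb_Q 1))
      change π (sE D f 1 * D.xb 1 * (sE D f 1)⁻¹) = _ at e1
      have m1 := mul_mem (r_W h6 (1 * 1 ^ 2 * 1)) (f_W h6 (1 * 1))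
      have m2 := mul_mem m1 (Q_W h6 (xe_Q (1 * 1 ^ 3 * 1)))
      rw [e, h6.π_mul _ (mul_mem m2 (Q_W h6 (xb_Q 1))) _ (Q_W h6 (xv_Q x)), π_v h6, add_zero,
        h6.π_mul _ m2 _ (Q_W h6 (xb_Q 1)), add_eq_right, h6.π_mul _ m1 _ (Q_W h6 (xe_Q _)),
        h6.π_mul _ (r_W h6 _) _ (f_W h6 _), h6.πr, h6.πf, h6.πe] at e1
      exact absurd e1 (by decide)
    tw := fun g gW _ g1 gr gf => tw hF hP hA h6 gW g1 gr gf
    vconj := isConj_iff.2 ⟨D.hb, by rw [h.hbv, mul_inv_cancel_right, mul_one]⟩ }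

end Cfsg.Agent.H60.AsT
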