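import Cfsg.Agent.H60.AlWA
import Cfsg.Agent.H42.ALDefs2

/-! Project AL: semilinear involutions fixing the idempotents are not conjugate to `t`. -/

set_option autoImplicit false
set_option linter.unusedSectionVars false

namespace Cfsg.Agent.H60.AlP

open Cfsg Subgroup Cfsg.Agent.H28 Cfsg.Agent.H42.AL Cfsg.Agent.H86.U3 Cfsg.Agent.H86.Dbl
open Cfsg.Agent.H42.AS (om)
open Cfsg.Agent.H72.ASB (f4_add one_of_add conj_of_eq)
open Cfsg.Agent.H60.AlT (xv_U xv_V K_comm xv_A U_A v_eq_one)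
open Cfsg.Agent.H60.AlW
open scoped commutatorElement Pointwise

universe u

local instance factTwoP : Fact (Nat.Prime 2) := ⟨Nat.prime_two⟩

variable {G : Type u} [Group G] {D : RD G} {t : G} {O : Subgroup G}

/-- two generators of an extraspecial group of order eight -/
structure Ex (x y z : G) : Prop where
  c : x * y = y * x * z
  zx : z * x = x * z
  zy : z * y = y * z
  z2 : z * z = 1
  z1 : z ≠ 1
  sx : x * x = 1 ∨ x * x = z
  sy : y * y = 1 ∨ y * y = z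

theorem Ex.symm {x y z : G} (e : Ex x y z) : Ex y x z :=
  ⟨by rw [e.c, mul_assoc, e.z2, mul_one], e.zy, e.zx, e.z2, e.z1, e.sy, e.sx⟩

theorem Ex.div {x y z : G} (e : Ex x y z) : Ex (x⁻¹ * y) x z := by
  have h1 : Commute z x := e.zx
  have h2 : x⁻¹ * y * x = y * z := by
    rw [mul_assoc, e.symm.c, mul_assoc, inv_mul_cancel_left]
  refine ⟨by rw [h2, mul_inv_cancel_left], (h1.inv_right.mul_right e.zy).eq, e.zx, e.z2, e.z1, ?_,
    e.sx⟩
  have h3 : x⁻¹ * y * (x⁻¹ * y) = z * ((x * x)⁻¹ * (y * y)) := by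
    have : y * x⁻¹ = x⁻¹ * y * z := by
      rw [eq_comm, ← mul_inv_eq_iff_eq_mul, inv_inv, mul_assoc _ z, e.zx, ← mul_assoc, h2,
        mul_assoc, e.z2, mul_one]
    rw [mul_assoc, ← mul_assoc y, this, mul_assoc _ z, e.zy, ← mul_assoc, ← mul_assoc,
      (((h1.mul_right h1).inv_right.mul_right (Commute.mul_right e.zy e.zy))).eq]
    group
  have zi : z⁻¹ = z := inv_eq_of_mul_eq_one_right e.z2
  rcases e.sx with a | a <;> rcases e.sy with b | b <;> rw [h3, a, b] <;>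
    simp [zi, e.z2]

theorem Ex.conj {x y z : G} (e : Ex x y z) (a : G) :
    Ex (a * x * a⁻¹) (a * y * a⁻¹) (a * z * a⁻¹) :=
  ⟨by simp only [conj_mul, e.c], by simp only [conj_mul, e.zx], by simp only [conj_mul, e.zy],
    conj_sq e.z2 a, by simpa using e.z1, e.sx.imp (conj_sq · a) fun k => by rw [conj_mul, k],
    e.sy.imp (conj_sq · a) fun k => by rw [conj_mul, k]⟩

theorem Ex.comm {x y z w : G} (e : Ex x y z) (h1 : Commute w x) (h2 : Commute w y) :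
    Commute w z := by
  rw [show z = (y * x)⁻¹ * (x * y) by rw [e.c, inv_mul_cancel_left]]
  exact (h2.mul_right h1).inv_right.mul_right (h1.mul_right h2)

/-- coordinates on `⟨t⟩ U` -/
def Ct (D : RD G) (t q : G) (x : F4 × F4) : Prop := ∃ u, Co D u x ∧ (q = u ∨ q = t * u)

def act (sw fr : Bool) (l m : F4) (x : F4 × F4) : F4 × F4 :=
  if sw then (m * pw fr x.2, l * pw fr x.1) else (l * pw fr x.1, m * pw fr x.2)

/-- the type of an element normalizing `U` -/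
def Ty (D : RD G) (p : G) (sw fr : Bool) : Prop := ∃ l m, l ≠ 0 ∧ m ≠ 0 ∧
  (∀ a x, Co D a x → Co D (p * a * p⁻¹) (act sw fr l m x)) ∧
  ∀ s, p * D.xv s * p⁻¹ = D.xv (l * m * pw fr s)

section

variable (hF : D.Fa)
include hF

theorem exists_ty [Finite G] {p : G} (pN : p ∈ D.N) (pU : ∀ u ∈ D.U, p * u * p⁻¹ ∈ D.U) :
    ∃ sw fr, Ty D p sw fr := by
  have h := hF.rel
  have pV : p ∈ normalizer (D.V : Set G) := mem_normalizer_fintype fun v hv => by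
    obtain ⟨s, rfl⟩ := (mem_V h).1 hv
    obtain ⟨x, c⟩ := exists_co hF (pU _ (xv_U s))
    have key : ∀ q y, Co D q y → x.1 * y.2 + x.2 * y.1 = 0 := fun q y c' => by
      obtain ⟨q, hq, rfl⟩ := conj_surj pU c'.mem
      have e := c.comm h c'
      rw [conj_mul, conj_mul, U_v h hq, left_eq_mul] at e
      exact v_eq_one h e
    obtain ⟨s', e⟩ := c
    have e1 : x.1 = 0 := by simpa using key _ _ (co_b h 1)
    have e2 : x.2 = 0 := by simpa using key _ _ (co_e h 1)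
    rw [e, e1, e2, one_of_add h.ee, one_of_add h.bb, one_mul, one_mul]
    exact xv_V _
  obtain ⟨u, hu, l, m, fr, st⟩ := hF.par.nU p pN pV
  have back : ∀ a x, Co D (u * p * a * (u * p)⁻¹) x → Co D (p * a * p⁻¹) x := fun a x c => by
    have := c.conj hF (inv_mem hu)
    rwa [show u⁻¹ * (u * p * a * (u * p)⁻¹) * u⁻¹⁻¹ = p * a * p⁻¹ by group] at this
  have bv : ∀ s s', u * p * D.xv s * (u * p)⁻¹ = D.xv s' → p * D.xv s * p⁻¹ = D.xv s' :=
    fun s s' e => by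
      rw [show p * D.xv s * p⁻¹ = u⁻¹ * (u * p * D.xv s * (u * p)⁻¹) * u by group, e,
        U_v h (inv_mem hu), inv_mul_cancel_right]
  rcases st with st | st
  · refine ⟨false, fr, l, m, st.l0, st.m0, ?_, fun s => bv _ _ (st.v s)⟩
    rintro _ x ⟨s, rfl⟩
    exact back _ _ ⟨_, by rw [← conj_mul, ← conj_mul, st.e, st.b, st.v]; rfl⟩
  · refine ⟨true, fr, l, m, st.l0, st.m0, ?_, fun s => bv _ _ (st.v s)⟩
    rintro _ x ⟨s, rfl⟩
    refine back _ _ ?_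
    rw [← conj_mul, ← conj_mul, st.e, st.b, st.v]
    change Co D (D.xb _ * D.xe _ * D.xv _) _
    rw [(co_b h _).comm h (co_e h _)]
    exact (Co.mul_v h (x := (m * pw fr x.2, l * pw fr x.1)) ⟨_, rfl⟩ _)

variable [Finite G] (hR : RP D t O)
include hR

theorem Ct.comm {a b : G} {x y : F4 × F4} (c : Ct D t a x) (c' : Ct D t b y) :
    a * b = b * a * D.xv (x.1 * y.2 + x.2 * y.1) := by
  obtain ⟨u, c, e⟩ := c
  obtain ⟨u', c', e'⟩ := c'
  have h1 := K_comm hR.tK (U_A hF.rel c.mem)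
  have h2 := K_comm hR.tK (U_A hF.rel c'.mem)
  have h3 := c.comm hF.rel c'
  rcases e with rfl | rfl <;> rcases e' with rfl | rfl
  · exact h3
  · rw [← mul_assoc, h1, mul_assoc, h3, mul_assoc t, mul_assoc t]
  · rw [mul_assoc, h3, ← mul_assoc b, h2, mul_assoc t, mul_assoc t]
  · rw [mul_assoc, ← mul_assoc u, h1, mul_assoc, h3, mul_assoc t u', ← mul_assoc u', h2]
    simp only [mul_assoc]

theorem Ct.sq {a : G} {x : F4 × F4} (c : Ct D t a x) : a * a = D.xv (x.2 * x.1) := by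
  obtain ⟨u, c, rfl | rfl⟩ := c
  · exact c.sq hF.rel
  · rw [mul_assoc, ← mul_assoc u, K_comm hR.tK (U_A hF.rel c.mem), mul_assoc, c.sq hF.rel,
      ← mul_assoc, hR.t2, one_mul]

theorem triv {q : G} (qt : q * t = t * q) {n : ℕ} (q2 : q ^ 2 ^ n = 1) {l m : F4} (l0 : l ≠ 0)
    (m0 : m ≠ 0) (k : ∀ a x, Co D a x → Co D (q * a * q⁻¹) (l * x.1, m * x.2)) :
    ∃ x, Ct D t q x := by
  have h := hF.rel
  have it : ∀ j : ℕ, ∀ a x, Co D a x → Co D (q ^ j * a * (q ^ j)⁻¹) (l ^ j * x.1, m ^ j * x.2) := by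
    intro j a x c
    induction j with
    | zero => simpa using c
    | succ j ih =>
      have := k _ _ ih
      rwa [show q * (q ^ j * a * (q ^ j)⁻¹) * q⁻¹ = q ^ (j + 1) * a * (q ^ (j + 1))⁻¹ by group,
        ← mul_assoc, ← mul_assoc, ← pow_succ', ← pow_succ'] at this
  have c : Co D (D.xe 1 * D.xb 1 * D.xv 0) (1, 1) := ⟨0, rfl⟩
  have c1 := it (2 ^ n) _ _ c
  rw [q2, one_mul, inv_one, mul_one, mul_one, mul_one] at c1
  have one : ∀ a : F4, a ≠ 0 → a ^ 2 ^ n = 1 → a = 1 := fun a a0 e => by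
    have := pow_gcd_eq_one.2 ⟨e, (by decide : ∀ a : F4, a ≠ 0 → a ^ 3 = 1) a a0⟩
    rwa [Nat.Coprime.pow_left n (by norm_num : Nat.Coprime 2 3), pow_one] at this
  obtain rfl := one l l0 (congrArg Prod.fst (c1.uniq h c))
  obtain rfl := one m m0 (congrArg Prod.snd (c1.uniq h c))
  obtain ⟨u, hu, k', hk, rfl⟩ := hF.par.cUV q (hR.ct q qt) fun a ha => by
    obtain ⟨x, c⟩ := exists_co hF ha
    obtain ⟨s, e⟩ := (k a x c).div h (by simpa using c)
    rw [commutatorElement_def, e, U_v h ha, mul_inv_cancel_right]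
    exact xv_V s
  obtain ⟨x, c⟩ := exists_co hF hu
  refine ⟨x, u, c, ?_⟩
  have uA := U_A h hu
  have kt : Commute k' t := by
    rwa [mul_assoc, ← mul_assoc t, ← K_comm hR.tK uA, mul_assoc, mul_right_inj] at qt
  rw [Commute.mul_pow (K_comm hk uA)] at q2
  have k2 : k' ^ 2 ^ n = 1 := hF.par.AK _
    (eq_inv_of_mul_eq_one_right q2 ▸ inv_mem (pow_mem uA _)) (pow_mem hk _)
  have odd : ∀ o ∈ O, ∀ j : ℕ, o ^ 2 ^ j = 1 → o = 1 := fun o ho j e =>
    eq_one_of_odd_of_two (hR.oddO.of_dvd_nat (O.orderOf_dvd_natCard ho)) e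
  rcases hR.cKt k' hk kt with k1 | k1
  · exact .inl (by rw [odd _ k1 n k2, mul_one])
  · have := odd _ k1 (n + 1) (by
      rw [kt.symm.mul_pow, pow_succ, pow_mul k', k2, one_pow, mul_one, mul_comm, pow_mul, pow_two,
        hR.t2, one_pow])
    exact .inr (by
      rw [eq_inv_of_mul_eq_one_right this, inv_eq_of_mul_eq_one_right hR.t2, K_comm hR.tK uA])

variable {S : Subgroup G} (S2 : IsPGroup 2 S) (St : ∀ s ∈ S, s * t = t * s)
  (SU : ∀ s ∈ S, ∀ u ∈ D.U, s * u * s⁻¹ ∈ D.U)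
include S2 St SU

theorem same {p q : G} (hp : p ∈ S) (hq : q ∈ S) {sw fr : Bool} (a : Ty D p sw fr)
    (b : Ty D q sw fr) : ∃ x, Ct D t (p⁻¹ * q) x := by
  obtain ⟨l, m, l0, m0, a, -⟩ := a
  obtain ⟨l', m', l0', m0', b, -⟩ := b
  have fin : ∀ (fr : Bool) (l l' : F4), l ≠ 0 → l' ≠ 0 → ∃ i : F4, i ≠ 0 ∧
      ∀ a b, l * pw fr b = l' * pw fr a → b = i * a := by decide
  obtain ⟨i, i0, ki⟩ := fin fr l l' l0 l0'
  obtain ⟨j, j0, kj⟩ := fin fr m m' m0 m0'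
  have k : ∀ x y, act sw fr l m y = act sw fr l' m' x → y = (i * x.1, j * x.2) := fun x y e => by
    cases sw
    · exact Prod.ext (ki _ _ (congrArg Prod.fst e)) (kj _ _ (congrArg Prod.snd e))
    · exact Prod.ext (ki _ _ (congrArg Prod.snd e)) (kj _ _ (congrArg Prod.fst e))
  have hr := mul_mem (inv_mem hp) hq
  obtain ⟨n, hn⟩ := S2 ⟨_, hr⟩
  refine triv hF hR (St _ hr) (congrArg Subtype.val hn) i0 j0 fun u x c => ?_
  obtain ⟨y, c'⟩ := exists_co hF (SU _ hr u c.mem)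
  have c1 := a _ _ c'
  rw [show p * (p⁻¹ * q * u * (p⁻¹ * q)⁻¹) * p⁻¹ = q * u * q⁻¹ by group] at c1
  exact k x y (c1.uniq hF.rel (b u x c)) ▸ c'

theorem triv_ty {q : G} (hq : q ∈ S) (b : Ty D q false false) : ∃ x, Ct D t q x := by
  simpa using same hF hR S2 St SU (one_mem S) hq ⟨1, 1, one_ne_zero, one_ne_zero,
    fun a x c => by simpa [act, pw] using c, fun s => by simp [pw]⟩ b

variable {sw fr : Bool}

theorem pick {x y z : G} (e : Ex x y z) (hx : x ∈ S) (hy : y ∈ S)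
    (tx : Ty D x false false ∨ Ty D x sw fr) (ty : Ty D y false false ∨ Ty D y sw fr) :
    ∃ x' y', Ex x' y' z ∧ x' ∈ S ∧ y' ∈ S ∧ (∃ a, Ct D t x' a) ∧
      ((∃ a, Ct D t y' a) ∨ Ty D y' sw fr) ∧
      ∀ w, Commute w x → Commute w y → Commute w x' ∧ Commute w y' := by
  rcases tx with tx | tx
  · exact ⟨x, y, e, hx, hy, triv_ty hF hR S2 St SU hx tx, ty.imp_left (triv_ty hF hR S2 St SU hy),
      fun w a b => ⟨a, b⟩⟩
  rcases ty with ty | ty
  · exact ⟨y, x, e.symm, hy, hx, triv_ty hF hR S2 St SU hy ty, .inr tx, fun w a b => ⟨b, a⟩⟩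
  · exact ⟨_, x, e.div, mul_mem (inv_mem hx) hy, hx, same hF hR S2 St SU hx hy tx ty, .inr tx,
      fun w a b => ⟨a.inv_right.mul_right b, a⟩⟩

/-- the common reduction when only two types occur -/
theorem red {x1 x2 z1 y1 y2 z2 : G} (e1 : Ex x1 x2 z1) (e2 : Ex y1 y2 z2) (m1 : x1 ∈ S)
    (m2 : x2 ∈ S) (m3 : y1 ∈ S) (m4 : y2 ∈ S) (c1 : Commute x1 y1) (c2 : Commute x1 y2)
    (c3 : Commute x2 y1) (c4 : Commute x2 y2)
    (ty : ∀ p ∈ S, Commute p z1 → Commute p z2 → Ty D p false false ∨ Ty D p sw fr) :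
    ∃ x x' y y' a b, Ex x x' z1 ∧ Ex y y' z2 ∧ y' ∈ S ∧ x' ∈ S ∧ Ct D t x a ∧ Ct D t y b ∧
      Commute x y ∧ Commute x y' ∧ Commute x' y ∧ Commute x' y' ∧
      ((∃ a', Ct D t x' a') ∨ (∃ b', Ct D t y' b') ∨
        (Ty D x' sw fr ∧ Ty D y' sw fr ∧ ∃ c, Ct D t (x'⁻¹ * y') c)) := by
  obtain ⟨x, x', f1, n1, n2, ⟨a, ca⟩, t1, k1⟩ := pick hF hR S2 St SU e1 m1 m2
    (ty _ m1 e1.zx.symm (e2.comm c1 c2)) (ty _ m2 e1.zy.symm (e2.comm c3 c4))
  obtain ⟨y, y', f2, n3, n4, ⟨b, cb⟩, t2, k2⟩ := pick hF hR S2 St SU e2 m3 m4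
    (ty _ m3 (e1.comm c1.symm c3.symm) e2.zx.symm) (ty _ m4 (e1.comm c2.symm c4.symm) e2.zy.symm)
  have d1 := k1 _ c1.symm c3.symm
  have d2 := k1 _ c2.symm c4.symm
  have d3 := k2 _ d1.1.symm d2.1.symm
  have d4 := k2 _ d1.2.symm d2.2.symm
  refine ⟨x, x', y, y', a, b, f1, f2, n4, n2, ca, cb, d3.1, d3.2, d4.1, d4.2, ?_⟩
  rcases t1 with t1 | t1
  · exact .inl t1
  rcases t2 with t2 | t2
  · exact .inr (.inl t2)
  · exact .inr (.inr ⟨t1, t2, same hF hR S2 St SU n2 n4 t1 t2⟩)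

set_option synthInstance.maxSize 1000 in
theorem core0 {x1 x2 z1 y1 y2 z2 : G} (e1 : Ex x1 x2 z1) (e2 : Ex y1 y2 z2) (m1 : x1 ∈ S)
    (m2 : x2 ∈ S) (m3 : y1 ∈ S) (m4 : y2 ∈ S) (c1 : Commute x1 y1) (c2 : Commute x1 y2)
    (c3 : Commute x2 y1) (c4 : Commute x2 y2) (u1 : z1 ∈ D.U) (u2 : z2 ∈ D.U) (ne : z1 ≠ z2) :
    False := by
  have h := hF.rel
  have ty := fun p hp => exists_ty hF (hR.ct p (St p hp)) (SU p hp)
  have cm : ∀ {a b x y}, Ct D t a x → Ct D t b y → Commute a b → x.1 * y.2 + x.2 * y.1 = 0 :=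
    fun c c' e => v_eq_one h (left_eq_mul.1 (e.eq.symm.trans (c.comm hF hR c')))
  have cz : ∀ {a b z x y}, Ct D t a x → Ct D t b y → a * b = b * a * z →
      z = D.xv (x.1 * y.2 + x.2 * y.1) := fun c c' e =>
    mul_left_cancel (e.symm.trans (c.comm hF hR c'))
  have w1 : ∀ {x x' y' z : G}, Ex x x' z → Commute x y' → Commute x' y' →
      x * (x'⁻¹ * y') = x'⁻¹ * y' * x * z := fun {x x' y' z} e c c' => by
    rw [mul_assoc x'⁻¹, mul_assoc x'⁻¹, eq_inv_mul_iff_mul_eq, ← mul_assoc, e.symm.c, ← c.eq,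
      mul_assoc x y', (e.comm c.symm c'.symm).eq, mul_assoc _ z, ← mul_assoc z,
      (Commute.inv_right e.zy).eq]
    group
  have w2 : ∀ {x' y y' z : G}, Ex y y' z → Commute x' y → y * (x'⁻¹ * y') = x'⁻¹ * y' * y * z :=
    fun {x' y y' z} e c => by
      rw [← mul_assoc, c.symm.inv_right.eq, mul_assoc, e.c]
      group
  obtain ⟨a1, o1⟩ := exists_co hF u1
  obtain ⟨a2, o2⟩ := exists_co hF u2
  by_cases k : a1 = 0 ∧ a2 = 0
  · obtain ⟨rfl, rfl⟩ := k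
    obtain ⟨s1, rfl⟩ := o1
    obtain ⟨s2, rfl⟩ := o2
    simp only [Prod.fst_zero, Prod.snd_zero, one_of_add h.ee, one_of_add h.bb, one_mul] at e1 e2 ne
    have n1 : s1 ≠ 0 := fun e => e1.z1 (by rw [e, v0 h])
    have n2 : s2 ≠ 0 := fun e => e2.z1 (by rw [e, v0 h])
    have n3 : s1 ≠ s2 := fun e => ne (by rw [e])
    have tv : ∀ p sw fr, Ty D p sw fr → Commute p (D.xv s1) → Commute p (D.xv s2) →
        fr = false ∧ ∀ s, Commute p (D.xv s) := fun p sw fr ⟨l, m, _, _, _, k⟩ d1 d2 => by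
      have fin : ∀ (a s1 s2 : F4) (fr : Bool), s1 ≠ 0 → s2 ≠ 0 → s1 ≠ s2 → s1 = a * pw fr s1 →
          s2 = a * pw fr s2 → fr = false ∧ ∀ s, a * pw fr s = s := by decide
      obtain ⟨f1, f2⟩ := fin _ _ _ _ n1 n2 n3 (v_inj h ((conj_of_eq d1.eq).symm.trans (k s1)))
        (v_inj h ((conj_of_eq d2.eq).symm.trans (k s2)))
      exact ⟨f1, fun s => mul_inv_eq_iff_eq_mul.1 (by rw [k, f2])⟩
    obtain ⟨x, x', y, y', a, b, f1, f2, m1, m2, ca, cb, d1, d2, d3, d4, k⟩ :=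
      red hF hR S2 St SU (sw := true) (fr := false) e1 e2 m1 m2 m3 m4 c1 c2 c3 c4 fun p hp d1 d2 => by
        obtain ⟨sw, fr, k⟩ := ty p hp
        obtain rfl := (tv p sw fr k d1 d2).1
        cases sw
        exacts [.inl k, .inr k]
    have nz : ∀ {y y' z b}, Ex y y' z → y' ∈ S → Commute y' (D.xv s1) → Commute y' (D.xv s2) →
        Ct D t y b → b ≠ 0 := by
      rintro y y' z _ e hy d1 d2 ⟨_, ⟨s, rfl⟩, k⟩ rfl
      obtain ⟨sw, fr, k'⟩ := ty y' hy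
      have c := (tv _ _ _ k' d1 d2).2 s
      simp only [Prod.fst_zero, Prod.snd_zero, one_of_add h.ee, one_of_add h.bb, one_mul] at k
      have : Commute y' y := by
        rcases k with rfl | rfl
        exacts [c, Commute.mul_right (St _ hy) c]
      exact e.z1 (left_eq_mul.1 (this.eq.trans e.c))
    have a0 := nz f1 m2 f1.zy.symm (f2.comm d3 d4) ca
    have b0 := nz f2 m1 (f1.comm d2.symm d4.symm) f2.zy.symm cb
    have fin : ∀ a a' b : F4 × F4, a.1 * b.2 + a.2 * b.1 = 0 → a'.1 * b.2 + a'.2 * b.1 = 0 →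
        b ≠ 0 → a.1 * a'.2 + a.2 * a'.1 = 0 := by decide +kernel
    rcases k with ⟨a', c'⟩ | ⟨b', c'⟩ | ⟨t1, t2, c, cc⟩
    · exact n1 ((v_inj h (cz ca c' f1.c)).trans (fin _ _ _ (cm ca cb d1) (cm c' cb d3) b0))
    · exact n2 ((v_inj h (cz cb c' f2.c)).trans
        (fin _ _ _ (cm cb ca d1.symm) (cm c' ca d2.symm) a0))
    have sq : ∀ {x x' y' s a}, Ex x x' (D.xv s) → y' ∈ S → Ty D y' true false → Commute x y' →
        Ct D t x a → a ≠ 0 → a.2 * a.1 = s := by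
      rintro x x' y' s a e hy ⟨l, m, l0, m0, k, -⟩ d c a0
      have e1 := c.sq hF hR
      obtain ⟨u, c, k'⟩ := c
      have c1 := k u a c
      have : Commute y' u := by
        rcases k' with rfl | rfl
        · exact d.symm
        · simpa using (Commute.inv_right (St _ hy)).mul_right d.symm
      rw [conj_of_eq this.eq] at c1
      have fin : ∀ (l m : F4) (a : F4 × F4), l ≠ 0 → m ≠ 0 → a ≠ 0 → act true false l m a = a →
          a.2 * a.1 ≠ 0 := by decide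
      exact v_inj h (e1.symm.trans (e.sx.resolve_left fun k2 =>
        fin l m a l0 m0 a0 (c1.uniq h c) (v_eq_one h (e1.symm.trans k2))))
    have fin2 : ∀ a b c : F4 × F4, a.1 * b.2 + a.2 * b.1 = 0 → a.2 * a.1 ≠ 0 → b.2 * b.1 ≠ 0 →
        a.2 * a.1 = a.1 * c.2 + a.2 * c.1 → b.2 * b.1 = b.1 * c.2 + b.2 * c.1 →
        a.2 * a.1 = b.2 * b.1 := by decide +kernel
    obtain rfl := sq f1 m1 t2 d2 ca a0
    obtain rfl := sq f2 m2 t1 d3.symm cb b0
    exact n3 (fin2 a b c (cm ca cb d1) n1 n2 (v_inj h (cz ca cc (w1 f1 d2 d4)))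
      (v_inj h (cz cb cc (w2 f2 d3))))
  · obtain ⟨z, a, o, a0, z2', cz'⟩ : ∃ z a, Co D z a ∧ a ≠ 0 ∧ z * z = 1 ∧
        ∀ p, Commute p z1 → Commute p z2 → Commute p z := by
      rcases not_and_or.1 k with k | k
      exacts [⟨_, _, o1, k, e1.z2, fun _ a _ => a⟩, ⟨_, _, o2, k, e2.z2, fun _ _ a => a⟩]
    obtain ⟨x, x', y, y', a, b, f1, f2, -, -, ca, cb, d1, d2, d3, d4, k⟩ :=
      red hF hR S2 St SU (sw := false) (fr := true) e1 e2 m1 m2 m3 m4 c1 c2 c3 c4 fun p hp d1 d2 => by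
        obtain ⟨sw, fr, k⟩ := ty p hp
        obtain ⟨l, m, l0, m0, k', -⟩ := id k
        have c1 := k' z a o
        rw [conj_of_eq (cz' p d1 d2).eq] at c1
        have fin : ∀ (sw fr : Bool) (l m : F4) (a : F4 × F4), a ≠ 0 → a.2 * a.1 = 0 →
            act sw fr l m a = a → sw = false := by decide +kernel
        obtain rfl := fin _ _ _ _ _ a0 (v_eq_one h ((o.sq h).symm.trans z2')) (c1.uniq h o)
        cases fr
        exacts [.inl k, .inr k]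
    have fin : ∀ a a' b : F4 × F4, a.1 * b.2 + a.2 * b.1 = 0 → a'.1 * b.2 + a'.2 * b.1 = 0 →
        b ≠ 0 → a.1 * a'.2 + a.2 * a'.1 = 0 := by decide +kernel
    have key : ∀ {p q w i j}, Ct D t p i → Ct D t q j → Commute p z → Commute q z →
        p * q = q * p * w → w = 1 := fun c c' d d' e => by
      rw [cz c c' e, fin _ _ _ (cm c ⟨z, o, .inl rfl⟩ d) (cm c' ⟨z, o, .inl rfl⟩ d') a0, v0 h]
    have g1 := cz' x f1.zx.symm (f2.comm d1 d2)
    have g2 := cz' x' f1.zy.symm (f2.comm d3 d4)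
    have g3 := cz' y (f1.comm d1.symm d3.symm) f2.zx.symm
    have g4 := cz' y' (f1.comm d2.symm d4.symm) f2.zy.symm
    rcases k with ⟨a', c'⟩ | ⟨b', c'⟩ | ⟨-, -, c, cc⟩
    · exact f1.z1 (key ca c' g1 g2 f1.c)
    · exact f2.z1 (key cb c' g3 g4 f2.c)
    · exact f1.z1 (key ca cc g1 (g2.inv_left.mul_left g4) (w1 f1 d2 d4))

omit SU in
theorem core {f : F4 → G} {c0 : F4} (hS : RS D t f c0) {x1 x2 z1 y1 y2 z2 : G} (e1 : Ex x1 x2 z1)
    (e2 : Ex y1 y2 z2) (m1 : x1 ∈ S) (m2 : x2 ∈ S) (m3 : y1 ∈ S) (m4 : y2 ∈ S) (c1 : Commute x1 y1)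
    (c2 : Commute x1 y2) (c3 : Commute x2 y1) (c4 : Commute x2 y2) (ne : z1 ≠ z2) : False := by
  have zz : ∀ {x y z}, Ex x y z → x ∈ S → y ∈ S → z ∈ S ⊓ D.A := fun {x y z} e hx hy => by
    have k : z = ⁅x⁻¹, y⁻¹⁆ := by
      rw [commutatorElement_def, inv_inv, inv_inv, mul_assoc, e.c]
      group
    refine Subgroup.mem_inf.2 ⟨k ▸ mul_mem (mul_mem (mul_mem (inv_mem hx) (inv_mem hy))
      (inv_mem (inv_mem hx)))
      (inv_mem (inv_mem hy)), hS.spl z (k ▸ commutator_mem_commutator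
        (mem_centralizer_singleton_iff.2 (St _ (inv_mem hx)))
        (mem_centralizer_singleton_iff.2 (St _ (inv_mem hy)))) ⟨1, by rw [pow_one, pow_two, e.z2]⟩⟩
  obtain ⟨T, hT, ST⟩ := H8.exists_isSylowIn_ge S2 (le_sup_left : S ≤ S ⊔ D.A)
  have SN : S ≤ D.N := fun s hs => hR.ct s (St s hs)
  have h1 := hT.inf_of_le_normalizer (N := D.A) (sup_le SN le_normalizer)
  rw [inf_of_le_right (le_sup_right : D.A ≤ S ⊔ D.A)] at h1
  obtain ⟨a, ha, e⟩ := h1.exists_conj_eq hF.par.syl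
  have mem : ∀ x, x ∈ T ⊓ D.A ↔ a * x * a⁻¹ ∈ D.U := fun x => e ▸ H8.conj_mem_conj_smul.symm
  have cj : ∀ {x}, x ∈ S → a * x * a⁻¹ ∈ MulAut.conj a • S := H8.conj_mem_conj_smul.2
  refine core0 hF hR (S := MulAut.conj a • S) (H8.isPGroup_conj_smul S2 a) (fun s hs => ?_)
    (fun s hs u hu => ?_) (e1.conj a) (e2.conj a) (cj m1) (cj m2) (cj m3) (cj m4) (conj_comm c1 a)
    (conj_comm c2 a) (conj_comm c3 a) (conj_comm c4 a)
    ((mem _).1 ⟨ST (zz e1 m1 m2).1, (zz e1 m1 m2).2⟩)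
    ((mem _).1 ⟨ST (zz e2 m3 m4).1, (zz e2 m3 m4).2⟩) (by simpa using ne)
  · have := conj_comm (St _ (H8.mem_conj_smul.1 hs)) a
    rwa [conj_of_eq (K_comm hR.tK ha), show a * (a⁻¹ * s * a) * a⁻¹ = s by group] at this
  · have hs' := H8.mem_conj_smul.1 hs
    have hu' := (mem (a⁻¹ * u * a)).2 (by simpa [mul_assoc] using hu)
    have := (mem _).1 (Subgroup.mem_inf.2 ⟨mul_mem (mul_mem (ST hs') hu'.1) (inv_mem (ST hs')),
      (mem_normalizer_iff.1 (SN hs') _).1 hu'.2⟩)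
    rwa [show a * (a⁻¹ * s * a * (a⁻¹ * u * a) * (a⁻¹ * s * a)⁻¹) * a⁻¹ = s * u * s⁻¹ by group]
      at this

end

/-! ### Coordinates on the double of `U` -/

abbrev T3 : Type := (F4 × F4) × (F4 × F4) × (F4 × F4)

def tm (c0 : F4) (x y : T3) : T3 :=
  (x.1 + y.1, x.2.1 + y.2.1, rm c0 y.1 x.2.1 + x.2.2 + y.2.2)

def ta (sw : Bool) (c0 l m : F4) (x : T3) : T3 :=
  if sw then tm c0 (0, sc l (tw true c0 x.1), 0)
    (sc m (tw true c0 x.2.1), 0, sc (l * m) (tw true c0 x.2.2))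
  else (sc l (tw true c0 x.1), sc m (tw true c0 x.2.1), sc (l * m) (tw true c0 x.2.2))

def ExT (c0 : F4) (x y : T3) (z : F4 × F4) : Prop :=
  tm c0 x y = tm c0 (tm c0 y x) (0, 0, z) ∧ tm c0 (0, 0, z) x = tm c0 x (0, 0, z) ∧
    tm c0 (0, 0, z) y = tm c0 y (0, 0, z) ∧ tm c0 (0, 0, z) (0, 0, z) = 0 ∧ z ≠ 0 ∧
    (tm c0 x x = 0 ∨ tm c0 x x = (0, 0, z)) ∧ (tm c0 y y = 0 ∨ tm c0 y y = (0, 0, z))

set_option synthInstance.maxSize 2000 in
instance instDecExT (c0 : F4) (x y : T3) (z : F4 × F4) : Decidable (ExT c0 x y z) := by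
  unfold ExT
  infer_instance

def wx (sw : Bool) (l : F4) (e : F4 × F4) : T3 :=
  if sw then (e, sc l e, sc (l * om) e) else (sc (l ^ 2) e, 0, 0)

def wy (sw : Bool) (l m : F4) (e : F4 × F4) : T3 :=
  if sw then (sc om e, sc (l * om ^ 2) e, sc (l * om) e) else (0, sc (m ^ 2) e, 0)

def wz (sw : Bool) (l m : F4) (e : F4 × F4) : F4 × F4 := if sw then sc l e else sc (l ^ 2 * m ^ 2) e

set_option synthInstance.maxSize 2000 in
theorem wit : ∀ (sw : Bool) (c0 l m : F4), l ≠ 0 → m ≠ 0 →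
    ta sw c0 l m (ta sw c0 l m ((1, 0), 0, 0)) = ((1, 0), 0, 0) →
    ta sw c0 l m (ta sw c0 l m (0, 0, (0, 1))) = (0, 0, (0, 1)) → ∃ e e' : F4 × F4,
    ExT c0 (wx sw l e) (wy sw l m e) (wz sw l m e) ∧
    ExT c0 (wx sw l e') (wy sw l m e') (wz sw l m e') ∧ wz sw l m e ≠ wz sw l m e' ∧
    ta sw c0 l m (wx sw l e) = wx sw l e ∧ ta sw c0 l m (wy sw l m e) = wy sw l m e ∧
    ta sw c0 l m (wx sw l e') = wx sw l e' ∧ ta sw c0 l m (wy sw l m e') = wy sw l m e' ∧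
    tm c0 (wx sw l e) (wx sw l e') = tm c0 (wx sw l e') (wx sw l e) ∧
    tm c0 (wx sw l e) (wy sw l m e') = tm c0 (wy sw l m e') (wx sw l e) ∧
    tm c0 (wy sw l m e) (wx sw l e') = tm c0 (wx sw l e') (wy sw l m e) ∧
    tm c0 (wy sw l m e) (wy sw l m e') = tm c0 (wy sw l m e') (wy sw l m e) := by
  decide +kernel

def Wt (D : RD G) (f : F4 → G) (x : T3) : G := Ee D f x.1 * Ee D.swap f x.2.1 * Vv D f x.2.2

theorem Wt_mem {f : F4 → G} (x : T3) : Wt D f x ∈ Us D f :=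
  mul_mem (mul_mem (subset_closure (by simp)) (subset_closure (by simp))) (subset_closure (by simp))

variable {f : F4 → G} {c0 : F4} (hQ : RQ D t O f c0)
include hQ

theorem Wt_mul (x y : T3) : Wt D f x * Wt D f y = Wt D f (tm c0 x y) := by
  have c : ∀ a b c, Ee D f a * Ee D.swap f b * Vv D f c = Vv D f c * (Ee D f a * Ee D.swap f b) :=
    fun a b c => (Commute.mul_left (hQ.EV a c) (hQ.BV b c)).eq
  simp only [Wt, tm, hQ.EE, hQ.BB, hQ.VV]
  calc _ = Ee D f x.1 * Ee D.swap f x.2.1 * (Vv D f x.2.2 * (Ee D f y.1 * Ee D.swap f y.2.1)) *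
        Vv D f y.2.2 := by group
    _ = Ee D f x.1 * (Ee D.swap f x.2.1 * Ee D f y.1) * Ee D.swap f y.2.1 * Vv D f x.2.2 *
        Vv D f y.2.2 := by rw [← c]; group
    _ = Ee D f x.1 * Ee D f y.1 * (Vv D f (rm c0 y.1 x.2.1) * (Ee D.swap f x.2.1 *
        Ee D.swap f y.2.1)) * Vv D f x.2.2 * Vv D f y.2.2 := by rw [hQ.BE]; group
    _ = _ := by rw [← (Commute.mul_left (hQ.BV _ _) (hQ.BV _ _)).eq]; group

theorem Wt_zero : Ee D f 0 = 1 ∧ Ee D.swap f 0 = 1 ∧ Vv D f 0 = 1 :=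
  ⟨by simpa using hQ.EE 0 0, by simpa using hQ.BB 0 0, by simpa using hQ.VV 0 0⟩

theorem Wt_0 : Wt D f 0 = 1 := by
  simp [Wt, (Wt_zero hQ).1, (Wt_zero hQ).2.1, (Wt_zero hQ).2.2]

theorem Wt_inj {x y : T3} (e : Wt D f x = Wt D f y) : x = y := by
  have a2 : ∀ a : F4 × F4, a + a = 0 := by decide
  have k : ∀ a b : F4 × F4, a + b = 0 → a = b := fun a b e => add_right_cancel (e.trans (a2 b).symm)
  have e1 : tm c0 y (y.1, y.2.1, rm c0 y.1 y.2.1 + y.2.2) = 0 := by simp [tm, a2]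
  obtain ⟨h1, h2, h3⟩ := hQ.nf _ _ _ ((Wt_mul hQ x (y.1, y.2.1, rm c0 y.1 y.2.1 + y.2.2)).symm.trans
    (by rw [e, Wt_mul hQ, e1, Wt_0 hQ]))
  have h4 := k _ _ h2
  refine Prod.ext (k _ _ h1) (Prod.ext h4 (add_left_cancel (a := rm c0 y.1 y.2.1) (k _ _ ?_)))
  rw [← h3, ← h4]
  rfl

theorem ExT.ex {x y : T3} {z : F4 × F4} (e : ExT c0 x y z) :
    Ex (Wt D f x) (Wt D f y) (Wt D f (0, 0, z)) := by
  obtain ⟨e1, e2, e3, e4, e5, e6, e7⟩ := e
  refine ⟨by simp only [Wt_mul hQ, e1], by simp only [Wt_mul hQ, e2], by simp only [Wt_mul hQ, e3],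
    by rw [Wt_mul hQ, e4, Wt_0 hQ], fun k => e5 ?_, ?_, ?_⟩
  · exact congrArg (·.2.2) (Wt_inj hQ (k.trans (Wt_0 hQ).symm))
  · exact e6.imp (fun k => by rw [Wt_mul hQ, k, Wt_0 hQ]) fun k => by rw [Wt_mul hQ, k]
  · exact e7.imp (fun k => by rw [Wt_mul hQ, k, Wt_0 hQ]) fun k => by rw [Wt_mul hQ, k]

omit hQ in
theorem pure : PureStmt.{u} := by
  intro G _ _ D t O f c c0 hF hR _ hQ hS D' hD g l m _ g2 ac k
  obtain ⟨sw, ha⟩ : ∃ sw, ∀ x, g * Wt D f x * g⁻¹ = Wt D f (ta sw c0 l m x) := by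
    rcases hD with rfl | rfl
    · exact ⟨false, fun x => by rw [Wt, ← conj_mul, ← conj_mul, ac.e, ac.b, ac.v]; rfl⟩
    · refine ⟨true, fun x => ?_⟩
      rw [Wt, ← conj_mul, ← conj_mul, ac.e, ac.b, ac.v, ta, if_pos rfl, ← Wt_mul hQ]
      simp only [Wt, (Wt_zero hQ).1, (Wt_zero hQ).2.1, (Wt_zero hQ).2.2, one_mul, mul_one, mul_assoc]
      rfl
  have h2 : ∀ x, ta sw c0 l m (ta sw c0 l m x) = x := fun x => Wt_inj hQ (by
    rw [← ha, ← ha, show g * (g * Wt D f x * g⁻¹) * g⁻¹ = g * g * Wt D f x * (g * g)⁻¹ by group, g2]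
    group)
  obtain ⟨e, e', x1, x2, ne, f1, f2, f3, f4, c1, c2, c3, c4⟩ :=
    wit sw c0 l m ac.st.l0 ac.st.m0 (h2 _) (h2 _)
  obtain ⟨h, hh⟩ := isConj_iff.1 k.symm
  have mem : ∀ {x}, ta sw c0 l m x = x →
      h * Wt D f x * h⁻¹ ∈ MulAut.conj h • (Us D f ⊓ centralizer {g}) := fun {x} e =>
    H8.conj_mem_conj_smul.2 ⟨Wt_mem x, mem_centralizer_singleton_iff.2
      (mul_inv_eq_iff_eq_mul.1 ((ha x).trans (congrArg _ e))).symm⟩
  have cm : ∀ {x y}, tm c0 x y = tm c0 y x →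
      Commute (h * Wt D f x * h⁻¹) (h * Wt D f y * h⁻¹) := fun e =>
    conj_comm (by rw [Wt_mul hQ, Wt_mul hQ, e]) h
  refine core hF hR (S := MulAut.conj h • (Us D f ⊓ centralizer {g}))
    (H8.isPGroup_conj_smul (IsPGroup.of_card (n := 12) hQ.card).to_inf_left h) (fun s hs => ?_) hS
    ((x1.ex hQ).conj h) ((x2.ex hQ).conj h) (mem f1) (mem f2) (mem f3) (mem f4) (cm c1) (cm c2)
    (cm c3) (cm c4) fun k => ne (congrArg (·.2.2) (Wt_inj hQ (by simpa using k)))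
  have := conj_comm (mem_centralizer_singleton_iff.1 (H8.mem_conj_smul.1 hs).2) h
  rwa [hh, show h * (h⁻¹ * s * h) * h⁻¹ = s by group] at this

end Cfsg.Agent.H60.AlP
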