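import Cfsg.Agent.H60.AsHD
import Cfsg.Agent.H30.OrthNonMax

/-! Project AS: the elements `τ` and `κ`. -/

set_option autoImplicit false
set_option linter.unusedSectionVars false

namespace Cfsg.Agent.H60.AsT

open Cfsg Subgroup Cfsg.Agent.H28 Cfsg.Agent.H30 QuadraticMap Cfsg.Agent.H42.AS
open Cfsg.Agent.H72.ASB

universe u

/-! ### Linear algebra -/

/-- The action of a real isometry. -/
def ap (φ : O q6) (x : N6 × N6) : N6 × N6 := (φ.1 x.1, φ.1 x.2)

theorem ap_sm (φ : O q6) (t : F4) (x : N6 × N6) : ap φ (sm t x) = sm t (ap φ x) := by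
  simp [ap, sm]

theorem bq_zero (x : N6 × N6) : bq x 0 = 0 := by
  ext <;> simp [bq]

theorem bq_sm (t : F4) (x y : N6 × N6) : bq (sm t x) y = t * bq x y := by
  ext
  · simp only [bq, sm, polar_add_left, polar_smul_left, smul_eq_mul, QuadraticAlgebra.re_mul]
    ring
  · simp only [bq, sm, polar_add_left, polar_smul_left, smul_eq_mul, QuadraticAlgebra.im_mul]
    ring

theorem bq_comm (x y : N6 × N6) : bq x y = bq y x := by
  ext
  · simp only [bq, polar_comm q6 y.1, polar_comm q6 y.2]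
  · simp only [bq, polar_comm q6 y.1, polar_comm q6 y.2]
    ring

theorem bq_add (x y z : N6 × N6) : bq (x + y) z = bq x z + bq y z := by
  ext
  · simp only [bq, Prod.fst_add, Prod.snd_add, polar_add_left, QuadraticAlgebra.re_add]
    ring
  · simp only [bq, Prod.fst_add, Prod.snd_add, polar_add_left, QuadraticAlgebra.im_add]
    ring

theorem bq_nd {x : N6 × N6} (h : ∀ y, bq x y = 0) : x = 0 := by
  refine Prod.ext ((qPlus_nondegenerate (F := ZMod 2) 3).1 _ fun y => ?_)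
    ((qPlus_nondegenerate (F := ZMod 2) 3).1 _ fun y => ?_)
  · simpa [bq] using congrArg QuadraticAlgebra.re (h (y, 0))
  · simpa [bq] using congrArg QuadraticAlgebra.im (h (y, 0))

theorem bq_ext {x x' : N6 × N6} (h : ∀ y, bq x y = bq x' y) : x = x' := by
  have : x + x' = 0 := bq_nd fun y => by rw [bq_add, h, f4_add]
  exact add_right_cancel (this.trans (vv2 _).symm)

theorem bq_be : ∀ u t : F4, bq (sm u (vF, 0)) (sm t (vE, 0)) = u * t := by
  simp only [bq, polar_qPlus]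
  decide

theorem split_sm (x : N6 × N6) : x = (x.1, 0) + sm om (x.2, 0) := by
  ext <;> simp [sm, om]

theorem sm_om2 (a b : N6) : (a, 0) + sm (om ^ 2) (b, 0) = (a + b, b) := by
  have h1 : (om ^ 2).re = 1 := by decide
  have h2 : (om ^ 2).im = 1 := by decide
  ext <;> simp [sm, h1, h2]

theorem sm_one (x : N6 × N6) : sm 1 x = x := by
  have h1 : (1 : F4).re = 1 := rfl
  have h2 : (1 : F4).im = 0 := rfl
  ext <;> simp [sm, h1, h2]

theorem q_vals : q6 vP = 1 ∧ q6 vT = 1 ∧ q6 vE = 0 ∧ q6 vF = 0 ∧ vE ≠ 0 ∧ vF ≠ 0 := by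
  simp only [qPlus_apply]
  decide

theorem refl_P : (refl q6 vP).1 vP = vP ∧ (refl q6 vP).1 vP' = vP + vP' ∧
    (refl q6 vP).1 vE = vE ∧ (refl q6 vT).1 vP = vP ∧ (refl q6 vT).1 vP' = vP' ∧
    (refl q6 vT).1 vE = vE := by
  simp only [refl_apply, q_vals.1, q_vals.2.1, inv_one, one_mul, polar_qPlus]
  decide

theorem exists_polar (l : N6 →+ ZMod 2) : ∃ m : N6, ∀ n, polar q6 m n = l n := by
  obtain ⟨m, e⟩ := (LinearMap.BilinForm.toDual (polarBilin q6)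
    (qPlus_nondegenerate (F := ZMod 2) 3)).surjective (l.toZModLinearMap 2)
  exact ⟨m, fun n => LinearMap.congr_fun e n⟩

def fB (u : F4) (x : F4 × F4) : F4 × F4 := (x.1, x.2 + u * x.1)
def fN (x : F4 × F4) : F4 × F4 := (x.2, x.1)
def fH (c : F4) (x : F4 × F4) : F4 × F4 := (x.1, x.2 + c * x.1 ^ 2)
def fT (c : F4) : F4 × F4 → F4 × F4 :=
  fB (c ^ 2) ∘ fN ∘ fB c ∘ fN ∘ fB (c ^ 2) ∘ fH c ∘ fN ∘ fH c ∘ fN

theorem fT_spec : ∀ c : F4, c ≠ 0 → (∀ s, fT c (0, s) = (0, s ^ 2)) ∧ (fT c (1, 0)).1 = c ^ 2 := by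
  decide

variable {G : Type u} [Group G] [Finite G] {C : WD G} {W Od : Subgroup G}

/-- The elements of `V₂`. -/
def E (C : WD G) (x : F4 × F4) : G := C.e x.1 * C.v x.2

def Act (C : WD G) (g : G) (F : F4 × F4 → F4 × F4) : Prop := ∀ x, g * E C x * g⁻¹ = E C (F x)

theorem Act.mul {g h : G} {F F' : F4 × F4 → F4 × F4} (a : Act C g F) (b : Act C h F') :
    Act C (g * h) (F ∘ F') := fun x => by
  rw [Function.comp_apply, ← a, ← b]
  group

variable (H : WC C W Od)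
include H

theorem E_v (s : F4) : E C (0, s) = C.v s := by rw [E, one_of_add H.e_add, one_mul]

theorem E_e (s : F4) : E C (s, 0) = C.e s := by rw [E, one_of_add H.v_add, mul_one]

theorem wπ_v (s : F4) : C.π (C.v s) = 0 := (H.π_ker _ (H.vW s)).2 ⟨s, rfl⟩

theorem wv_inj {s t : F4} (e : C.v s = C.v t) : s = t := by
  have := H.v_inj (s + t) (by rw [H.v_add, e, sq_of_add H.v_add])
  exact add_right_cancel (this.trans (f4_add t).symm)

theorem wπ_inv {a : G} (ha : a ∈ W) : C.π a⁻¹ = C.π a := by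
  have h1 : C.π 1 = 0 := by simpa using H.π_mul 1 (one_mem _) 1 (one_mem _)
  have h2 := H.π_mul _ (inv_mem ha) a ha
  rw [inv_mul_cancel, h1] at h2
  exact add_right_cancel (h2.symm.trans (vv2 _).symm)

theorem wV_of_π {a b : G} (ha : a ∈ W) (hb : b ∈ W) (e : C.π a = C.π b) : ∃ t, a = C.v t * b := by
  obtain ⟨t, ht⟩ := (H.π_ker _ (mul_mem ha (inv_mem hb))).1 (by
    rw [H.π_mul _ ha _ (inv_mem hb), wπ_inv H hb, e, vv2])
  exact ⟨t, by rw [ht, inv_mul_cancel_right]⟩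

theorem w_conj {a b : G} (ha : a ∈ W) (hb : b ∈ W) :
    a * b * a⁻¹ = C.v (bq (C.π a) (C.π b)) * b := by
  rw [H.comm a ha b hb]
  group

theorem w_v {a : G} (ha : a ∈ W) (s : F4) : a * C.v s = C.v s * a := by
  rw [H.comm a ha _ (H.vW s), wπ_v H, bq_zero, one_of_add H.v_add, one_mul]

theorem wπ_conj {a b : G} (ha : a ∈ W) (hb : b ∈ W) : C.π (a * b * a⁻¹) = C.π b := by
  rw [w_conj H ha hb, H.π_mul _ (H.vW _) _ hb, wπ_v H, zero_add]

theorem act_b (u : F4) : Act C (C.b u) (fB u) := fun x => by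
  rw [E, ← conj_mul, w_conj H (H.bW u) (H.eW _), w_v H (H.bW u), mul_inv_cancel_right, H.πb, H.πe,
    bq_be, ← w_v H (H.eW _), mul_assoc, ← H.v_add, add_comm]
  rfl

theorem n_v (s : F4) : C.n * C.v s * C.n⁻¹ = C.e s := by
  rw [inv_eq_of_mul_eq_one_right H.n2, mul_assoc, ← H.ne, ← mul_assoc, H.n2, one_mul]

theorem act_n : Act C C.n fN := fun x => by
  rw [E, ← conj_mul, H.ne, mul_inv_cancel_right, n_v H, ← w_v H (H.eW _)]
  rfl

theorem memC {g : G} (h : ∀ s, g * C.v s * g⁻¹ = C.v s) : g ∈ centralizer (C.V : Set G) := by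
  intro v hv
  obtain ⟨t, rfl⟩ := (mem_closure_range H.v_add).1 hv
  exact (mul_inv_eq_iff_eq_mul.1 (h t)).symm

theorem ofC {g : G} (h : g ∈ centralizer (C.V : Set G)) (s : F4) : g * C.v s * g⁻¹ = C.v s := by
  rw [← h _ (subset_closure ⟨s, rfl⟩), mul_inv_cancel_right]

theorem memN {g : G} (h : ∀ s, g * C.v s * g⁻¹ = C.v (s ^ 2)) : g ∈ normalizer (C.V : Set G) :=
  mem_normalizer_fintype fun v hv => by
    obtain ⟨t, rfl⟩ := (mem_closure_range H.v_add).1 hv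
    exact h t ▸ subset_closure ⟨_, rfl⟩

theorem exists_h : ∃ (h : G) (c : F4), (∀ o ∈ Od, o * h = h * o) ∧ Act C h (fH c) ∧
    h * C.r 1 * h⁻¹ ∈ W ∧ C.π (h * C.r 1 * h⁻¹) = C.π C.f1 := by
  obtain ⟨h, hM, e, hO⟩ := H.phi.Φ_surj (refl q6 vP * refl q6 vT)
    ((refl_mul_refl_mem_kerDS_iff _ (by rw [q_vals.1]; decide) (by rw [q_vals.2.1]; decide)).2
      (by rw [q_vals.1, q_vals.2.1]; exact ⟨1, rfl⟩))
  have cW : ∀ a ∈ W, h * a * h⁻¹ ∈ W := fun a ha => (mem_normalizer_iff.1 hM.2 a).1 ha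
  have act : ∀ a ∈ W, C.π (h * a * h⁻¹) = ap (refl q6 vP * refl q6 vT) (C.π a) :=
    fun a ha => e ▸ H.phi.act h hM a ha
  obtain ⟨r1, r2, r3, r4, r5, r6⟩ := refl_P
  have he : ∀ t, ∃ s, h * C.e t * h⁻¹ = C.v s * C.e t := fun t =>
    wV_of_π H (cW _ (H.eW t)) (H.eW t) (by
      rw [act _ (H.eW t), H.πe, ap_sm, ap, O_mul_apply, r6, r3, map_zero])
  choose l hl using he
  have ladd : ∀ t u, l (t + u) = l t + l u := fun t u => wv_inj H (mul_right_cancel (b := C.e (t + u)) (by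
    rw [← hl, H.e_add, ← conj_mul, hl, hl, H.v_add, mul_assoc, ← mul_assoc (C.e t),
      w_v H (H.eW t)]
    group))
  have l0 : l 0 = 0 := by simpa using ladd 0 0
  obtain ⟨c, d, h1, h2⟩ : ∃ c d : F4, l 1 = c + d ∧ l om = c * om ^ 2 + d * om := by
    have : ∀ a b : F4, ∃ c d : F4, a = c + d ∧ b = c * om ^ 2 + d * om := by decide
    exact this _ _
  have hl' : ∀ t, l t = c * t ^ 2 + d * t := fun t => by
    rcases f4_cases t with rfl | rfl | rfl | rfl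
    · simp [l0]
    · simp [h1]
    · exact h2
    · have : ∀ c d : F4, c * om ^ 2 + d * om + (c + d) = c * (om ^ 2) ^ 2 + d * om ^ 2 := by decide
      rw [← this, ← h1, ← h2, ← ladd, om_sq]
  have a1 : Act C h fun x => (x.1, x.2 + l x.1) := fun x => by
    rw [E, ← conj_mul, hl, ofC H hM.1, ← w_v H (H.eW _), mul_assoc, ← H.v_add, add_comm]
    rfl
  refine ⟨C.b d * h, c, fun o ho => by rw [← mul_assoc, H.OW o ho _ (H.bW d), mul_assoc, hO o ho,
    mul_assoc], fun x => ?_, ?_, ?_⟩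
  · rw [(act_b H d).mul a1 x]
    congr 1
    simp only [Function.comp_apply, fB, fH, hl', add_assoc, f4_add, add_zero]
  · rw [show C.b d * h * C.r 1 * (C.b d * h)⁻¹ = C.b d * (h * C.r 1 * h⁻¹) * (C.b d)⁻¹ by group]
    exact mul_mem (mul_mem (H.bW d) (cW _ (H.rW 1))) (inv_mem (H.bW d))
  · rw [show C.b d * h * C.r 1 * (C.b d * h)⁻¹ = C.b d * (h * C.r 1 * h⁻¹) * (C.b d)⁻¹ by group,
      wπ_conj H (H.bW d) (cW _ (H.rW 1)), act _ (H.rW 1), H.πr, H.πf, sm_one, ap, O_mul_apply,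
      O_mul_apply, r5, r4, r2, r1]

/-- the semilinear map induced by an element inducing the field automorphism on `V` -/
theorem exists_T {g : G} (gW : g ∈ normalizer (W : Set G))
    (gv : ∀ s, g * C.v s * g⁻¹ = C.v (s ^ 2)) :
    ∃ T : N6 × N6 → N6 × N6, (∀ a ∈ W, C.π (g * a * g⁻¹) = T (C.π a)) ∧
      (∀ x y, T (x + y) = T x + T y) ∧ (∀ x, qq (T x) = qq x ^ 2) ∧
      (∀ x y, bq (T x) (T y) = bq x y ^ 2) ∧ (∀ t x, T (sm t x) = sm (t ^ 2) (T x)) ∧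
      Function.Injective T := by
  have cW : ∀ a ∈ W, g * a * g⁻¹ ∈ W := fun a ha => (mem_normalizer_iff.1 gW a).1 ha
  choose σ σW σπ using H.π_surj
  set T : N6 × N6 → N6 × N6 := fun x => C.π (g * σ x * g⁻¹) with hT
  have h1 : ∀ a ∈ W, C.π (g * a * g⁻¹) = T (C.π a) := fun a ha => by
    obtain ⟨t, e⟩ := wV_of_π H ha (σW (C.π a)) (σπ _).symm
    nth_rewrite 1 [e]
    rw [← conj_mul, gv, H.π_mul _ (H.vW _) _ (cW _ (σW _)), wπ_v H, zero_add]
  have h2 : ∀ x y, T (x + y) = T x + T y := fun x y => by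
    rw [← σπ x, ← σπ y, ← H.π_mul _ (σW x) _ (σW y), ← h1 _ (mul_mem (σW x) (σW y)),
      ← h1 _ (σW x), ← h1 _ (σW y), ← conj_mul, H.π_mul _ (cW _ (σW x)) _ (cW _ (σW y))]
  have h3 : ∀ x, qq (T x) = qq x ^ 2 := fun x => wv_inj H (by
    rw [← H.sq _ (cW _ (σW x)), conj_mul, H.sq _ (σW x), gv, σπ])
  have h4 : ∀ x y, bq (T x) (T y) = bq x y ^ 2 := fun x y => wv_inj H (by
    have e := w_conj H (cW _ (σW x)) (cW _ (σW y))
    rw [show g * σ x * g⁻¹ * (g * σ y * g⁻¹) * (g * σ x * g⁻¹)⁻¹ = g * (σ x * σ y * (σ x)⁻¹) * g⁻¹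
      by group, w_conj H (σW x) (σW y), ← conj_mul, gv, σπ, σπ] at e
    exact (mul_right_cancel e).symm)
  have h5 : Function.Injective T := fun x y e => bq_ext fun z => by
    have : ∀ a b : F4, a ^ 2 = b ^ 2 → a = b := by decide
    exact this _ _ (by rw [← h4, ← h4, e])
  refine ⟨T, h1, h2, h3, h4, fun t x => bq_ext fun y => ?_, h5⟩
  obtain ⟨y, rfl⟩ := Finite.surjective_of_injective h5 y
  rw [h4, bq_sm, bq_sm, h4, mul_pow]

/-- the action is real, up to the field automorphism -/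
theorem exists_θ {g : G} (gW : g ∈ normalizer (W : Set G))
    (gv : ∀ s, g * C.v s * g⁻¹ = C.v (s ^ 2)) {c : F4}
    (ge : C.π (g * C.e 1 * g⁻¹) = sm (c ^ 2) (vE, 0)) :
    c = 1 ∧ ∃ θ : O q6, ∀ a ∈ W,
      C.π (g * a * g⁻¹) = (θ.1 (C.π a).1 + θ.1 (C.π a).2, θ.1 (C.π a).2) := by
  obtain ⟨T, h1, h2, h3, h4, h5, h6⟩ := exists_T H gW gv
  have cW : ∀ a ∈ W, g * a * g⁻¹ ∈ W := fun a ha => (mem_normalizer_iff.1 gW a).1 ha
  have TE : T (vE, 0) = sm (c ^ 2) (vE, 0) := by rw [← ge, h1 _ (H.eW 1), H.πe, sm_one]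
  have key : ∀ n : N6, n ≠ 0 → q6 n = 0 → ∃ n', T (n, 0) = sm (c ^ 2) (n', 0) := by
    intro n n0 hn
    obtain ⟨φ, hφ, e⟩ := exists_kerDS_apply_eq (qPlus_nondegenerate (F := ZMod 2) 3) (by simp)
      q_vals.2.2.2.2.1 n0 (q_vals.2.2.1.trans hn.symm)
    obtain ⟨k, kM, rfl, -⟩ := H.phi.Φ_surj φ hφ
    have kM' : g * k * g⁻¹ ∈ centralizer (C.V : Set G) ⊓ normalizer (W : Set G) := by
      refine Subgroup.mem_inf.2 ⟨memC H fun s => ?_, mul_mem (mul_mem gW kM.2) (inv_mem gW)⟩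
      have e4 : ∀ s : F4, (s ^ 2) ^ 2 = s := by decide
      have := gv (s ^ 2)
      rw [e4] at this
      rw [← this]
      nth_rewrite 2 [← ofC H kM.1 (s ^ 2)]
      group
    have a1 := H.phi.act k kM _ (H.eW 1)
    have a2 := H.phi.act _ kM' _ (cW _ (H.eW 1))
    rw [H.πe, sm_one, e, map_zero] at a1
    rw [show g * k * g⁻¹ * (g * C.e 1 * g⁻¹) * (g * k * g⁻¹)⁻¹ = g * (k * C.e 1 * k⁻¹) * g⁻¹ by group,
      h1 _ ((mem_normalizer_iff.1 kM.2 _).1 (H.eW 1)), a1, ge] at a2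
    refine ⟨(C.Φ (g * k * g⁻¹)).1 vE, a2.trans ((ap_sm _ _ _).trans ?_)⟩
    rw [ap, map_zero]
  have c1 : c = 1 := by
    obtain ⟨n', e⟩ := key vF q_vals.2.2.2.2.2 q_vals.2.2.2.1
    have := h4 (vF, 0) (vE, 0)
    have b1 : bq (vF, 0) (vE, 0) = 1 := by simpa [sm_one] using bq_be 1 1
    have b2 : bq (vE, 0) (n', 0) = ⟨polar q6 vE n', 0⟩ := by ext <;> simp [bq]
    rw [e, TE, bq_sm, bq_comm, bq_sm, b1, b2] at this
    have fin : ∀ (c : F4) (ε : ZMod 2), c ^ 2 * (c ^ 2 * ⟨ε, 0⟩) = 1 ^ 2 → c = 1 := by decide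
    exact fin _ _ this
  subst c1
  refine ⟨rfl, ?_⟩
  have T0 : T 0 = 0 := by simpa using h2 0 0
  have k2 : ∀ n : N6, q6 n = 0 → (T (n, 0)).2 = 0 := fun n hn => by
    by_cases n0 : n = 0
    · rw [n0]; exact congrArg Prod.snd T0
    · obtain ⟨n', e⟩ := key n n0 hn
      rw [e, one_pow, sm_one]
  have k3 : ∀ n : N6, (T (n, 0)).2 = 0 := fun n => by
    have e : ((n, 0) : N6 × N6) = (Sum.elim (fun i => n (.inl i)) fun _ => 0, 0) +
        (Sum.elim (fun _ => 0) (fun i => n (.inr i)), 0) := by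
      ext i
      · rcases i with i | i <;> simp
      · simp
    rw [e, h2, Prod.snd_add, k2 _ (by simp [qPlus_apply]), k2 _ (by simp [qPlus_apply]), add_zero]
  let A : N6 →+ N6 := AddMonoidHom.mk' (fun n => (T (n, 0)).1) fun a b => by
    rw [← Prod.fst_add, ← h2, Prod.mk_add_mk, add_zero]
  have hA : ∀ n, T (n, 0) = (A n, 0) := fun n => Prod.ext rfl (k3 n)
  have inj : Function.Injective (A.toZModLinearMap 2) := fun a b e =>
    congrArg Prod.fst (h6 (a₁ := (a, 0)) (a₂ := (b, 0)) (by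
      rw [hA, hA]; exact Prod.ext e rfl))
  refine ⟨⟨LinearEquiv.ofInjectiveEndo _ inj, fun n => ?_⟩, fun a ha => ?_⟩
  · change q6 (A n) = q6 n
    have := h3 (n, 0)
    have e : ∀ m : N6, qq (m, 0) = ⟨q6 m, 0⟩ := fun m => by ext <;> simp [qq]
    have fin : ∀ a b : ZMod 2, (⟨a, 0⟩ : F4) = ⟨b, 0⟩ ^ 2 → a = b := by decide
    rw [hA, e, e] at this
    exact fin _ _ this
  · rw [h1 a ha]
    nth_rewrite 1 [split_sm (C.π a)]
    rw [h2, h5, hA, hA, sm_om2]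
    rfl

/-- correcting by an element of `W` -/
theorem exists_w {g : G} (gW : g ∈ normalizer (W : Set G))
    (gv : ∀ s, g * C.v s * g⁻¹ = C.v (s ^ 2))
    (gπ : ∀ a ∈ W, (C.π a).2 = 0 → C.π (g * a * g⁻¹) = C.π a) :
    ∃ w ∈ W, ∀ a ∈ W, (C.π a).2 = 0 →
      w * g * a * (w * g)⁻¹ = a ∨ w * g * a * (w * g)⁻¹ = a * C.v 1 := by
  have cW : ∀ a ∈ W, g * a * g⁻¹ ∈ W := fun a ha => (mem_normalizer_iff.1 gW a).1 ha
  choose σ σW σπ using H.π_surj
  have ex : ∀ n : N6, ∃ s, g * σ (n, 0) * g⁻¹ = C.v s * σ (n, 0) := fun n =>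
    wV_of_π H (cW _ (σW _)) (σW _) (gπ _ (σW _) (by rw [σπ]))
  choose μ hμ using ex
  have key : ∀ a ∈ W, (C.π a).2 = 0 → ∀ s, g * a * g⁻¹ = C.v s * a → s.im = (μ (C.π a).1).im := by
    intro a ha h0 s e
    obtain ⟨t, et⟩ := wV_of_π H ha (σW ((C.π a).1, 0)) (by rw [σπ, ← h0])
    generalize (C.π a).1 = n at et ⊢
    rw [et, ← conj_mul, gv, hμ, ← mul_assoc, ← mul_assoc, ← H.v_add, ← H.v_add] at e
    have := wv_inj H (mul_right_cancel e)
    have fin : ∀ t m s : F4, t ^ 2 + m = s + t → s.im = m.im := by decide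
    exact fin _ _ _ this
  let l : N6 →+ ZMod 2 := AddMonoidHom.mk' (fun n => (μ n).im) fun a b => by
    have e := key _ (mul_mem (σW (a, 0)) (σW (b, 0)))
      (by rw [H.π_mul _ (σW _) _ (σW _), σπ, σπ]; simp) (μ a + μ b) (by
        rw [← conj_mul, hμ, hμ, H.v_add, mul_assoc, ← mul_assoc (σ (a, 0)), w_v H (σW _)]
        group)
    rw [H.π_mul _ (σW _) _ (σW _), σπ, σπ] at e
    exact e.symm
  obtain ⟨m, hm⟩ : ∃ m : N6, ∀ n, polar q6 m n = (μ n).im := exists_polar l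
  refine ⟨σ (0, m), σW _, fun a ha h0 => ?_⟩
  obtain ⟨s, e⟩ := wV_of_π H (cW a ha) ha (gπ a ha h0)
  have e1 : σ (0, m) * g * a * (σ (0, m) * g)⁻¹ = a * C.v (s + bq (0, m) (C.π a)) := by
    rw [show σ (0, m) * g * a * (σ (0, m) * g)⁻¹ = σ (0, m) * (g * a * g⁻¹) * (σ (0, m))⁻¹ by group,
      e, ← conj_mul, w_v H (σW _), mul_inv_cancel_right, w_conj H (σW _) ha, σπ, w_v H ha, H.v_add,
      mul_assoc]
  have e2 : (s + bq (0, m) (C.π a)).im = 0 := by
    have h2 : ∀ a : ZMod 2, a + a = 0 := by decide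
    rw [QuadraticAlgebra.im_add, key a ha h0 s e, ← hm]
    simp [bq, h0, h2]
  have fin : ∀ x : F4, x.im = 0 → x = 0 ∨ x = 1 := by decide
  rcases fin _ e2 with k | k
  · left; rw [e1, k, one_of_add H.v_add, mul_one]
  · right; rw [e1, k]

omit H in
theorem tau : TauStmt.{u} := by
  intro G _ _ C W Od H hN
  obtain ⟨h, c, hO, ah, hW, hπ⟩ := exists_h H
  have an := act_n H
  have e4 : ∀ s : F4, (s ^ 2) ^ 2 = s := by decide
  have c0 : c ≠ 0 := by
    rintro rfl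
    have k : C.n * h * C.n ∈ normalizer (W : Set G) :=
      hN (centralizer_le_normalizer _ (memC H fun s => by
        rw [← E_v H, mul_assoc C.n h, (an.mul (ah.mul an)) (0, s)]
        simp [fN, fH]))
    obtain ⟨x, e⟩ := wV_of_π H H.fW hW hπ.symm
    have ni : C.n⁻¹ = C.n := inv_eq_of_mul_eq_one_right H.n2
    refine H.nf ?_
    have : C.n * C.f1 * C.n = C.e x * (C.n * h * C.n * C.r 1 * (C.n * h * C.n)⁻¹) := by
      rw [e, ← n_v H, mul_assoc (C.n * h), H.nr]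
      nth_rewrite 2 [← ni]
      group
    exact this ▸ mul_mem (H.eW x) ((mem_normalizer_iff.1 k _).1 (H.rW 1))
  set t0 := C.b (c ^ 2) * (C.n * (C.b c * (C.n * (C.b (c ^ 2) * (h * (C.n * (h * C.n))))))) with ht0
  have a0 : Act C t0 (fT c) := (act_b H _).mul (an.mul ((act_b H _).mul (an.mul ((act_b H _).mul
    (ah.mul (an.mul (ah.mul an)))))))
  have O0 : t0 ∈ centralizer (Od : Set G) := by
    have k1 : ∀ u, C.b u ∈ centralizer (Od : Set G) := fun u o ho => H.OW o ho _ (H.bW u)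
    have k2 : C.n ∈ centralizer (Od : Set G) := H.nO
    have k3 : h ∈ centralizer (Od : Set G) := hO
    exact mul_mem (k1 _) (mul_mem k2 (mul_mem (k1 _) (mul_mem k2 (mul_mem (k1 _)
      (mul_mem k3 (mul_mem k2 (mul_mem k3 k2)))))))
  have v0 : ∀ s, t0 * C.v s * t0⁻¹ = C.v (s ^ 2) := fun s => by
    rw [← E_v H, a0, (fT_spec c c0).1, E_v H]
  have W0 := hN (memN H v0)
  obtain ⟨rfl, θ, hθ⟩ := exists_θ H W0 v0 (c := c) (by
    rw [← E_e H, a0, E, H.π_mul _ (H.eW _) _ (H.vW _), wπ_v H, add_zero, H.πe, (fT_spec c c0).2])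
  have cor : ∀ g ∈ centralizer (C.V : Set G) ⊓ normalizer (W : Set G),
      (∀ s, g * t0 * C.v s * (g * t0)⁻¹ = C.v (s ^ 2)) ∧ ∀ a ∈ W, C.π (g * t0 * a * (g * t0)⁻¹) =
        ((C.Φ g * θ).1 ((C.π a).1 + (C.π a).2), (C.Φ g * θ).1 (C.π a).2) := by
    intro g hg
    refine ⟨fun s => ?_, fun a ha => ?_⟩
    · rw [← ofC H hg.1 (s ^ 2), ← v0]
      group
    · rw [show g * t0 * a * (g * t0)⁻¹ = g * (t0 * a * t0⁻¹) * g⁻¹ by group,
        H.phi.act g hg _ ((mem_normalizer_iff.1 W0 a).1 ha), hθ a ha, ← map_add]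
      rfl
  have hk : θ⁻¹ ∈ kerDS (qPlus_nondegenerate (F := ZMod 2) 3) := by
    by_contra k
    have k1 : refl q6 vP * θ⁻¹ ∈ kerDS (qPlus_nondegenerate (F := ZMod 2) 3) := by
      rw [mem_kerDS_of_two_eq_zero _ (by decide)] at k ⊢
      rw [map_mul, dickson_refl _ (by rw [q_vals.1]; decide),
        (Int.units_eq_one_or _).resolve_left k]
      simp
    obtain ⟨g, hg, e, -⟩ := H.phi.Φ_surj _ k1
    obtain ⟨c1, c2⟩ := cor g hg
    rw [e, inv_mul_cancel_right] at c2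
    obtain ⟨r1, r2, -⟩ := refl_P
    have := H.tw (g * t0) (mul_mem hg.2 W0) (memN H c1)
      (by rw [← mul_inv_eq_iff_eq_mul, c1, one_pow]) (fun s => ⟨s ^ 2, by
        have fin : ∀ s : F4, ((s.re + s.im) • (vP + vP') + s.re • vP,
            s.im • (vP + vP') + (s.re + s.im) • vP) = sm (s ^ 2) (vP', vP) := by decide
        have e1 : ∀ s : F4, (sm s (vP', vP)).1 + (sm s (vP', vP)).2 =
            (s.re + s.im) • vP' + s.re • vP := by decide
        rw [c2 _ (H.rW s), H.πr, H.πr, ← fin, e1]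
        simp only [sm, map_add, map_smul, r1, r2]⟩) (fun a ha h0 h1 _ => by
        rw [c2 a ha, h0, add_zero, map_zero, refl_apply_of_orth h1, ← h0])
    exact absurd (wv_inj H ((ofC H this om).symm.trans (c1 om))) (by decide)
  obtain ⟨g, hg, e, gO⟩ := H.phi.Φ_surj _ hk
  obtain ⟨c1, c2⟩ := cor g hg
  rw [e, inv_mul_cancel] at c2
  obtain ⟨w, wW, hw⟩ := exists_w H (mul_mem hg.2 W0) c1 fun a ha h0 => by
    rw [c2 a ha, h0, add_zero, ← h0]
    rfl
  set t := w * (g * t0) with ht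
  have tv : ∀ s, t * C.v s * t⁻¹ = C.v (s ^ 2) := fun s => by
    rw [show t * C.v s * t⁻¹ = w * (g * t0 * C.v s * (g * t0)⁻¹) * w⁻¹ by rw [ht]; group, c1,
      w_v H wW, mul_inv_cancel_right]
  have tO : t ∈ centralizer (Od : Set G) :=
    mul_mem (fun o ho => H.OW o ho w wW) (mul_mem gO O0)
  obtain ⟨k, m, hm, eo⟩ := Nat.exists_eq_two_pow_mul_odd (orderOf_pos t).ne'
  have p1 : ∀ j s, t ^ (2 * j + 1) * C.v s * (t ^ (2 * j + 1))⁻¹ = C.v (s ^ 2) := by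
    intro j
    induction j with
    | zero => simpa using tv
    | succ j ih =>
      intro s
      rw [show t ^ (2 * (j + 1) + 1) * C.v s * (t ^ (2 * (j + 1) + 1))⁻¹ =
        t * (t * (t ^ (2 * j + 1) * C.v s * (t ^ (2 * j + 1))⁻¹) * t⁻¹) * t⁻¹ by group, ih, tv, tv,
        e4]
  have p2 : ∀ j : ℕ, ∀ a ∈ W, (C.π a).2 = 0 →
      t ^ j * a * (t ^ j)⁻¹ = a ∨ t ^ j * a * (t ^ j)⁻¹ = a * C.v 1 := by
    intro j a ha h0
    induction j with
    | zero => simp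
    | succ j ih =>
      rw [show t ^ (j + 1) * a * (t ^ (j + 1))⁻¹ = t * (t ^ j * a * (t ^ j)⁻¹) * t⁻¹ by group]
      rcases ih with k | k
      · rw [k]; exact hw a ha h0
      · rw [k, ← conj_mul, tv, one_pow]
        rcases hw a ha h0 with k' | k'
        · right; rw [k']
        · left; rw [k', mul_assoc, sq_of_add H.v_add, mul_one]
  obtain ⟨j, rfl⟩ := hm
  have aκ := an.mul ((act_b H 1).mul (ah.mul an))
  refine ⟨t ^ (2 * j + 1), C.n * (C.b 1 * (h * C.n)),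
    pow_mem (mul_mem (le_normalizer wW) (mul_mem hg.2 W0)) _, ?_, ?_,
    ⟨k, by rw [← pow_mul, mul_comm, ← eo, pow_orderOf_eq_one]⟩, pow_mem tO _, p2 _, ?_, ?_, ?_⟩
  · rw [← mul_inv_eq_iff_eq_mul, p1, one_pow]
  · rw [← mul_inv_eq_iff_eq_mul, p1]
  · rw [← mul_inv_eq_iff_eq_mul, ← E_v H, aκ]
    exact congrArg (E C) (by decide)
  · rw [← mul_inv_eq_iff_eq_mul, ← E_v H, aκ, E_v H]
    exact congrArg (E C) (show _ = (1, om) by decide)
  · rw [← mul_inv_eq_iff_eq_mul, ← E_e H, aκ]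
    exact congrArg (E C) (by decide)

end Cfsg.Agent.H60.AsT
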