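import Cfsg.Agent.H60.AlHD
import Cfsg.Agent.H72.ASWA

/-! The translations of `E = R V` (project AL). -/

set_option autoImplicit false
set_option linter.unusedSectionVars false

namespace Cfsg.Agent.H60.AlW

open Cfsg Subgroup Cfsg.Agent.H28 Cfsg.Agent.H42.AL Cfsg.Agent.H86.U3 Cfsg.Agent.H86.Dbl
open Cfsg.Agent.H42.AS (om)
open Cfsg.Agent.H72.ASB (f4_cases f4_add om_sq om_ne om_cube om_fix one_of_add sq_of_add inv_of_add
  mem_closure_range conj_of_eq)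
open Cfsg.Agent.H72.ASWA (f4_fpf f4_ind)
open Cfsg.Agent.H60.AlT (xe_A xb_A rho_A xe_U xb_U xv_U xv_V K_comm U_ind xv_A U_A v_eq_one memCV
  U_CV)

universe u

local instance factTwoWA : Fact (Nat.Prime 2) := ⟨Nat.prime_two⟩

variable {G : Type u} [Group G] {D : RD G} {R : Subgroup G}

/-- coordinates on `U / V` -/
def Co (D : RD G) (a : G) (x : F4 × F4) : Prop := ∃ s, a = D.xe x.1 * D.xb x.2 * D.xv s

theorem Co.mem {a : G} {x : F4 × F4} (c : Co D a x) : a ∈ D.U := by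
  obtain ⟨s, rfl⟩ := c
  exact mul_mem (mul_mem (xe_U _) (xb_U _)) (xv_U _)

section

variable (h : D.Rel)
include h

theorem v0 : D.xv 0 = 1 := one_of_add h.vv
theorem v_sq (t : F4) : D.xv t * D.xv t = 1 := sq_of_add h.vv t
theorem v_inv (t : F4) : (D.xv t)⁻¹ = D.xv t := inv_of_add h.vv t

theorem v_inj {t u : F4} (e : D.xv t = D.xv u) : t = u := by
  have := v_eq_one h (t := t + u) (by rw [h.vv, e, v_sq h])
  rw [← add_zero t, ← f4_add u, ← add_assoc, this, zero_add]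

theorem mem_V {g : G} : g ∈ D.V ↔ ∃ t, g = D.xv t := mem_closure_range h.vv

theorem V_sq {g : G} (hg : g ∈ D.V) : g * g = 1 := by
  obtain ⟨t, rfl⟩ := (mem_V h).1 hg; exact v_sq h t

theorem V_U : D.V ≤ D.U := fun _ hv => by obtain ⟨t, rfl⟩ := (mem_V h).1 hv; exact xv_U t

theorem U_v {p : G} (hp : p ∈ D.U) (t : F4) : p * D.xv t = D.xv t * p :=
  (U_CV h hp _ (xv_V t)).symm

theorem rho_U : ∀ q ∈ D.U, D.rho * q * D.rho⁻¹ ∈ D.U := fun _ hq =>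
  U_ind (H := D.U.comap (MulAut.conj D.rho).toMonoidHom)
    (fun t => show _ * _ * _ ∈ _ from conj_of_eq (h.re t) ▸ xe_U _)
    (fun t => show _ * _ * _ ∈ _ from conj_of_eq (h.rb t) ▸ xb_U _)
    (fun t => show _ * _ * _ ∈ _ from conj_of_eq (h.rv t) ▸ xv_U _) hq

theorem co_mul (x y : F4 × F4) (s t : F4) :
    D.xe x.1 * D.xb x.2 * D.xv s * (D.xe y.1 * D.xb y.2 * D.xv t) =
      D.xe (x.1 + y.1) * D.xb (x.2 + y.2) * D.xv (x.2 * y.1 + s + t) := by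
  calc _ = D.xe x.1 * D.xb x.2 * (D.xv s * (D.xe y.1 * D.xb y.2)) * D.xv t := by group
    _ = D.xe x.1 * (D.xb x.2 * D.xe y.1) * D.xb y.2 * D.xv s * D.xv t := by
      rw [← U_v h (mul_mem (xe_U _) (xb_U _))]; group
    _ = D.xe x.1 * D.xe y.1 * (D.xv (x.2 * y.1) * (D.xb x.2 * D.xb y.2)) * D.xv s * D.xv t := by
      rw [h.be]; group
    _ = _ := by rw [← U_v h (mul_mem (xb_U _) (xb_U _)), h.ee, h.bb, h.vv, h.vv]; group

theorem Co.comm {a q : G} {x y : F4 × F4} (c : Co D a x) (c' : Co D q y) :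
    a * q = q * a * D.xv (x.1 * y.2 + x.2 * y.1) := by
  obtain ⟨s, rfl⟩ := c
  obtain ⟨t, rfl⟩ := c'
  rw [co_mul h, co_mul h, mul_assoc _ (D.xv _), ← h.vv, add_comm y.1, add_comm y.2]
  congr 2
  linear_combination -f4_add (x.1 * y.2)

theorem Co.sq {a : G} {x : F4 × F4} (c : Co D a x) : a * a = D.xv (x.2 * x.1) := by
  obtain ⟨s, rfl⟩ := c
  rw [co_mul h, f4_add, f4_add, add_assoc, f4_add, add_zero, one_of_add h.ee, one_of_add h.bb,
    one_mul, one_mul]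

theorem co_e (t : F4) : Co D (D.xe t) (t, 0) := ⟨0, by rw [one_of_add h.bb, v0 h, mul_one, mul_one]⟩

theorem co_b (t : F4) : Co D (D.xb t) (0, t) := ⟨0, by rw [one_of_add h.ee, v0 h, mul_one, one_mul]⟩

theorem Co.uniq {a : G} {x y : F4 × F4} (c : Co D a x) (c' : Co D a y) : x = y := by
  have e1 := v_inj h (mul_left_cancel ((c.comm h (co_e h 1)).symm.trans (c'.comm h (co_e h 1))))
  have e2 := v_inj h (mul_left_cancel ((c.comm h (co_b h 1)).symm.trans (c'.comm h (co_b h 1))))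
  exact Prod.ext (by simpa using e2) (by simpa using e1)

theorem Co.mul_v {a : G} {x : F4 × F4} (c : Co D a x) (t : F4) : Co D (a * D.xv t) x := by
  obtain ⟨s, rfl⟩ := c
  exact ⟨s + t, by rw [h.vv, mul_assoc]⟩

theorem Co.div {a b : G} {x : F4 × F4} (c : Co D a x) (c' : Co D b x) : ∃ t, a = b * D.xv t := by
  obtain ⟨s, rfl⟩ := c
  obtain ⟨t, rfl⟩ := c'
  exact ⟨t + s, by rw [mul_assoc _ (D.xv t), ← h.vv, ← add_assoc, f4_add, zero_add]⟩

theorem Co.rho {a : G} {x : F4 × F4} (c : Co D a x) :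
    Co D (D.rho * a * D.rho⁻¹) (om * x.1, om * x.2) := by
  obtain ⟨s, rfl⟩ := c
  exact ⟨_, by rw [← conj_mul, ← conj_mul, conj_of_eq (h.re _), conj_of_eq (h.rb _),
    conj_of_eq (h.rv _)]⟩

omit h in
/-- tight embedding, elementwise -/
theorem te [Finite G] (hs : IsStandardSubgroup D.A) {k g : G} (hk : k ∈ D.K) (h1 : k ≠ 1)
    (h2 : k * k = 1) (hg : g * k * g⁻¹ ∈ D.K) : g ∈ normalizer (D.A : Set G) := by
  rw [hs.2.2.2]
  by_contra hn
  have h3 : g * k * g⁻¹ ∈ D.K ⊓ D.K.map (MulAut.conj g).toMonoidHom := ⟨hg, k, hk, rfl⟩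
  have h4 := (hs.2.1.2 g hn).of_dvd_nat (orderOf_dvd_natCard _ h3)
  exact h1 (by simpa using H86.U3.eq_one_of_odd_of_two h4 (n := 1) (by
    rw [pow_one, pow_two, H86.U3.conj_sq h2]))

omit h in
theorem K_norm (hs : IsStandardSubgroup D.A) {k g : G} (hg : g ∈ normalizer (D.A : Set G))
    (hk : k ∈ D.K) : g * k * g⁻¹ ∈ D.K := by
  rw [hs.2.2.2] at hg
  exact (mem_normalizer_iff.1 hg k).1 hk

end

theorem exists_co (hF : D.Fa) {a : G} (ha : a ∈ D.U) : ∃ x, Co D a x := by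
  obtain ⟨t1, t2, t3, e⟩ := hF.par.unf a ha
  exact ⟨(t1, t2), t3, e⟩

theorem Co.conj (hF : D.Fa) {a u : G} {x : F4 × F4} (c : Co D a x) (hu : u ∈ D.U) :
    Co D (u * a * u⁻¹) x := by
  obtain ⟨y, c'⟩ := exists_co hF hu
  rw [c'.comm hF.rel c, mul_assoc a, U_v hF.rel hu, ← mul_assoc, mul_inv_cancel_right]
  exact c.mul_v hF.rel _

/-- `g` exchanges `E₁` and `E₂` -/
def Sw (D : RD G) (g : G) : Prop :=
  ∃ l m, l ≠ 0 ∧ m ≠ 0 ∧ ∀ a x, Co D a x → Co D (g * a * g⁻¹) (m * x.2, l * x.1)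

theorem typ (hF : D.Fa) {g : G} (gN : g ∈ D.N) (gV : ∀ t, g * D.xv t = D.xv t * g)
    (g2 : g * g = 1) : (∃ u ∈ D.U, u * g ∈ D.K) ∨ Sw D g := by
  have h := hF.rel
  obtain ⟨u, hu, l, m, fr, st⟩ := hF.par.nU g gN (centralizer_le_normalizer _ (memCV h gV))
  have cv : ∀ t, u * g * D.xv t * (u * g)⁻¹ = D.xv t := fun t => conj_of_eq (by
    rw [mul_assoc, gV, ← mul_assoc, U_v h hu, mul_assoc])
  have fin : ∀ (a : F4) (fr : Bool), 1 = a * pw fr 1 → om = a * pw fr om → a = 1 ∧ fr = false := by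
    decide
  have back : ∀ a x, Co D (u * g * a * (u * g)⁻¹) x → Co D (g * a * g⁻¹) x := fun a x c => by
    have := c.conj hF (inv_mem hu)
    rwa [show u⁻¹ * (u * g * a * (u * g)⁻¹) * u⁻¹⁻¹ = g * a * g⁻¹ by group] at this
  rcases st with st | st
  · obtain ⟨lm, rfl⟩ := fin _ _ (v_inj h ((cv 1).symm.trans (st.v 1)))
      (v_inj h ((cv om).symm.trans (st.v om)))
    have k1 : ∀ t s, Co D (g * (D.xe t * D.xv s) * g⁻¹) (l * t, 0) := fun t s =>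
      back _ _ (by rw [← conj_mul, st.e, cv]; exact (co_e h _).mul_v h s)
    obtain ⟨s, e⟩ := (k1 1 0).div h (co_e h _)
    have k2 := k1 (l * 1) s
    rw [← e, show g * (g * (D.xe 1 * D.xv 0) * g⁻¹) * g⁻¹ =
      g * g * (D.xe 1 * D.xv 0) * (g * g)⁻¹ by group, g2, one_mul, inv_one, mul_one] at k2
    have l2 := congrArg Prod.fst (k2.uniq h ((co_e h 1).mul_v h 0))
    obtain ⟨rfl, rfl⟩ : l = 1 ∧ m = 1 :=
      (by decide : ∀ l m : F4, l * (l * 1) = 1 → l * m = 1 → l = 1 ∧ m = 1) l m l2 lm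
    exact .inl ⟨u, hu, hF.par.stK _ st⟩
  · obtain ⟨-, rfl⟩ := fin _ _ (v_inj h ((cv 1).symm.trans (st.v 1)))
      (v_inj h ((cv om).symm.trans (st.v om)))
    refine .inr ⟨l, m, st.l0, st.m0, ?_⟩
    rintro _ x ⟨s, rfl⟩
    refine back _ _ ?_
    rw [← conj_mul, ← conj_mul, st.e, st.b, cv]
    change Co D (D.xb (l * x.1) * D.xe (m * x.2) * _) _
    rw [(co_b h _).comm h (co_e h _)]
    exact (Co.mul_v h (x := (m * x.2, l * x.1)) ⟨_, rfl⟩ s)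

/-- the elements centralising `V` and `R V / V` -/
def WW (h : D.Rel) (R : Subgroup G) : Subgroup G where
  carrier := {y | (∀ t, y * D.xv t = D.xv t * y) ∧ ∀ x ∈ R, ∃ t, y * x * y⁻¹ = x * D.xv t}
  one_mem' := ⟨by simp, fun x _ => ⟨0, by simp [v0 h]⟩⟩
  mul_mem' := fun {a b} ha hb => ⟨fun t => (Commute.mul_left (ha.1 t) (hb.1 t)).eq, fun x hx => by
    obtain ⟨s, hs⟩ := ha.2 x hx
    obtain ⟨t, ht⟩ := hb.2 x hx
    refine ⟨s + t, ?_⟩
    calc _ = a * (b * x * b⁻¹) * a⁻¹ := by group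
      _ = a * x * a⁻¹ * (a * D.xv t * a⁻¹) := by rw [ht]; group
      _ = _ := by rw [hs, ha.1, h.vv]; group⟩
  inv_mem' := fun {a} ha => ⟨fun t => (Commute.inv_left (ha.1 t)).eq, fun x hx => by
    obtain ⟨s, hs⟩ := ha.2 x hx
    refine ⟨s, ?_⟩
    calc _ = a⁻¹ * (x * (D.xv s * D.xv s)) * a := by rw [v_sq h]; group
      _ = a⁻¹ * (x * D.xv s) * (D.xv s * a) := by group
      _ = _ := by rw [← ha.1]; nth_rewrite 1 [← hs]; group⟩

/-- the translation part -/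
noncomputable def th (D : RD G) (y x : G) : F4 :=
  Classical.epsilon fun t => y * x * y⁻¹ = x * D.xv t

theorem th_spec {h : D.Rel} {y x : G} (hy : y ∈ WW h R) (hx : x ∈ R) :
    y * x * y⁻¹ = x * D.xv (th D y x) := Classical.epsilon_spec (hy.2 x hx)

theorem th_eq (h : D.Rel) {y x : G} {t : F4} (e : y * x * y⁻¹ = x * D.xv t) : th D y x = t :=
  v_inj h (mul_left_cancel ((Classical.epsilon_spec
    (p := fun t => y * x * y⁻¹ = x * D.xv t) ⟨t, e⟩).symm.trans e))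

theorem th_mul {h : D.Rel} {x : G} (hx : x ∈ R) :
    ∀ a ∈ WW h R, ∀ b ∈ WW h R, th D (a * b) x = th D a x + th D b x := fun a ha b hb =>
  th_eq h (by
    calc _ = a * (b * x * b⁻¹) * a⁻¹ := by group
      _ = a * x * a⁻¹ * (a * D.xv (th D b x) * a⁻¹) := by rw [th_spec hb hx]; group
      _ = _ := by rw [th_spec ha hx, ha.1, h.vv]; group)

theorem th_odd {h : D.Rel} {x y : G} (hx : x ∈ R) (hy : y ∈ WW h R) {m : ℕ} (hm : Odd m) :
    th D (y ^ m) x = th D y x := by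
  obtain ⟨m, rfl⟩ := hm
  rw [on_pow (f := fun y => th D y x) (th_mul hx) hy, add_nsmul, one_nsmul, mul_nsmul, two_nsmul,
    f4_add, nsmul_zero, zero_add]

/-- the part of `K` which lies in all translates -/
def II (h : D.Rel) (R : Subgroup G) : Subgroup G where
  carrier := {k | ∀ y ∈ WW h R, y * k * y⁻¹ ∈ D.K}
  one_mem' := by simp
  mul_mem' := fun {a b} ha hb y hy => by
    simpa [mul_assoc] using mul_mem (ha y hy) (hb y hy)
  inv_mem' := fun {a} ha y hy => by simpa [mul_assoc] using inv_mem (ha y hy)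

theorem II_K {h : D.Rel} {k : G} (hk : k ∈ II h R) : k ∈ D.K := by simpa using hk 1 (one_mem _)

theorem II_conj {h : D.Rel} {k y : G} (hk : k ∈ II h R) (hy : y ∈ WW h R) :
    y * k * y⁻¹ ∈ II h R := fun z hz => by simpa [mul_assoc] using hk _ (mul_mem hz hy)

variable (hF : D.Fa) (hP : PD D R)
include hP

theorem R_comm {x y : G} (hx : x ∈ R) (hy : y ∈ R) : x * y = y * x := comm_of_sq hP.sq hx hy

theorem RA {x a : G} (hx : x ∈ R) (ha : a ∈ D.A) : a * x = x * a := K_comm (hP.syl.le hx) ha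

theorem exists_ne : ∃ x ∈ R, x ≠ 1 := by
  by_contra h
  push Not at h
  have := hP.card
  rw [(eq_bot_iff_forall R).2 h, card_bot] at this
  omega

include hF

omit hP in
theorem KV {k : G} (hk : k ∈ D.K) (hv : k ∈ D.V) : k = 1 :=
  hF.par.AK k (U_A hF.rel (V_U hF.rel hv)) hk

theorem th_add {y : G} (hy : y ∈ WW hF.rel R) :
    ∀ a ∈ R, ∀ b ∈ R, th D y (a * b) = th D y a + th D y b := fun a ha b hb =>
  th_eq hF.rel (by
    calc _ = y * a * y⁻¹ * (y * b * y⁻¹) := by group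
      _ = a * (D.xv (th D y a) * b) * D.xv (th D y b) := by rw [th_spec hy ha, th_spec hy hb]; group
      _ = _ := by rw [RA hP hb (xv_A hF.rel _), hF.rel.vv]; group)

theorem rho_WW {y : G} (hy : y ∈ WW hF.rel R) : D.rho * y * D.rho⁻¹ ∈ WW hF.rel R ∧
    ∀ x ∈ R, th D (D.rho * y * D.rho⁻¹) x = om ^ 2 * th D y x := by
  have h1 : ∀ x ∈ R, D.rho * y * D.rho⁻¹ * x * (D.rho * y * D.rho⁻¹)⁻¹ =
      x * D.xv (om ^ 2 * th D y x) := fun x hx => by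
    calc _ = D.rho * (y * (D.rho⁻¹ * x) * D.rho * y⁻¹) * D.rho⁻¹ := by group
      _ = D.rho * x * D.xv (th D y x) * D.rho⁻¹ := by
        rw [RA hP hx (inv_mem rho_A), mul_assoc D.rho x, ← th_spec hy hx]; group
      _ = _ := by rw [RA hP hx rho_A, mul_assoc x, hF.rel.rv]; group
  refine ⟨⟨fun t => ?_, fun x hx => ⟨_, h1 x hx⟩⟩, fun x hx => th_eq hF.rel (h1 x hx)⟩
  have h2 := conj_of_eq (hF.rel.rv (om * t))
  rw [← mul_assoc, ← pow_succ, om_cube, one_mul] at h2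
  rw [← h2]
  exact conj_comm (hy.1 _) _

theorem U_WW {p : G} (hp : p ∈ D.U) : p ∈ WW hF.rel R ∧ ∀ x ∈ R, th D p x = 0 :=
  have h1 : ∀ x ∈ R, p * x * p⁻¹ = x * D.xv 0 := fun x hx => by
    rw [RA hP hx (U_A hF.rel hp), v0 hF.rel]; group
  ⟨⟨U_v hF.rel hp, fun x hx => ⟨0, h1 x hx⟩⟩, fun x hx => th_eq hF.rel (h1 x hx)⟩

variable [Finite G]

omit hF in
theorem exists_O : ∃ O : Subgroup G, O ≤ D.K ∧ Odd (Nat.card O) ∧
    (∀ o ∈ O, ∀ x ∈ R, o * x = x * o) ∧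
    ∀ k ∈ D.K, (∀ x ∈ R, k * x = x * k) → ∃ x ∈ R, ∃ o ∈ O, k = x * o := by
  set C := D.K ⊓ centralizer (R : Set G) with hC
  have h1 : R ≤ C := fun x hx => ⟨hP.syl.le hx, mem_centralizer_iff.2 fun y hy => R_comm hP hy hx⟩
  have : (R.subgroupOf C).Normal := ⟨fun n hn g => by
    rw [mem_subgroupOf] at hn ⊢
    push_cast
    rwa [← mem_centralizer_iff.1 g.2.2 _ hn, mul_inv_cancel_right]⟩
  have h2 : Odd (R.subgroupOf C).index :=
    Nat.not_even_iff_odd.1 fun e => (hP.syl.mono h1 inf_le_left).not_dvd e.two_dvd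
  obtain ⟨H, hH⟩ := exists_right_complement'_of_coprime (N := R.subgroupOf C) (by
    rw [Nat.card_congr (subgroupOfEquivOfLe h1).toEquiv, hP.card]
    exact (Nat.coprime_two_left.2 h2).pow_left 2)
  refine ⟨H.map C.subtype, (map_subtype_le H).trans inf_le_left, ?_, fun o ho x hx =>
    (mem_centralizer_iff.1 (map_subtype_le H ho).2 x hx).symm, fun k hk hc => ?_⟩
  · rwa [card_map_of_injective C.subtype_injective, ← hH.symm.index_eq_card]
  · obtain ⟨⟨a, b⟩, e⟩ := (hH.existsUnique ⟨k, hk, mem_centralizer_iff.2 fun x hx =>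
      (hc x hx).symm⟩).exists
    exact ⟨_, a.2, _, ⟨_, b.2, rfl⟩, (congrArg Subtype.val e).symm⟩

theorem ker0 {y x : G} (hy : y ∈ WW hF.rel R) (hx : x ∈ R) (h1 : x ≠ 1) (e : th D y x = 0) :
    y ∈ D.N ∧ ∀ x ∈ R, y * x = x * y := by
  have h2 := th_spec hy hx
  rw [e, v0 hF.rel, mul_one] at h2
  have hN := te hP.std (hP.syl.le hx) h1 (hP.sq x hx) (h2.symm ▸ hP.syl.le hx)
  refine ⟨hN, fun x hx => ?_⟩
  have h3 := th_spec hy hx
  have h4 := K_norm hP.std hN (hP.syl.le hx)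
  rw [h3, mul_mem_cancel_left (hP.syl.le hx)] at h4
  rwa [KV hF h4 (xv_V _), mul_one, mul_inv_eq_iff_eq_mul] at h3

theorem th_zero {y x : G} (hy : y ∈ WW hF.rel R) (hx : x ∈ R) (h1 : x ≠ 1) (e : th D y x = 0) :
    ∀ x ∈ R, th D y x = 0 := fun x' hx' =>
  th_eq hF.rel (by rw [(ker0 hF hP hy hx h1 e).2 x' hx', v0 hF.rel]; group)

/-- a 2-element of `C_K(R) A` lies in `R A` -/
theorem two_elt {k p : G} (hk : k ∈ D.K) (h1 : ∀ x ∈ R, k * x = x * k) (hp : p ∈ D.A) {n : ℕ}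
    (hn : (k * p) ^ 2 ^ n = 1) : k ∈ R := by
  rw [(Commute.symm (K_comm hk hp)).mul_pow] at hn
  have h2 := hF.par.AK _ (by
    rw [eq_inv_of_mul_eq_one_left hn]; exact inv_mem (pow_mem hp _)) (pow_mem hk (2 ^ n))
  exact hP.syl.le_of_le_normalizer' (H86.Dbl.isPGroup_zpowers h2) (zpowers_le.2 hk)
    (zpowers_le.2 (H86.mem_normalizer_of_conj_le fun x hx => by
      rwa [h1 x hx, mul_inv_cancel_right])) (mem_zpowers k)

theorem mem_E {g : G} (hg : g ∈ R ⊔ D.V) : ∃ x ∈ R, ∃ t, g = x * D.xv t := by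
  let E : Subgroup G :=
    { carrier := {g | ∃ x ∈ R, ∃ t, g = x * D.xv t}
      one_mem' := ⟨1, one_mem _, 0, by rw [v0 hF.rel, one_mul]⟩
      mul_mem' := by
        rintro _ _ ⟨x, hx, p, rfl⟩ ⟨x', hx', p', rfl⟩
        exact ⟨_, mul_mem hx hx', p + p', by
          rw [mul_assoc, ← mul_assoc (D.xv p), RA hP hx' (xv_A hF.rel _), hF.rel.vv]; group⟩
      inv_mem' := by
        rintro _ ⟨x, hx, p, rfl⟩
        exact ⟨_, inv_mem hx, p, by rw [← RA hP hx (xv_A hF.rel _), mul_inv_rev, v_inv hF.rel]⟩ }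
  exact (sup_le (fun x hx => ⟨x, hx, 0, by rw [v0 hF.rel, mul_one]⟩) (fun v hv => by
    obtain ⟨t, rfl⟩ := (mem_V hF.rel).1 hv
    exact ⟨1, one_mem _, t, (one_mul _).symm⟩) : R ⊔ D.V ≤ E) hg

theorem exists_w0 : ∃ w ∈ WW hF.rel R, ∃ x ∈ R, th D w x ≠ 0 := by
  obtain ⟨g, g1, g2, g3⟩ := hP.mov
  have hV : ∀ t, ∃ t', g * D.xv t * g⁻¹ = D.xv t' := fun t =>
    (mem_V hF.rel).1 ((mem_normalizer_iff.1 g2 _).1 (xv_V t))
  have hV' : ∀ t, ∃ t', D.xv t = g * D.xv t' * g⁻¹ := fun t => by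
    obtain ⟨t', e⟩ := (mem_V hF.rel).1 ((mem_normalizer_iff.1 (inv_mem g2) _).1 (xv_V t))
    exact ⟨t', by rw [← e]; group⟩
  set ρ := g * D.rho * g⁻¹ with hρ
  have e1 : ∀ t, ρ * (g * D.xv t * g⁻¹) * ρ⁻¹ = g * D.xv (om ^ 2 * t) * g⁻¹ := fun t => by
    rw [← conj_of_eq (hF.rel.rv t), hρ]; group
  have h1 : ∀ t, ∃ t', ρ * D.xv t * ρ⁻¹ = D.xv t' := fun t => by
    obtain ⟨s, hs⟩ := hV' t
    rw [hs, e1]; exact hV _
  have h2 : ∀ t, ρ * D.xv t * ρ⁻¹ = D.xv t → t = 0 := fun t e => by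
    obtain ⟨s, hs⟩ := hV' t
    rw [hs, e1] at e
    rw [om_fix s (v_inj hF.rel (by simpa using e)), v0 hF.rel] at hs
    exact v_eq_one hF.rel (by simpa using hs)
  choose δ hδ using h1
  obtain ⟨u, u1, u2⟩ : ∃ u ∈ D.A, ∀ t, u * D.xv (δ t) * u⁻¹ = D.xv t := by
    rcases f4_fpf δ (fun s t => v_inj hF.rel (by
      rw [hF.rel.vv, ← hδ, ← hδ, ← hδ, hF.rel.vv]; group)) (fun t e => v_eq_one hF.rel (by
        have := hδ t
        rw [e, v0 hF.rel] at this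
        simpa using this)) (fun t e => h2 t (by rw [hδ, e])) with e | e
    · exact ⟨_, rho_A, fun t => by
        rw [conj_of_eq (hF.rel.rv _), e, ← mul_assoc, ← pow_succ, om_cube, one_mul]⟩
    · exact ⟨_, inv_mem rho_A, fun t => by rw [e, ← conj_of_eq (hF.rel.rv t)]; group⟩
  have h3 : ∀ x ∈ R, ∃ t, ρ * x * ρ⁻¹ = x * D.xv t := fun x hx => by
    obtain ⟨x', hx', s, e⟩ := mem_E hF hP ((mem_normalizer_iff.1 (inv_mem g1) x).1 (mem_sup_left hx))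
    obtain ⟨t, ht⟩ := hV (s + om ^ 2 * s)
    refine ⟨t, ?_⟩
    calc _ = g * (D.rho * (g⁻¹ * x * g⁻¹⁻¹) * D.rho⁻¹) * g⁻¹ := by rw [hρ]; group
      _ = g * (x' * (D.xv s * D.xv s) * (D.rho * D.xv s * D.rho⁻¹)) * g⁻¹ := by
        rw [e, ← mul_assoc D.rho, RA hP hx' rho_A, v_sq hF.rel]; group
      _ = _ := by rw [← ht, hF.rel.vv, conj_of_eq (hF.rel.rv s), ← mul_assoc x', ← e]; group
  have h4 : ∀ x ∈ R, ∀ t, ρ * x * ρ⁻¹ = x * D.xv (δ t) → u * ρ * x * (u * ρ)⁻¹ = x * D.xv t :=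
    fun x hx t e => by
      calc _ = u * (ρ * x * ρ⁻¹) * u⁻¹ := by group
        _ = _ := by rw [e, ← mul_assoc, RA hP hx u1, ← u2 t]; group
  have h5 : Function.Surjective δ := Finite.surjective_of_injective fun s t e => v_inj hF.rel (by
    rw [← u2 s, ← u2 t, e])
  have h6 : u * ρ ∈ WW hF.rel R := ⟨fun t => by
    rw [← mul_inv_eq_iff_eq_mul, show u * ρ * D.xv t * (u * ρ)⁻¹ = u * (ρ * D.xv t * ρ⁻¹) * u⁻¹ by
      group, hδ, u2], fun x hx => by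
    obtain ⟨t, ht⟩ := h3 x hx
    obtain ⟨t, rfl⟩ := h5 t
    exact ⟨t, h4 x hx t ht⟩⟩
  refine ⟨_, h6, ?_⟩
  by_contra h7
  push Not at h7
  refine g3 (H86.mem_normalizer_of_conj_le fun x hx => ?_)
  obtain ⟨x', hx', s, e⟩ := mem_E hF hP ((mem_normalizer_iff.1 g1 x).1 (mem_sup_left hx))
  have h8 := th_spec h6 hx'
  rw [h7 x' hx', v0 hF.rel, mul_one] at h8
  have h9 : ρ * x' * ρ⁻¹ = x' := by
    calc _ = u⁻¹ * (u * ρ * x' * (u * ρ)⁻¹) * u := by group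
      _ = _ := by rw [h8, mul_assoc, ← RA hP hx' u1, inv_mul_cancel_left]
  have h10 : ρ * (g * x * g⁻¹) * ρ⁻¹ = g * x * g⁻¹ := by
    calc _ = g * (D.rho * x) * D.rho⁻¹ * g⁻¹ := by rw [hρ]; group
      _ = _ := by rw [RA hP hx rho_A]; group
  rw [e, show ρ * (x' * D.xv s) * ρ⁻¹ = ρ * x' * ρ⁻¹ * (ρ * D.xv s * ρ⁻¹) by group, h9,
    mul_right_inj] at h10
  rwa [e, h2 s h10, v0 hF.rel, mul_one]

theorem mov {x : G} (hx : x ∈ R) (h1 : x ≠ 1) (s : F4) : ∃ y, y * x * y⁻¹ = x * D.xv s := by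
  obtain ⟨w, hw, x', hx', h0⟩ := exists_w0 hF hP
  have h2 : th D w x ≠ 0 := fun e => h0 (th_zero hF hP hw hx h1 e x' hx')
  have : ∀ t, ∃ y ∈ WW hF.rel R, th D y x = t * th D w x := f4_ind _
    ⟨1, one_mem _, th_eq hF.rel (by rw [zero_mul, v0 hF.rel]; group)⟩ ⟨w, hw, (one_mul _).symm⟩
    fun t ⟨y, hy, e⟩ => ⟨_, (rho_WW hF hP hy).1, by rw [(rho_WW hF hP hy).2 x hx, e, mul_assoc]⟩
  obtain ⟨t, rfl⟩ := (by decide : ∀ a s : F4, a ≠ 0 → ∃ t, t * a = s) _ s h2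
  obtain ⟨y, hy, e⟩ := this t
  exact ⟨y, e ▸ th_spec hy hx⟩

theorem WW_inv {y a : G} (hy : y ∈ WW hF.rel R) (ha : a ∈ D.U) (a2 : a * a = 1) :
    y * a * y⁻¹ ∈ D.U ∨ Sw D (y * a * y⁻¹) := by
  have h := hF.rel
  obtain ⟨x₀, h0, h1⟩ := exists_ne hP
  have h2 := U_WW hF hP ha
  have h3 := mul_mem (mul_mem hy h2.1) (inv_mem hy)
  obtain ⟨gN, gR⟩ := ker0 hF hP h3 h0 h1 (by
    rw [on_conj (f := fun y => th D y x₀) (th_mul h0) hy h2.1, h2.2 _ h0])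
  have g2 := conj_sq (g := y) a2
  refine (typ hF gN h3.1 g2).imp_left fun ⟨u, hu, hk⟩ => ?_
  have uA := U_A h hu
  have e : y * a * y⁻¹ = u * (y * a * y⁻¹) * u⁻¹ := by
    rw [← K_comm hk (inv_mem uA), inv_mul_cancel_left]
  have kR := two_elt hF hP hk (fun x hx => by
    rw [mul_assoc, gR x hx, ← mul_assoc, RA hP hx uA, mul_assoc]) (inv_mem uA) (n := 1) (by
    rw [← e, pow_one, pow_two, g2])
  generalize u * (y * a * y⁻¹) = k at e kR
  by_cases k1 : k = 1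
  · rw [e, k1, one_mul]
    exact inv_mem hu
  have u2 : u⁻¹ * u⁻¹ = 1 := by
    rwa [e, mul_assoc, ← mul_assoc u⁻¹, RA hP kR (inv_mem uA), mul_assoc, ← mul_assoc, hP.sq k kR,
      one_mul] at g2
  obtain ⟨z, hz, s, ez⟩ : ∃ z ∈ D.A, ∃ s, z * u⁻¹ * z⁻¹ = D.xv s := by
    by_cases u1 : u⁻¹ = 1
    · exact ⟨1, one_mem _, 0, by simp [u1, v0 h]⟩
    · obtain ⟨z, hz, e⟩ := hF.glob.inv _ (inv_mem uA) u2 u1
      exact ⟨z, hz, 1, e⟩
  obtain ⟨w, ew⟩ := mov hF hP kR k1 s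
  refine absurd (hP.noD (y⁻¹ * z⁻¹ * w) k (hP.syl.le kR) (hP.sq k kR) ?_) k1
  rw [show y⁻¹ * z⁻¹ * w * k * (y⁻¹ * z⁻¹ * w)⁻¹ = y⁻¹ * z⁻¹ * (w * k * w⁻¹) * z * y by group, ew,
    ← ez, ← mul_assoc k, ← mul_assoc k, ← RA hP kR hz, mul_assoc z, ← e]
  simpa [mul_assoc] using U_A h ha

theorem WW_x {y : G} (hy : y ∈ WW hF.rel R) {x : F4 → G} (xa : ∀ s t, x (s + t) = x s * x t)
    (xU : ∀ t, x t ∈ D.U) (xV : ∀ t s, x t = D.xv s → t = 0) (t : F4) : y * x t * y⁻¹ ∈ D.U := by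
  have h := hF.rel
  have k := fun t => WW_inv hF hP hy (xU t) (sq_of_add xa t)
  obtain ⟨t0, h0, hU⟩ : ∃ t0, t0 ≠ 0 ∧ y * x t0 * y⁻¹ ∈ D.U := by
    by_contra! c
    obtain ⟨l1, m1, -, -, s1⟩ := (k 1).resolve_left (c 1 one_ne_zero)
    obtain ⟨l2, m2, -, -, s2⟩ := (k om).resolve_left (c om om_ne)
    obtain ⟨l3, m3, h3, -, s3⟩ := (k (1 + om)).resolve_left (c _ (by decide))
    have a1 := s1 _ _ (s2 _ _ (co_e h 1))
    have a3 := s3 _ _ (co_e h 1)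
    rw [xa, ← conj_mul, show ∀ a b c : G, a * b * c * (a * b)⁻¹ = a * (b * c * b⁻¹) * a⁻¹ from
      fun a b c => by group] at a3
    exact h3 (by simpa using congrArg Prod.snd (a3.uniq h a1))
  refine (k t).resolve_right fun ⟨l, m, l0, m0, s⟩ => ?_
  obtain ⟨z, c⟩ := exists_co hF hU
  have c1 := s _ _ c
  rw [conj_mul, ← xa, add_comm, xa, ← conj_mul, mul_inv_cancel_right] at c1
  have e1 := c.uniq h c1
  have e2 := c.sq h
  rw [conj_sq (sq_of_add xa t0)] at e2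
  obtain ⟨z1, z2⟩ : z.1 = 0 ∧ z.2 = 0 := by
    have : ∀ l m a b : F4, l ≠ 0 → a = m * b → b = l * a → b * a = 0 → a = 0 ∧ b = 0 := by decide
    exact this l m _ _ l0 (congrArg Prod.fst e1) (congrArg Prod.snd e1) (v_eq_one h e2.symm)
  obtain ⟨s, e⟩ := c
  rw [z1, z2, one_of_add h.ee, one_of_add h.bb, one_mul, one_mul, mul_inv_eq_iff_eq_mul, ← hy.1,
    mul_right_inj] at e
  exact h0 (xV _ _ e)

theorem WW_U {y : G} (hy : y ∈ WW hF.rel R) : ∀ p ∈ D.U, y * p * y⁻¹ ∈ D.U := fun _ hp =>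
  have h := hF.rel
  have z : ∀ s, Co D (D.xv s) (0, 0) := fun s =>
    ⟨s, by rw [one_of_add h.ee, one_of_add h.bb, one_mul, one_mul]⟩
  U_ind (H := D.U.comap (MulAut.conj y).toMonoidHom)
    (WW_x hF hP hy h.ee xe_U fun t s e => congrArg Prod.fst ((co_e h t).uniq h (e ▸ z s)))
    (WW_x hF hP hy h.bb xb_U fun t s e => congrArg Prod.snd ((co_b h t).uniq h (e ▸ z s)))
    (fun t => show _ * _ * _ ∈ _ from (conj_of_eq (hy.1 t)).symm ▸ xv_U t) hp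

theorem mem_II {k x : G} (hk : k ∈ D.K) (h1 : Odd (orderOf k)) (hx : x ∈ R) (h2 : x ≠ 1)
    (e : k * x = x * k) : k ∈ II hF.rel R := fun y hy => by
  obtain ⟨t, k', hk', h3⟩ := hF.par.cU (y * k * y⁻¹) (te hP.std (hP.syl.le hx) h2 (hP.sq x hx)
    (by
      have h3 := th_spec (inv_mem hy) hx
      have h4 : k * (y⁻¹ * x * y⁻¹⁻¹) = y⁻¹ * x * y⁻¹⁻¹ * k := by
        rw [h3, ← mul_assoc, e, mul_assoc, ← K_comm hk (xv_A hF.rel _), mul_assoc]
      rw [show y * k * y⁻¹ * x * (y * k * y⁻¹)⁻¹ = y * (k * (y⁻¹ * x * y⁻¹⁻¹)) * k⁻¹ * y⁻¹ by group,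
        h4, show y * (y⁻¹ * x * y⁻¹⁻¹ * k) * k⁻¹ * y⁻¹ = x by group]
      exact hP.syl.le hx))
    fun q hq => by
      have h4 := conj_comm (K_comm hk (U_A hF.rel (conj_inv_mem (WW_U hF hP hy) hq))) y
      rw [show y * (y⁻¹ * q * y) * y⁻¹ = q by group] at h4
      exact h4.symm
  have h5 : (D.xv t * k') ^ orderOf k = 1 := by rw [← h3, conj_pow, pow_orderOf_eq_one]; group
  rw [Commute.mul_pow (K_comm hk' (xv_A hF.rel t)), odd_pow_of_sq (v_sq hF.rel t) h1] at h5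
  rw [h3, KV hF (k := D.xv t) (by
    rw [eq_inv_of_mul_eq_one_left h5]; exact inv_mem (pow_mem hk' _)) (xv_V t), one_mul]
  exact hk'

/-- `y⁻¹ (ρ y ρ⁻¹)` is trivial on `U / V` -/
theorem triv {y : G} (hy : y ∈ WW hF.rel R) {u : G} (hu : u ∈ D.U) :
    ∃ s, y⁻¹ * (D.rho * y * D.rho⁻¹) * u * (y⁻¹ * (D.rho * y * D.rho⁻¹))⁻¹ = u * D.xv s := by
  have h := hF.rel
  have pres : ∀ {a q x z x' z'}, Co D a x → Co D q z → Co D (y * a * y⁻¹) x' →
      Co D (y * q * y⁻¹) z' → x.1 * z.2 + x.2 * z.1 = x'.1 * z'.2 + x'.2 * z'.1 :=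
    fun {a q x z x' z'} c1 c2 c3 c4 => by
      have e := c3.comm h c4
      rw [conj_mul, conj_mul, c1.comm h c2, ← conj_mul (a := q * a), conj_of_eq (hy.1 _)] at e
      exact v_inj h (mul_left_cancel e)
  obtain ⟨a, ha, rfl⟩ := conj_surj (rho_U h) hu
  obtain ⟨x, c⟩ := exists_co hF ha
  obtain ⟨x', c'⟩ := exists_co hF (WW_U hF hP hy a ha)
  obtain ⟨x'', c''⟩ := exists_co hF (conj_inv_mem (WW_U hF hP hy) (c'.rho h).mem)
  have key : ∀ q z, Co D q z → x''.1 * z.2 + x''.2 * z.1 = om * (x.1 * z.2 + x.2 * z.1) :=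
    fun q z cq => by
      obtain ⟨z', cq'⟩ := exists_co hF (WW_U hF hP hy q cq.mem)
      rw [pres c cq c' cq', pres c'' cq (x' := (om * x'.1, om * x'.2)) (by
        simpa [mul_assoc] using c'.rho h) cq']
      ring
  obtain rfl : x'' = (om * x.1, om * x.2) :=
    Prod.ext (by simpa using key _ _ (co_b h 1)) (by simpa using key _ _ (co_e h 1))
  obtain ⟨s, e⟩ := c''.div h (c.rho h)
  exact ⟨s, by rw [← e]; group⟩

omit hP [Finite G] in
theorem lin {w : G} (wV : ∀ t, w * D.xv t = D.xv t * w) {x : F4 → G}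
    (xa : ∀ s t, x (s + t) = x s * x t) (xU : ∀ t, x t ∈ D.U)
    (xr : ∀ t, D.rho * x t = x (om * t) * D.rho) (hw : ∀ t, ∃ s, w * x t * w⁻¹ = x t * D.xv s) :
    ∃ β, ∀ t, w⁻¹ * (D.rho * w * D.rho⁻¹) * x t * (w⁻¹ * (D.rho * w * D.rho⁻¹))⁻¹ =
      x t * D.xv (β * t) := by
  have h := hF.rel
  choose l hl using hw
  have ladd : ∀ t u, l (t + u) = l t + l u := fun t u => v_inj h (mul_left_cancel (a := x (t + u)) (by
    rw [← hl, xa, ← conj_mul, hl, hl, h.vv, mul_assoc, ← mul_assoc (D.xv _), ← U_v h (xU u)]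
    group))
  have l0 : l 0 = 0 := by simpa using ladd 0 0
  have fin : ∀ a b : F4, ∃ β, om ^ 2 * (b + a) + a = β * 1 ∧ om ^ 2 * a + b = β * om ∧
      om ^ 2 * b + (b + a) = β * om ^ 2 := by decide
  obtain ⟨β, f1, f2, f3⟩ := fin (l 1) (l om)
  have l2 : l (om ^ 2) = l om + l 1 := by rw [om_sq, ladd]
  have key : ∀ t, om ^ 2 * l (om ^ 2 * t) + l t = β * t := fun t => by
    rcases f4_cases t with rfl | rfl | rfl | rfl
    · simp [l0]
    · rw [mul_one, l2, f1]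
    · rw [← pow_succ, om_cube, f2]
    · rw [show om ^ 2 * om ^ 2 = om by decide, l2, f3]
  refine ⟨β, fun t => ?_⟩
  have e1 : x t = D.rho * x (om ^ 2 * t) * D.rho⁻¹ := by
    rw [conj_of_eq (xr _), ← mul_assoc, ← pow_succ', om_cube, one_mul]
  have e2 : w⁻¹ * x t * w = x t * D.xv (l t) := by
    rw [mul_assoc, inv_mul_eq_iff_eq_mul, ← mul_assoc, eq_mul_of_mul_inv_eq (hl t), mul_assoc,
      mul_assoc, wV, ← mul_assoc (D.xv _), v_sq h, one_mul]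
  calc _ = w⁻¹ * (D.rho * (w * x (om ^ 2 * t) * w⁻¹) * D.rho⁻¹) * w := by
        nth_rewrite 1 [e1]; group
    _ = w⁻¹ * x t * (D.xv (om ^ 2 * l (om ^ 2 * t)) * w) := by
      rw [hl, ← conj_mul, ← e1, conj_of_eq (h.rv _)]; group
    _ = _ := by rw [← wV, ← mul_assoc, e2, mul_assoc, ← h.vv, add_comm, key]

theorem exists_w : ∃ w ∈ WW hF.rel R, (∃ n, w ^ 2 ^ n = 1) ∧ (∀ p ∈ D.U, w * p = p * w) ∧
    (∀ k ∈ II hF.rel R, w * k = k * w) ∧ ∃ x ∈ R, th D w x ≠ 0 := by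
  have h := hF.rel
  obtain ⟨y, hy, x, hx, h0⟩ := exists_w0 hF hP
  have step : ∀ n ∈ WW h R, th D n x ≠ 0 → n⁻¹ * (D.rho * n * D.rho⁻¹) ∈ WW h R ∧
      th D (n⁻¹ * (D.rho * n * D.rho⁻¹)) x ≠ 0 := fun n h5 h0 => by
    have h6 := rho_WW hF hP h5
    refine ⟨mul_mem (inv_mem h5) h6.1, ?_⟩
    rw [th_mul hx _ (inv_mem h5) _ h6.1, h6.2 x hx, on_inv (f := fun y => th D y x) (th_mul hx) h5]
    exact fun e => h0 (om_fix _ (neg_add_eq_zero.1 e).symm)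
  obtain ⟨h1, h2⟩ := step y hy h0
  have h3 := fun u hu => triv hF hP hy (u := u) hu
  generalize y⁻¹ * (D.rho * y * D.rho⁻¹) = n at h1 h2 h3
  obtain ⟨β, e1⟩ := lin hF h1.1 h.ee xe_U h.re fun t => h3 _ (xe_U t)
  obtain ⟨γ, e2⟩ := lin hF h1.1 h.bb xb_U h.rb fun t => h3 _ (xb_U t)
  have h4 : ∀ k ∈ II h R, n⁻¹ * (D.rho * n * D.rho⁻¹) * k = k * (n⁻¹ * (D.rho * n * D.rho⁻¹)) :=
    fun a ha => by
      have a1 := K_comm (II_K ha) (inv_mem rho_A)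
      have a2 := K_comm (II_K (II_conj ha h1)) rho_A
      calc _ = n⁻¹ * D.rho * n * (D.rho⁻¹ * a) := by group
        _ = n⁻¹ * (D.rho * (n * a * n⁻¹)) * n * D.rho⁻¹ := by rw [a1]; group
        _ = _ := by rw [a2]; group
  obtain ⟨h5, h6⟩ := step n h1 h2
  generalize n⁻¹ * (D.rho * n * D.rho⁻¹) = w at e1 e2 h4 h5 h6
  have c : Co D (D.xe γ * D.xb β * D.xv 0) (γ, β) := ⟨0, rfl⟩
  generalize D.xe γ * D.xb β * D.xv 0 = u at c
  have h7 := U_WW hF hP c.mem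
  have h8 := mul_mem h7.1 h5
  have key : ∀ a z s, Co D a z → w * a * w⁻¹ = a * D.xv s → γ * z.2 + β * z.1 = s →
      a ∈ centralizer {u * w} := fun a z s ca e es => mem_centralizer_singleton_iff.2 (by
    rw [mul_assoc, eq_mul_of_mul_inv_eq e, ← mul_assoc, ← mul_assoc, ← mul_assoc u, c.comm h ca, es,
      mul_assoc (a * u) (D.xv s), v_sq h, mul_one])
  have h9 : D.U ≤ centralizer {u * w} := U_ind (fun t => key _ _ _ (co_e h t) (e1 t) (by simp))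
    (fun t => key _ _ _ (co_b h t) (e2 t) (by simp))
    fun t => mem_centralizer_singleton_iff.2 (h8.1 t).symm
  obtain ⟨m, j, hm, h10⟩ := exists_two_part (u * w)
  refine ⟨_, pow_mem h8 m, ⟨j, h10⟩, fun p hp =>
    (Commute.pow_left (mem_centralizer_singleton_iff.1 (h9 hp)).symm m).eq, fun k hk =>
    (Commute.pow_left (Commute.mul_left (K_comm (II_K hk) (U_A h c.mem)) (h4 k hk)) m).eq, x, hx, ?_⟩
  rwa [th_odd hx h8 hm, th_mul hx _ h7.1 _ h5, h7.2 x hx, zero_add]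

theorem exists_g : ∃ g ∈ WW hF.rel R, (∀ p ∈ D.U, g * p = p * g) ∧
    (∀ k ∈ II hF.rel R, g * k = k * g) ∧ (∃ x ∈ R, th D g x ≠ 0) ∧ g * g ∈ D.V ∧
    g * (D.rho * g * D.rho⁻¹) = D.rho * g * D.rho⁻¹ * g ∧
    g * (D.rho * g * D.rho⁻¹) * (D.rho⁻¹ * g * D.rho) = 1 := by
  have h := hF.rel
  obtain ⟨w, w1, ⟨n, w2⟩, w3, w4, x, hx, w5⟩ := exists_w hF hP
  obtain ⟨x₀, h0, h1⟩ := exists_ne hP
  set Z := WW h R ⊓ centralizer (D.U : Set G) ⊓ centralizer (II h R : Set G) with hZ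
  have dec : ∀ y ∈ Z, ∀ x ∈ R, x ≠ 1 → th D y x = 0 →
      ∃ k ∈ D.K, (∀ x ∈ R, k * x = x * k) ∧ ∃ p ∈ D.V, y = k * p := fun y hy x hx a1 a2 => by
    obtain ⟨yN, yR⟩ := ker0 hF hP hy.1.1 hx a1 a2
    obtain ⟨t, k, hk, rfl⟩ := hF.par.cU y yN fun q hq => (mem_centralizer_iff.1 hy.1.2 q hq).symm
    refine ⟨k, hk, fun x hx => ?_, _, xv_V t, K_comm hk (xv_A h t)⟩
    have := yR x hx
    rwa [← mul_assoc, ← RA hP hx (xv_A h t), mul_assoc, mul_assoc, mul_right_inj] at this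
  obtain ⟨W, hW⟩ := two_closed (N := Z) fun o ho a1 g hg => by
    obtain ⟨k, hk, a3, p, hp, e⟩ := dec o ho x₀ h0 h1 (by
      rw [← th_odd h0 ho.1.1 a1, pow_orderOf_eq_one]
      exact on_one (f := fun y => th D y x₀) (th_mul (h := h) h0))
    have a4 : (k * p) ^ orderOf o = 1 := by rw [← e, pow_orderOf_eq_one]
    rw [(Commute.symm (K_comm hk (U_A h (V_U h hp)))).mul_pow,
      odd_pow_of_sq (V_sq h hp) a1] at a4
    rw [KV hF (k := p) (by rw [eq_inv_of_mul_eq_one_right a4]; exact inv_mem (pow_mem hk _)) hp,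
      mul_one] at e
    exact mem_centralizer_iff.1 hg.2 o (mem_II hF hP (e ▸ hk) a1 h0 h1 (e ▸ a3 x₀ h0))
  have two : ∀ y ∈ W, ∀ x ∈ R, x ≠ 1 → th D y x = 0 → ∃ x ∈ R, ∃ p ∈ D.V, y = x * p :=
    fun y hy x hx a1 a2 => by
      obtain ⟨k, hk, a3, p, hp, e⟩ := dec y ((hW y).1 hy).1 x hx a1 a2
      obtain ⟨j, hj⟩ := ((hW y).1 hy).2
      exact ⟨k, two_elt hF hP hk a3 (U_A h (V_U h hp)) (e ▸ hj), p, hp, e⟩
  have hWV : ∀ y ∈ W, ∀ v ∈ D.V, y * v = v * y := fun y hy v hv =>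
    (mem_centralizer_iff.1 ((hW y).1 hy).1.1.2 v (V_U h hv)).symm
  have hsq : ∀ y ∈ W, y * y ∈ D.V := fun y hy => by
    have a0 := ((hW y).1 hy).1.1.1
    obtain ⟨x, hx, p, hp, e⟩ := two _ (mul_mem hy hy) x₀ h0 h1 (by rw [th_mul h0 y a0 y a0, f4_add])
    by_cases a1 : x = 1
    · rwa [e, a1, one_mul]
    obtain ⟨x', hx', p', hp', e'⟩ := two y hy x hx a1 (th_eq h (by
      have a2 : x = y * y * p⁻¹ := by rw [e, mul_inv_cancel_right]
      rw [v0 h, mul_one]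
      calc _ = y * y * (y * p⁻¹) * y⁻¹ := by rw [a2]; group
        _ = _ := by rw [hWV y hy _ (inv_mem hp), a2]; group))
    rw [e', mul_assoc, ← mul_assoc p', RA hP hx' (U_A h (V_U h hp')), mul_assoc, V_sq h hp',
      mul_one, hP.sq x' hx']
    exact one_mem _
  have hρ : ∀ y ∈ W, D.rho * y * D.rho⁻¹ ∈ W := fun y hy => by
    obtain ⟨⟨⟨a1, a2⟩, a3⟩, j, a4⟩ := (hW y).1 hy
    refine (hW _).2 ⟨⟨⟨(rho_WW hF hP a1).1, mem_centralizer_iff.2 fun p hp => ?_⟩,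
      mem_centralizer_iff.2 fun k hk => ?_⟩, j, by rw [conj_pow, a4]; group⟩
    · obtain ⟨p, hp', rfl⟩ := conj_surj (rho_U h) hp
      exact conj_comm (mem_centralizer_iff.1 a2 p hp') _
    · have := conj_comm (mem_centralizer_iff.1 a3 k hk) D.rho
      rwa [K_comm (II_K hk) rho_A, mul_inv_cancel_right] at this
  have hw : w ∈ W := (hW w).2 ⟨⟨⟨w1, mem_centralizer_iff.2 fun p hp =>
    (w3 p hp).symm⟩, mem_centralizer_iff.2 fun k hk => (w4 k hk).symm⟩, n, w2⟩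
  have fix : ∀ v ∈ D.V, D.rho * v * D.rho⁻¹ = v → v = 1 := fun v hv e => by
    obtain ⟨t, rfl⟩ := (mem_V h).1 hv
    rw [conj_of_eq (h.rv t)] at e
    rw [om_fix t (v_inj h e), v0 h]
  have r3 : D.rho * D.rho = D.rho⁻¹ := eq_inv_of_mul_eq_one_left (by rw [← h.r3, pow_three'])
  set g := w * (D.rho * w * D.rho⁻¹) with hg
  have g0 : g ∈ W := mul_mem hw (hρ w hw)
  have g1 := hρ g g0
  have g2 : D.rho⁻¹ * g * D.rho ∈ W := conj_inv_mem hρ g0
  have e1 : D.rho * (D.rho * g * D.rho⁻¹) * D.rho⁻¹ = D.rho⁻¹ * g * D.rho := by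
    calc _ = D.rho * D.rho * g * (D.rho * D.rho)⁻¹ := by group
      _ = _ := by rw [r3, inv_inv]
  have e2 : g * (D.rho * g * D.rho⁻¹) * (D.rho⁻¹ * g * D.rho) ∈ D.V := by
    have a1 := hsq _ (hρ w hw)
    have a2 := hsq _ (conj_inv_mem hρ hw)
    have a3 := mul_mem (mul_mem a1 a2) (hsq w hw)
    rw [← mul_assoc, ← hWV w hw _ (mul_mem a1 a2)] at a3
    convert a3 using 1
    calc _ = w * (D.rho * w * D.rho⁻¹ * (D.rho * w * D.rho⁻¹) * (D.rho * D.rho * w *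
          (D.rho * D.rho)⁻¹ * (D.rho⁻¹ * w * D.rho))) * w := by rw [hg]; group
      _ = _ := by rw [r3, inv_inv]
  have e3 : g * (D.rho * g * D.rho⁻¹) = D.rho * g * D.rho⁻¹ * g := by
    have a1 := comm_mem_of_sq hsq g0 g1
    rw [← mul_inv_eq_one, show g * (D.rho * g * D.rho⁻¹) * (D.rho * g * D.rho⁻¹ * g)⁻¹ =
      g * (D.rho * g * D.rho⁻¹) * g⁻¹ * (D.rho * g * D.rho⁻¹)⁻¹ by group]
    refine fix _ a1 ?_
    have a2 := hWV _ (mul_mem g1 g0) _ a1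
    have a3 := hWV _ (inv_mem g1) _ e2
    rw [← e1] at a3
    have a4 : ∀ a : G, D.rho * g * D.rho⁻¹ = a → D.rho * (g * a * g⁻¹ * a⁻¹) * D.rho⁻¹ =
        a * (D.rho * a * D.rho⁻¹) * a⁻¹ * (D.rho * a * D.rho⁻¹)⁻¹ := by rintro _ rfl; group
    rw [a4 _ rfl]
    generalize D.rho * g * D.rho⁻¹ = a at a2 a3 ⊢
    generalize D.rho * a * D.rho⁻¹ = b at a3 ⊢
    calc _ = g⁻¹ * (g * a * b * a⁻¹) * b⁻¹ := by group
      _ = (a * g)⁻¹ * (g * a * g⁻¹ * a⁻¹ * (a * g)) := by rw [← a3]; group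
      _ = _ := by rw [← a2, inv_mul_cancel_left]
  refine ⟨g, ((hW g).1 g0).1.1.1, fun p hp => (mem_centralizer_iff.1 ((hW g).1 g0).1.1.2 p hp).symm,
    fun p hp => (mem_centralizer_iff.1 ((hW g).1 g0).1.2 p hp).symm, ⟨x, hx, fun e => w5 ?_⟩,
    hsq g g0, e3, fix _ e2 ?_⟩
  · rw [hg, th_mul hx _ w1 _ (rho_WW hF hP w1).1, (rho_WW hF hP w1).2 x hx] at e
    exact om_fix _ (by rw [← add_zero (om ^ 2 * _), ← f4_add (th D w x), ← add_assoc,
      add_comm (om ^ 2 * _), e, zero_add])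
  · have a1 := hWV _ g0 _ e2
    calc _ = D.rho * g * D.rho⁻¹ * (D.rho * (D.rho * g * D.rho⁻¹) * D.rho⁻¹) * g := by group
      _ = g⁻¹ * (g * (D.rho * g * D.rho⁻¹) * (D.rho⁻¹ * g * D.rho) * g) := by rw [e1]; group
      _ = _ := by rw [← a1, inv_mul_cancel_left]

theorem exists_wa : ∃ O r f c, WA D R O r f c := by
  have h := hF.rel
  obtain ⟨O, O1, O2, O3, O4⟩ := exists_O hP
  obtain ⟨g, g1, g2, g3, ⟨x₁, hx₁, g4⟩, g5, g6, g7⟩ := exists_g hF hP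
  obtain ⟨c, hc⟩ := (mem_V h).1 g5
  have z1 : ∀ x ∈ R, th D g x = 0 → x = 1 := fun x hx e => by
    by_contra h1
    exact g4 (th_zero hF hP g1 hx h1 e x₁ hx₁)
  have inj : ∀ x ∈ R, ∀ y ∈ R, th D g x = th D g y → x = y := fun x hx y hy e => by
    have := z1 _ (mul_mem hx hy) (by rw [th_add hF hP g1 x hx y hy, e, f4_add])
    exact mul_right_cancel (this.trans (hP.sq y hy).symm)
  have sur : Function.Surjective fun x : R => th D g x :=
    ((Nat.bijective_iff_injective_and_card _).2 ⟨fun x y e => Subtype.ext (inj _ x.2 _ y.2 e), by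
      rw [hP.card, Nat.card_eq_fintype_card]; rfl⟩).2
  choose r hr using sur
  beta_reduce at hr
  have r0 : ∀ s, (r s : G) = 1 → s = 0 := fun s e => by
    rw [← hr s, e]; exact th_eq h (by rw [v0 h]; group)
  have r3 : D.rho * D.rho = D.rho⁻¹ := eq_inv_of_mul_eq_one_left (by rw [← h.r3, pow_three'])
  have e1 : D.rho * (D.rho * g * D.rho⁻¹) * D.rho⁻¹ = D.rho⁻¹ * g * D.rho := by
    calc _ = D.rho * D.rho * g * (D.rho * D.rho)⁻¹ := by group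
      _ = _ := by rw [r3, inv_inv]
  obtain ⟨f, f0, f1, f2, f3⟩ : ∃ f : F4 → G, f 0 = 1 ∧ f 1 = g ∧ f om = D.rho⁻¹ * g * D.rho ∧
      f (om ^ 2) = D.rho * g * D.rho⁻¹ := by
    refine ⟨fun t => if t = 0 then 1 else if t = 1 then g else if t = om then D.rho⁻¹ * g * D.rho
      else D.rho * g * D.rho⁻¹, if_pos rfl, ?_, ?_, ?_⟩ <;> beta_reduce
    · rw [if_neg (by decide), if_pos rfl]
    · rw [if_neg (by decide), if_neg (by decide), if_pos rfl]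
    · rw [if_neg (by decide), if_neg (by decide), if_neg (by decide)]
  have hf : ∀ t, f (om ^ 2 * t) = D.rho * f t * D.rho⁻¹ := fun t => by
    rcases f4_cases t with rfl | rfl | rfl | rfl
    · rw [mul_zero, f0, mul_one, mul_inv_cancel]
    · rw [mul_one, f3, f1]
    · rw [← pow_succ, om_cube, f1, f2]; group
    · rw [show om ^ 2 * om ^ 2 = om by decide, f2, f3, e1]
  have fW : ∀ t, f t ∈ WW h R ∧ ∀ x ∈ R, th D (f t) x = t * th D g x := f4_ind _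
    (by rw [f0]; exact ⟨one_mem _, fun x _ => th_eq h (by rw [zero_mul, v0 h]; group)⟩)
    (by rw [f1]; exact ⟨g1, fun x _ => (one_mul _).symm⟩) fun t ht => by
      rw [hf]
      exact ⟨(rho_WW hF hP ht.1).1, fun x hx => by
        rw [(rho_WW hF hP ht.1).2 x hx, ht.2 x hx, mul_assoc]⟩
  have fr : ∀ t s, f t * r s * (f t)⁻¹ = r s * D.xv (s * t) := fun t s => by
    rw [th_spec (fW t).1 (r s).2, (fW t).2 _ (r s).2, hr, mul_comm t]
  have e2 : f om = (g * f (om ^ 2))⁻¹ := by rw [f2, f3]; exact eq_inv_of_mul_eq_one_right g7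
  obtain ⟨x₀, h0, h1⟩ := exists_ne hP
  refine ⟨O, fun s => r s, f, c, O1, O2, O3, O4, fun y hy => te hP.std (hP.syl.le h0) h1
    (hP.sq _ h0) (hP.syl.le ((mem_normalizer_iff.1 hy _).1 h0)), fun s hs y hy =>
    te hP.std (hP.syl.le (r s).2) (fun e => hs (r0 s e)) (hP.sq _ (r s).2)
      (by rw [hy, mul_inv_cancel_right]; exact hP.syl.le (r s).2),
    fun s t => inj _ (r _).2 _ (mul_mem (r s).2 (r t).2) (by
      rw [th_add hF hP g1 _ (r s).2 _ (r t).2, hr, hr, hr]), r0,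
    fun x => ⟨fun hx => ⟨_, inj _ (r _).2 _ hx (hr _)⟩, fun ⟨s, e⟩ => e ▸ (r s).2⟩, f0,
    f4_ind _ (by simp [f0]) (f1 ▸ g2) fun t ht p hp => ?_,
    fun t s => eq_mul_of_mul_inv_eq (fr t s),
    f4_ind _ (by simp [f0]) (fun s => ?_) fun t ht s => ?_,
    f4_ind _ (by rw [f0, mul_zero, v0 h, mul_one]) (by rw [f1, mul_one, hc]) fun t ht => ?_,
    ?_, fun t => by rw [hf]; group, fun y hy => ?_, fun k hk k1 ⟨s, hs, k2⟩ =>
      f4_ind _ (by simp [f0]) (f1 ▸ g3 k (mem_II hF hP hk k1 (r s).2 (fun e => hs (r0 s e)) k2))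
        fun t ht => ?_⟩
  · obtain ⟨p, hp', rfl⟩ := conj_surj (rho_U h) hp
    rw [hf]
    exact conj_comm (ht p hp') _
  · rw [← f3] at g6
    rcases f4_cases s with rfl | rfl | rfl | rfl
    · simp [f0]
    · rfl
    · rw [f1, e2]
      exact ((Commute.refl g).mul_right g6).inv_right.eq
    · rwa [f1]
  · rw [show s = om ^ 2 * (om * s) by rw [← mul_assoc, ← pow_succ, om_cube, one_mul], hf, hf]
    exact conj_comm (ht _) _
  · rw [hf, show c * (om ^ 2 * t) = om ^ 2 * (c * t) by ring, ← conj_of_eq (h.rv _), ← ht]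
    group
  · rw [f1, e2, f3, g6]; group
  · obtain ⟨s, t, e⟩ := hy 1
    have hs : s ≠ 0 := by
      rintro rfl
      have := inj _ (r 0).2 1 (one_mem _) ((hr 0).trans (th_eq h (by rw [v0 h]; group)).symm)
      exact one_ne_zero (r0 1 (hP.noD y _ (hP.syl.le (r 1).2) (hP.sq _ (r 1).2) (by
        rw [e, this, one_mul]; exact xv_A h t)))
    obtain ⟨u, rfl⟩ := (by decide : ∀ s t : F4, s ≠ 0 → ∃ u, s * u = t) s t hs
    have a1 := te hP.std (g := (f u)⁻¹ * y) (hP.syl.le (r 1).2) (fun e => one_ne_zero (r0 1 e))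
      (hP.sq _ (r 1).2) (by
        rw [show (f u)⁻¹ * y * r 1 * ((f u)⁻¹ * y)⁻¹ = (f u)⁻¹ * (y * r 1 * y⁻¹) * f u by group, e,
          ← fr, show (f u)⁻¹ * (f u * r s * (f u)⁻¹) * f u = r s by group]
        exact hP.syl.le (r s).2)
    refine ⟨u, H86.mem_normalizer_of_conj_le fun x hx => ?_⟩
    have a2 := K_norm hP.std a1 (hP.syl.le hx)
    obtain ⟨s', t', e'⟩ := hy (th D g x)
    rw [inj _ (r _).2 _ hx (hr _)] at e'
    obtain ⟨t'', a3⟩ := (inv_mem (fW u).1).2 _ (r s').2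
    have a4 : (f u)⁻¹ * y * x * ((f u)⁻¹ * y)⁻¹ = r s' * D.xv (t'' + t') := by
      calc _ = (f u)⁻¹ * (y * x * y⁻¹) * f u := by group
        _ = (f u)⁻¹ * r s' * (f u)⁻¹⁻¹ * ((f u)⁻¹ * (D.xv t' * f u)) := by rw [e']; group
        _ = _ := by rw [a3, ← (fW u).1.1, h.vv]; group
    rw [a4] at a2 ⊢
    rw [KV hF (k := D.xv _) (by simpa using mul_mem (inv_mem (hP.syl.le (r s').2)) a2) (xv_V _),
      mul_one]
    exact (r s').2
  · have := conj_comm ht D.rho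
    rwa [K_comm hk rho_A, mul_inv_cancel_right, ← hf] at this

end Cfsg.Agent.H60.AlW

/-- The translations of `E = R V`. -/
theorem Cfsg.Agent.H60.AlW.wa.{u} : Cfsg.Agent.H42.AL.WAStmt.{u} :=
  fun _ _ _ _ _ hF hP => Cfsg.Agent.H60.AlW.exists_wa hF hP
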