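import Cfsg.Agent.H40.F23Defs
import Cfsg.Agent.H49.XS

/-! The structure of `2^{1+6} . C9` used in the recognition of `Fi₂₃`. -/

set_option autoImplicit false

universe u

namespace Cfsg.Agent.H60.F23

open Subgroup H95.L3 H40.F23

/-- `R` is the central product of three quaternion groups `⟨i k, j k⟩`; the element `a k` of order three acts on the
`k`-th factor only; `s` swaps the first two factors and centralizes the third one. -/
structure Dec {X : Type u} [Group X] (R : Subgroup X) (t : X) (π : X →* C9) (a i j : Fin 3 → X) (s : X) :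
    Prop where
  xs : H49.XS R t
  surj : Function.Surjective π
  ker : π.ker = R
  πa : ∀ k, π (a k) = cw k
  a3 : ∀ k, a k ^ 3 = 1
  aa : ∀ k l, Commute (a k) (a l)
  iR : ∀ k, i k ∈ R
  jR : ∀ k, j k ∈ R
  ii : ∀ k, i k * i k = t
  jj : ∀ k, j k * j k = t
  ij : ∀ k, i k * j k = j k * i k * t
  ai : ∀ k, a k * i k * (a k)⁻¹ = j k
  aj : ∀ k, a k * j k * (a k)⁻¹ = i k * j k
  cai : ∀ k l, k ≠ l → Commute (a k) (i l)
  caj : ∀ k l, k ≠ l → Commute (a k) (j l)
  cii : ∀ k l, k ≠ l → Commute (i k) (i l)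
  cij : ∀ k l, k ≠ l → Commute (i k) (j l)
  cjj : ∀ k l, k ≠ l → Commute (j k) (j l)
  gen : R ≤ closure (Set.range i ∪ Set.range j)
  πs : π s = ct
  ss : s * s = 1 ∨ s * s = t
  sa0 : s * a 0 * s⁻¹ = a 1
  sa2 : Commute s (a 2)
  si0 : s * i 0 * s⁻¹ = i 1
  sj0 : s * j 0 * s⁻¹ = j 1
  si2 : Commute s (i 2)
  sj2 : Commute s (j 2)

/-- Piece F23a (the `2`-group part). -/
def DecStmt : Prop := ∀ (X : Type u) [Group X] [Finite X] (R : Subgroup X) (t : X) (π₀ : X →* C9),
  H49.XS R t → Nat.card R = 128 → centralizer (R : Set X) ≤ R → Function.Surjective π₀ → π₀.ker = R →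
    ∃ π a i j s, Dec R t π a i j s

end Cfsg.Agent.H60.F23
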