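import Cfsg.Agent.H25.CUKit

/-!
# Project C6U, piece H3D: three homologies generate an irreducible primitive group
-/

set_option autoImplicit false

namespace Cfsg.Agent.H60.CuH3d

open Matrix Cfsg.Geo Module
open Cfsg.Agent.H25 Cfsg.Agent.H25.CU
open Cfsg.Agent.H25.C6 hiding Fld Mod Bc Low Ar Tri StdStmt NrmStmt EsStmt GeoStmt TpStmt TvStmt
  OddStmt ZsStmt H3bStmt H3cStmt H3dStmt H3Stmt A1Stmt K0Stmt SwStmt PrimStmt RealStmt BigStmt
  SmallStmt ClsStmt A2Stmt LiftStmt KbStmt KoddStmt UqStmt One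

universe u

variable {K : Type u} [Field K] {r p : ℕ} {γ l c : K} {s : Fin 3 → GL (Fin 3) K}

theorem arith (h : Ar r p γ l) :
    (2 : K) ≠ 0 ∧ (r : K) ≠ 0 ∧ (r : K) ≠ 3 ∧ (l = -1 → (r : K) ≠ 4) := by
  have := h.char
  have k : ∀ n : ℕ, n.Prime → (n : K) = 0 → p = n := fun n hn e =>
    (Nat.prime_dvd_prime_iff_eq h.prime hn).1 ((CharP.cast_eq_zero_iff K p n).1 e)
  have h2 : (2 : K) ≠ 0 := fun e => h.two (k 2 Nat.prime_two (by exact_mod_cast e))
  obtain ⟨rfl, h'⟩ := h.pr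
  refine ⟨h2, fun e => ?_, fun e => ?_, fun hl e => ?_⟩
  · have := k 7 (by norm_num) e; omega
  · exact pow_ne_zero 2 h2 (by push_cast at e; linear_combination e)
  · exact (h.exc hl).1 (k 3 (by norm_num) (by push_cast at e ⊢; linear_combination e))

theorem a_diag (i : Fin 3) : aM r γ i i = 1 := by fin_cases i <;> rfl

theorem a_mul (h : Ar r p γ l) {i j : Fin 3} (e : i ≠ j) : aM r γ i j * aM r γ j i * r = 1 := by
  have h0 := (arith h).2.1
  have := h.gam
  fin_cases i <;> fin_cases j <;> simp [aM] at e ⊢ <;> field_simp <;> linear_combination -this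

theorem a_ne (h : Ar r p γ l) (i j : Fin 3) : aM r γ i j ≠ 0 := fun k => by
  by_cases e : i = j
  · rw [e, a_diag] at k; exact one_ne_zero k
  · simpa [k] using a_mul h e

theorem a_det (h : Ar r p γ l) : (aM r γ).det ≠ 0 := fun k => by
  obtain ⟨-, h0, h3, -⟩ := arith h
  have := h.gam
  simp [aM, det_fin_three] at k
  field_simp at k
  exact h3 (mul_left_cancel₀ h0 (by linear_combination k - this))

theorem act (h : Tri r p γ l c s) (i : Fin 3) (v : Fin 3 → K) :
    (s i).1 *ᵥ v = c • (v + ((l - 1) * (aM r γ i ⬝ᵥ v)) • Pi.single i 1) := by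
  rw [h.eq, sM, smul_mulVec, add_mulVec, one_mulVec, smul_mulVec, vecMulVec_mulVec, op_smul_eq_smul,
    smul_smul]

theorem c_ne (h : Tri r p γ l c s) : c ≠ 0 := fun e => by simpa [e] using h.c3

theorem mem_s (i : Fin 3) : s i ∈ Subgroup.closure (Set.range s) :=
  Subgroup.subset_closure ⟨i, rfl⟩

theorem two_forms (f g : (Fin 3 → K) →ₗ[K] K) : ∃ v, v ≠ 0 ∧ f v = 0 ∧ g v = 0 := by
  obtain ⟨v, hv, h0⟩ := Submodule.exists_mem_ne_zero_of_ne_bot
    (LinearMap.ker_ne_bot_of_finrank_lt (f := f.prod g) (by simp))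
  exact ⟨v, h0, congrArg Prod.fst hv, congrArg Prod.snd hv⟩

theorem irr (h : Tri r p γ l c s) (W : Submodule K (Fin 3 → K))
    (hW : ∀ i, ∀ v ∈ W, (s i).1 *ᵥ v ∈ W) : W = ⊥ ∨ W = ⊤ := by
  have k : ∀ i, ∀ v ∈ W, aM r γ i ⬝ᵥ v ≠ 0 → Pi.single i 1 ∈ W := fun i v hv e => by
    have := hW i v hv
    rwa [act h, W.smul_mem_iff (c_ne h), W.add_mem_iff_right hv,
      W.smul_mem_iff (mul_ne_zero (sub_ne_zero.2 h.ne) e)] at this
  refine (eq_or_ne W ⊥).imp_right fun e => ?_
  obtain ⟨v, hv, h0⟩ := Submodule.exists_mem_ne_zero_of_ne_bot e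
  obtain ⟨i, hi⟩ : ∃ i, aM r γ i ⬝ᵥ v ≠ 0 := by
    by_contra k'
    push Not at k'
    exact h0 (eq_zero_of_mulVec_eq_zero (a_det h.toAr) (funext k'))
  have k2 : ∀ j, Pi.single j 1 ∈ W := fun j =>
    k j _ (k i v hv hi) (by simpa using a_ne h.toAr j i)
  refine eq_top_iff.2 fun w _ => ?_
  rw [pi_eq_sum_univ' w]
  exact W.sum_mem fun j _ => W.smul_mem _ (k2 j)

/-- A monomial homology which is not diagonal. -/
theorem mono {t : K} {x y : Fin 3 → K} {σ : Equiv.Perm (Fin 3)} (hxy : x ⬝ᵥ y = 1)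
    (h : ∀ m k, m ≠ σ k → (if m = k then 1 else 0) + t * y k * x m = 0) {a : Fin 3} (ha : σ a ≠ a) :
    t = -2 ∧ ∃ m, σ m = m ∧ x m = 0 ∧ y m = 0 ∧ ∀ k, k ≠ m → 2 * (x k * y k) = 1 := by
  have d : ∀ k, σ k ≠ k → t * y k * x k = -1 := fun k hk => by
    have := h k k hk.symm
    rw [if_pos rfl] at this
    linear_combination this
  have n : ∀ k, σ k ≠ k → t ≠ 0 ∧ y k ≠ 0 ∧ x k ≠ 0 := fun k hk => by
    have : t * y k * x k ≠ 0 := by rw [d k hk]; simp
    simpa [not_or, and_assoc] using this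
  have o : ∀ m k, m ≠ σ k → m ≠ k → y k = 0 ∨ x m = 0 := fun m k e e' => by
    simpa [e', (n a ha).1] using h m k e
  obtain ⟨m, hm⟩ : ∃ m, σ m = m := by
    by_contra k
    push Not at k
    obtain ⟨m, e, e'⟩ : ∃ m, m ≠ σ a ∧ m ≠ a := 
      (by decide : ∀ a b : Fin 3, ∃ m, m ≠ b ∧ m ≠ a) a _
    exact (o m a e e').elim (n a ha).2.1 (n m (k m)).2.2
  have mv : ∀ k, k ≠ m → σ k ≠ k := (by decide : ∀ (σ : Equiv.Perm (Fin 3)) (a m : Fin 3),
    σ a ≠ a → σ m = m → ∀ k, k ≠ m → σ k ≠ k) σ a m ha hm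
  have am : a ≠ m := fun e => ha (e ▸ hm)
  have hx : x m = 0 := (o m a (fun e => am (σ.injective (e.symm.trans hm.symm))) am.symm).resolve_left
    (n a ha).2.1
  have hy : y m = 0 := (o a m (hm.symm ▸ am) am).resolve_right (n a ha).2.2
  have e : t = -2 := by
    have k1 : ∀ k, t * (x k * y k) = if k = m then 0 else -1 := fun k => by
      split_ifs with e
      · rw [e, hx, zero_mul, mul_zero]
      · linear_combination d k (mv k e)
    rw [← mul_one t, ← hxy, dotProduct, Finset.mul_sum, Finset.sum_congr rfl fun k _ => k1 k]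
    fin_cases m <;> simp [Fin.sum_univ_three] <;> ring
  refine ⟨e, m, hm, hx, hy, fun k hk => mul_left_cancel₀ (n a ha).1 ?_⟩
  linear_combination 2 * d k (mv k hk) - e

theorem prim (h : Tri r p γ l c s) (D : Fin 3 → Submodule K (Fin 3 → K))
    (hD : IsMDecomposition 1 D) : ¬ Subgroup.closure (Set.range s) ≤ decompositionStabilizer D := by
  intro hle
  choose d d0 hd using fun i => finrank_eq_one_iff'.1 (hD.finrank_eq i)
  let B := basisOfLinearIndependentOfCardEqFinrank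
    (hD.indep.linearIndependent D (v := fun i => (d i).1) (fun i => (d i).2)
      fun i e => d0 i (Subtype.ext e)) (by simp)
  have hB : ∀ i, B i = d i := fun i => by simp [B]
  choose σ hσ using fun i => hle (mem_s (s := s) i)
  have xy : ∀ i j, B.repr (Pi.single i 1) ⬝ᵥ (fun k => aM r γ j ⬝ᵥ B k) = aM r γ j i := fun i j => by
    have := congrArg (aM r γ j ⬝ᵥ ·) (B.sum_repr (Pi.single i 1))
    simp only [dotProduct_sum, dotProduct_smul, dotProduct_single, mul_one] at this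
    exact this
  have mn : ∀ i m k, m ≠ σ i k → (if m = k then 1 else 0) +
      (l - 1) * (aM r γ i ⬝ᵥ B k) * B.repr (Pi.single i 1) m = 0 := fun i m k e => by
    obtain ⟨a, ha⟩ := hd (σ i k) ⟨_, hσ i k ▸ Submodule.mem_map_of_mem (d k).2⟩
    have k1 := congrArg (fun v => B.repr v m) (congrArg Subtype.val ha)
    simp only [Submodule.coe_smul, toLin'_apply, act h, ← hB, map_smul, map_add, B.repr_self,
      Finsupp.smul_apply, Finsupp.add_apply, Finsupp.single_apply, if_neg e.symm, smul_eq_mul,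
      mul_zero] at k1
    simpa [eq_comm] using (mul_eq_zero.1 k1.symm).resolve_left (c_ne h)
  have mv : ∀ m, ∃ i, σ i m ≠ m := fun m => by
    by_contra k
    push Not at k
    have := hD.finrank_eq m
    rcases irr h (D m) (fun i v hv => by
      have := hσ i m ▸ Submodule.mem_map_of_mem (f := toLin' (s i).1) hv
      rwa [k] at this) with e | e <;> rw [e] at this <;> simp at this
  obtain ⟨i, hi⟩ := mv 0
  obtain ⟨hl, m, m1, m2, m3, m4⟩ := mono ((xy i i).trans (a_diag i)) (mn i) hi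
  obtain ⟨j, hj⟩ := mv m
  obtain ⟨-, n, n1, n2, n3, n4⟩ := mono ((xy j j).trans (a_diag j)) (mn j) hj
  have mn' : m ≠ n := fun e => hj (e ▸ n1)
  obtain ⟨a, a1, a2, a3⟩ : ∃ a, a ≠ m ∧ a ≠ n ∧ ∀ f : Fin 3 → K, ∑ k, f k = f a + f m + f n := by
    fin_cases m <;> fin_cases n <;> simp at mn'
    exacts [⟨2, by decide, by decide, fun f => by simp [Fin.sum_univ_three]; ring⟩,
      ⟨1, by decide, by decide, fun f => by simp [Fin.sum_univ_three]; ring⟩,
      ⟨2, by decide, by decide, fun f => by simp [Fin.sum_univ_three]; ring⟩,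
      ⟨0, by decide, by decide, fun f => by simp [Fin.sum_univ_three]⟩,
      ⟨1, by decide, by decide, fun f => by simp [Fin.sum_univ_three]; ring⟩,
      ⟨0, by decide, by decide, fun f => by simp [Fin.sum_univ_three]; ring⟩]
  have k1 := xy i j
  have k2 := xy j i
  have k3 := a_mul h.toAr (i := i) (j := j) fun e => hj (e ▸ m1)
  rw [dotProduct, a3, m2, n3, zero_mul, mul_zero, add_zero, add_zero] at k1
  rw [dotProduct, a3, m3, n2, zero_mul, mul_zero, add_zero, add_zero] at k2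
  rw [← k1, ← k2] at k3
  have k4 := m4 a a1
  have k5 := n4 a a2
  refine (arith h.toAr).2.2.2 (by linear_combination hl) ?_
  linear_combination 4 * k3 - r * k4 - 2 * r * (B.repr (Pi.single i 1) a * aM r γ i ⬝ᵥ B a) * k5

theorem fld (h : Tri r p γ l c s) (L : Subalgebra K (Matrix (Fin 3) (Fin 3) K))
    (hL : IsFieldSubalgebra 3 L) : ¬ Subgroup.closure (Set.range s) ≤ subalgebraNormalizer L := by
  intro hle
  have z : ∀ k ∈ L, ∀ v, v ≠ 0 → k *ᵥ v = 0 → k = 0 := fun k hk v h0 e => by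
    by_contra k0
    obtain ⟨y, hy, e'⟩ := hL.inv k hk k0
    rw [hL.comm k hk y hy] at e'
    exact h0 (by rw [← one_mulVec v, ← e', ← mulVec_mulVec, e, mulVec_zero])
  have : L = ⊥ := eq_bot_iff.2 fun k hk => by
    obtain ⟨v, h0, h1, h2⟩ := two_forms (dotProductBilin K K (aM r γ 0))
      ((dotProductBilin K K (aM r γ 0)).comp (toLin' k))
    have e1 : (s 0).1 *ᵥ v = c • v := by rw [act h, show _ ⬝ᵥ v = 0 from h1]; simp
    have e2 : (s 0).1 *ᵥ (k *ᵥ v) = c • k *ᵥ v := by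
      rw [act h, show _ ⬝ᵥ k *ᵥ v = 0 from h2]; simp
    have e3 := z _ (sub_mem ((hle (mem_s 0) k).1 hk) hk) ((s 0).1 *ᵥ v)
      (by rw [e1]; exact smul_ne_zero (c_ne h) h0) (by
        rw [sub_mulVec, mulVec_mulVec, Matrix.mul_assoc, Units.inv_mul, Matrix.mul_one,
          ← mulVec_mulVec, e2, e1, mulVec_smul, sub_self])
    have e4 : (s 0).1 *ᵥ (k *ᵥ Pi.single 0 1) = k *ᵥ ((s 0).1 *ᵥ Pi.single 0 1) := by
      conv_rhs => rw [← sub_eq_zero.1 e3]
      rw [mulVec_mulVec, mulVec_mulVec, Matrix.mul_assoc, Units.inv_mul, Matrix.mul_one]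
    rw [act h, act h, mulVec_smul, smul_right_inj (c_ne h), mulVec_add, add_right_inj, mulVec_smul,
      dotProduct_single, a_diag, mul_one, mul_one, mul_smul,
      smul_right_inj (sub_ne_zero.2 h.ne)] at e4
    have e5 := z _ (sub_mem hk (L.algebraMap_mem (aM r γ 0 ⬝ᵥ k *ᵥ Pi.single 0 1))) (Pi.single 0 1)
      (by simp) (by
        rw [sub_mulVec, Algebra.algebraMap_eq_smul_one, smul_mulVec, one_mulVec, e4, sub_self])
    exact ⟨_, (sub_eq_zero.1 e5).symm⟩
  have k := hL.finrank_eq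
  rw [this] at k
  simp at k

theorem orth (h : Tri r p γ l c s) (b : (Fin 3 → K) → (Fin 3 → K) → K) (hb : Sq (idF K) 1 b) :
    ¬ Subgroup.closure (Set.range s) ≤ similarityGroup b := by
  intro hle
  have S := hb.sesq
  have sr : ∀ a v x, b v (a • x) = a * b v x := S.smul_right
  have sy : ∀ u v, b u v = b v u := fun u v => (hb.herm u v).trans (one_mul _)
  have key : ∀ i u, b u (Pi.single i 1) =
      aM r γ i ⬝ᵥ u * b (Pi.single i 1) (Pi.single i 1) := fun i u => by
    obtain ⟨μ, hμ⟩ := hle (mem_s (s := s) i)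
    simp only [act h, S.smul_left, sr, S.add_left, S.add_right] at hμ
    obtain ⟨v, h0, h1, h2⟩ := two_forms (dotProductBilin K K (aM r γ i))
      (IsLinearMap.mk' (b · (Pi.single i 1)) ⟨fun _ _ => S.add_left _ _ _, fun _ _ => S.smul_left _ _ _⟩)
    have e : c * c = μ := by
      by_contra e
      refine h0 (hb.nondeg v fun w => mul_left_cancel₀ (sub_ne_zero.2 e) ?_)
      have := hμ v w
      rw [show _ ⬝ᵥ v = 0 from h1, show b v _ = 0 from h2] at this
      linear_combination this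
    have k := hμ (u + (-(aM r γ i ⬝ᵥ u)) • Pi.single i 1) (Pi.single i 1)
    simp only [dotProduct_add, dotProduct_smul, dotProduct_single, a_diag, S.add_left, S.smul_left,
      smul_eq_mul, ← e] at k
    refine mul_left_cancel₀ (mul_ne_zero (mul_ne_zero (c_ne h) (c_ne h)) (sub_ne_zero.2 h.ne)) ?_
    linear_combination k
  have n : b (Pi.single 0 1) (Pi.single 0 1) ≠ 0 := fun e => by
    simpa using hb.nondeg (Pi.single 0 1) fun w => by rw [sy, key, e, mul_zero]
  have k : ∀ i j, aM r γ i j * b (Pi.single i 1) (Pi.single i 1) =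
      aM r γ j i * b (Pi.single j 1) (Pi.single j 1) := fun i j => by
    simpa using (key i (Pi.single j 1)).symm.trans ((sy _ _).trans (key j (Pi.single i 1)))
  have k1 := k 0 1
  have k2 := k 1 2
  have k3 := k 0 2
  have k4 := a_ne h.toAr 1 2
  simp [aM, -mul_eq_zero] at k1 k2 k3 k4
  refine mul_ne_zero (mul_ne_zero (arith h.toAr).1 k4) n ?_
  obtain ⟨-, h0, -⟩ := arith h.toAr
  have k5 : b (Pi.single 1 1) (Pi.single 1 1) = r * b (Pi.single 0 1) (Pi.single 0 1) := by
    rw [k1, mul_inv_cancel_left₀ h0]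
  have k6 : b (Pi.single 2 1) (Pi.single 2 1) = r * b (Pi.single 0 1) (Pi.single 0 1) := by
    rw [k3, mul_inv_cancel_left₀ h0]
  rw [k5, k6] at k2
  exact mul_left_cancel₀ h0 (by linear_combination k2)

theorem h3d : H3dStmt.{u} := fun _ _ _ _ _ _ _ _ _ h => 
  ⟨fun W hW => irr h W fun i => hW _ (mem_s i), prim h, fld h, orth h⟩

end Cfsg.Agent.H60.CuH3d
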