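import Cfsg.Agent.H42.ALDefs
import Cfsg.Agent.H60.AsHD
import Cfsg.Agent.H30.OrthNonMax

/-! Project AL: linear algebra in `O₄⁻(2)`. -/

set_option autoImplicit false

namespace Cfsg.Agent.H60.AlT

open Cfsg Subgroup Cfsg.Agent.H28 Cfsg.Agent.H30 QuadraticMap Cfsg.Agent.H42.AL
open Cfsg.Agent.H42.AS (om)

theorem vv2 (x : N4 × N4) : x + x = 0 :=
  Prod.ext (funext fun _ => CharTwo.add_self_eq_zero _) (funext fun _ => CharTwo.add_self_eq_zero _)

/-- The action of a real isometry. -/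
def ap (φ : O q4) (x : N4 × N4) : N4 × N4 := (φ.1 x.1, φ.1 x.2)

theorem ap_sm (φ : O q4) (t : F4) (x : N4 × N4) : ap φ (sm t x) = sm t (ap φ x) := by
  simp [ap, sm]

theorem bq_zero (x : N4 × N4) : bq x 0 = 0 := by
  ext <;> simp [bq]

theorem bq_sm (t : F4) (x y : N4 × N4) : bq (sm t x) y = t * bq x y := by
  ext
  · simp only [bq, sm, polar_add_left, polar_smul_left, smul_eq_mul, QuadraticAlgebra.re_mul]
    ring
  · simp only [bq, sm, polar_add_left, polar_smul_left, smul_eq_mul, QuadraticAlgebra.im_mul]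
    ring

theorem bq_comm (x y : N4 × N4) : bq x y = bq y x := by
  ext
  · simp only [bq, polar_comm q4 y.1, polar_comm q4 y.2]
  · simp only [bq, polar_comm q4 y.1, polar_comm q4 y.2]
    ring

theorem bq_add (x y z : N4 × N4) : bq (x + y) z = bq x z + bq y z := by
  ext
  · simp only [bq, Prod.fst_add, Prod.snd_add, polar_add_left, QuadraticAlgebra.re_add]
    ring
  · simp only [bq, Prod.fst_add, Prod.snd_add, polar_add_left, QuadraticAlgebra.im_add]
    ring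

theorem bq_nd {x : N4 × N4} (h : ∀ y, bq x y = 0) : x = 0 := by
  refine Prod.ext (hq4.1 _ fun y => ?_) (hq4.1 _ fun y => ?_)
  · simpa [bq] using congrArg QuadraticAlgebra.re (h (y, 0))
  · simpa [bq] using congrArg QuadraticAlgebra.im (h (y, 0))

theorem bq_ext {x x' : N4 × N4} (h : ∀ y, bq x y = bq x' y) : x = x' := by
  have : x + x' = 0 := bq_nd fun y => by rw [bq_add, h, H72.ASB.f4_add]
  exact add_right_cancel (this.trans (vv2 _).symm)

theorem bq_be : ∀ u t : F4, bq (sm u (vF, 0)) (sm t (vE, 0)) = u * t := by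
  simp only [bq, polar_qMinus]
  decide

theorem bq_br : ∀ u t : F4, bq (sm u (vF, 0)) (sm t (vP', vP)) = 0 := by
  simp only [bq, polar_qMinus]
  decide

theorem split_sm (x : N4 × N4) : x = (x.1, 0) + sm om (x.2, 0) := by
  ext <;> simp [sm, om]

theorem sm_om2 (a b : N4) : (a, 0) + sm (om ^ 2) (b, 0) = (a + b, b) := by
  have h1 : (om ^ 2).re = 1 := by decide
  have h2 : (om ^ 2).im = 1 := by decide
  ext <;> simp [sm, h1, h2]

theorem sm_one (x : N4 × N4) : sm 1 x = x := by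
  have h1 : (1 : F4).re = 1 := rfl
  have h2 : (1 : F4).im = 0 := rfl
  ext <;> simp [sm, h1, h2]

theorem q_vals : q4 vP = 1 ∧ q4 (vE + vF) = 1 ∧ q4 vE = 0 ∧ q4 vF = 0 ∧ vE ≠ 0 ∧ vF ≠ 0 := by
  simp only [qMinus_apply]
  decide

theorem refl_P : (refl q4 vP).1 vP = vP ∧ (refl q4 vP).1 vP' = vP + vP' ∧
    (refl q4 vP).1 vE = vE ∧ (refl q4 vP).1 vF = vF ∧ (refl q4 (vE + vF)).1 vP = vP ∧
    (refl q4 (vE + vF)).1 vP' = vP' ∧ (refl q4 (vE + vF)).1 vE = vF ∧
    (refl q4 (vE + vF)).1 vF = vE := by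
  simp only [refl_apply, q_vals.1, q_vals.2.1, inv_one, one_mul, polar_qMinus]
  decide

theorem refl_refl_mem {x y : N4} (hx : q4 x = 1) (hy : q4 y = 1) :
    refl q4 x * refl q4 y ∈ kerDS hq4 :=
  (refl_mul_refl_mem_kerDS_iff _ (by rw [hx]; decide) (by rw [hy]; decide)).2
    (by rw [hx, hy]; exact ⟨1, rfl⟩)

theorem refl_mul_mem {x : N4} (hx : q4 x = 1) {θ : O q4} (k : θ ∉ kerDS hq4) :
    refl q4 x * θ ∈ kerDS hq4 := by
  rw [mem_kerDS_of_two_eq_zero _ (by decide)] at k ⊢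
  rw [map_mul, dickson_refl _ (by rw [hx]; decide), (Int.units_eq_one_or _).resolve_left k]
  simp

theorem exists_polar (l : N4 →+ ZMod 2) : ∃ m : N4, ∀ n, polar q4 m n = l n := by
  obtain ⟨m, e⟩ := (LinearMap.BilinForm.toDual (polarBilin q4) hq4).surjective (l.toZModLinearMap 2)
  exact ⟨m, fun n => LinearMap.congr_fun e n⟩

theorem sum_sing : ∀ n : N4, ∃ a b : N4, q4 a = 0 ∧ q4 b = 0 ∧ n = a + b := by
  simp only [qMinus_apply]
  decide +kernel

theorem basis4 : ∀ n : N4, n = n (.inl (.inl 0)) • vE + n (.inl (.inr 0)) • vF +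
    n (.inr 0) • vP + n (.inr 1) • vP' := by
  decide +kernel

theorem O_ext4 {φ ψ : O q4} (h1 : φ.1 vE = ψ.1 vE) (h2 : φ.1 vF = ψ.1 vF) (h3 : φ.1 vP = ψ.1 vP)
    (h4 : φ.1 vP' = ψ.1 vP') : φ = ψ := O_ext fun n => by
  rw [basis4 n]
  simp only [map_add, map_smul, h1, h2, h3, h4]

def qf (v : N4) : ZMod 2 := v (.inl (.inl 0)) * v (.inl (.inr 0)) +
  (v (.inr 0) * v (.inr 0) + v (.inr 0) * v (.inr 1) + v (.inr 1) * v (.inr 1))

def pf (v w : N4) : ZMod 2 := v (.inl (.inl 0)) * w (.inl (.inr 0)) +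
  v (.inl (.inr 0)) * w (.inl (.inl 0)) + (v (.inr 0) * w (.inr 1) + v (.inr 1) * w (.inr 0))

def rf (x v : N4) : N4 := v - pf v x • x

theorem qf_eq (v : N4) : q4 v = qf v := by
  simp [qMinus_apply, qf, pow_two]

theorem pf_eq (v w : N4) : polar q4 v w = pf v w := by
  have : (2 : ZMod 2) = 0 := rfl
  simp [polar_qMinus, pf, this]

set_option synthInstance.maxSize 2000 in
theorem par_fin : ∀ a : N4, qf a = 1 → pf vE a = 0 → ∀ b : N4, qf b = 1 → pf vE b = 0 →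
    pf a b = 1 → ∀ f : N4, qf f = 0 → pf vE f = 1 → pf f a = 0 → pf f b = 0 →
    (∃ s x : F4, (a + b, a) = sm s (vP', vP) + sm x (vE, 0)) ∨
      ∃ x : N4, qf x = 1 ∧ ∃ y : N4, qf y = 1 ∧ vE = rf x (rf y vE) ∧ f = rf x (rf y vF) ∧
        a = rf x (rf y vP) ∧ b = rf x (rf y vP') := by
  decide +kernel

/-- an odd isometry fixing `vE` acts as a reflection on `vE^⊥ / vE` -/
theorem par4 {θ : O q4} (hE : θ.1 vE = vE) (k : θ ∉ kerDS hq4) :
    ∃ s x : F4, (θ.1 (vP + vP'), θ.1 vP) = sm s (vP', vP) + sm x (vE, 0) := by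
  have v : q4 vP' = 1 ∧ polar q4 vE vP = 0 ∧ polar q4 vE vP' = 0 ∧ polar q4 vP vP' = 1 ∧
      polar q4 vE vF = 1 ∧ polar q4 vF vP = 0 ∧ polar q4 vF vP' = 0 := by
    simp only [qMinus_apply, polar_qMinus]
    decide
  obtain ⟨v1, v2, v3, v4, v5, v6, v7⟩ := v
  have p : ∀ y, polar q4 vE (θ.1 y) = polar q4 vE y := fun y => by
    nth_rewrite 1 [← hE]
    exact O_polar θ _ _
  have := par_fin (θ.1 vP)
  simp only [← qf_eq, ← pf_eq, rf] at this
  rcases this (by rw [O_map, q_vals.1]) (by rw [p, v2]) (θ.1 vP') (by rw [O_map, v1])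
    (by rw [p, v3]) (by rw [O_polar, v4]) (θ.1 vF) (by rw [O_map, q_vals.2.2.2.1]) (by rw [p, v5])
    (by rw [O_polar, v6]) (by rw [O_polar, v7]) with h | ⟨x, hx, y, hy, e1, e2, e3, e4⟩
  · rwa [map_add]
  · refine absurd ?_ k
    rw [O_ext4 (φ := θ) (ψ := refl q4 x * refl q4 y) (hE.trans ?_) ?_ ?_ ?_]
    · exact refl_refl_mem hx hy
    all_goals simpa only [O_mul_apply, refl_apply, hx, hy, inv_one, one_mul]

end Cfsg.Agent.H60.AlT
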