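import Cfsg.Agent.H63.A8Defs

/-!
# A8S, piece R2: `⟨t⟩` is a Sylow subgroup of the kernel
-/

set_option autoImplicit false

namespace Cfsg.Agent.H60.A8R2

open Cfsg Cfsg.Agent.H63 Cfsg.Agent.H63.SL Cfsg.Agent.H63.A8 Subgroup
open Equiv (swap)

universe u

/-! ### Finite facts -/

set_option maxRecDepth 100000 in
theorem vv_mul : ∀ k l, ∃ m, (vv k).1 * (vv l).1 = (vv m).1 := by decide +kernel

set_option maxRecDepth 100000 in
theorem vv_sq : ∀ k, (vv k).1 * (vv k).1 = 1 := by decide +kernel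

set_option maxRecDepth 100000 in
theorem vv_inj : ∀ k l, (vv k).1 = (vv l).1 → k = l := by decide +kernel

set_option maxRecDepth 100000 in
theorem bb_mul : ∀ k l, ∃ m, bb k * bb l = bb m := by decide +kernel

set_option maxRecDepth 100000 in
theorem bb_sq : ∀ k, bb k * bb k = 1 := by decide +kernel

set_option maxRecDepth 100000 in
theorem bb_inj : ∀ k l, bb k = bb l → k = l := by decide +kernel

theorem exists_E (e : Fin 16 → S8) (h1 : ∀ k l, ∃ m, e k * e l = e m) (h2 : ∀ k, e k * e k = 1)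
    (h3 : ∀ k l, e k = e l → k = l) :
    ∃ E : Subgroup S8, Nat.card E = 16 ∧ ∀ p, p ∈ E ↔ ∃ k, e k = p := by
  refine ⟨{ carrier := Set.range e
            one_mem' := ?_
            mul_mem' := ?_
            inv_mem' := ?_ }, ?_, fun _ => Iff.rfl⟩
  · rintro _ _ ⟨k, rfl⟩ ⟨l, rfl⟩
    obtain ⟨m, hm⟩ := h1 k l
    exact ⟨m, hm.symm⟩
  · obtain ⟨m, hm⟩ := h1 0 0
    exact ⟨m, hm.symm.trans (h2 0)⟩
  · rintro _ ⟨k, rfl⟩
    exact ⟨k, (inv_eq_of_mul_eq_one_right (h2 k)).symm⟩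
  · change Nat.card (Set.range e) = 16
    rw [Nat.card_range_of_injective h3, Nat.card_eq_fintype_card, Fintype.card_fin]

/-- the even part of `B × B` -/
def be (k : Fin 8) : Alt := w ^ (k.1 % 2) * b13 ^ (k.1 / 2 % 2) * w2 ^ (k.1 / 4)

theorem eqns_be : True := by have := @be.eq_1; trivial

set_option maxRecDepth 100000 in
theorem bb_be : ∀ q : S8, q = swap 0 1 ∨ q = w.1 * swap 4 5 →
    (∀ k, ∃ l, bb k = (be l).1 ∨ bb k = q * (be l).1) ∧ (∃ k, bb k = q) ∧
      cA q w = w ∧ cA q b13 = b13 ∧ cA q w2 = w2 ∧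
      ∃ s b : Alt, s ≠ 1 ∧ s * s = 1 ∧ cA q s = s ∧ cA q b * b⁻¹ = s := by
  rintro q (rfl | rfl)
  · exact ⟨by decide +kernel, by decide +kernel, by decide +kernel, by decide +kernel,
      by decide +kernel, w, v, by decide +kernel, by decide +kernel, by decide +kernel,
      by decide +kernel⟩
  · exact ⟨by decide +kernel, by decide +kernel, by decide +kernel, by decide +kernel,
      by decide +kernel, w2, c, by decide +kernel, by decide +kernel, by decide +kernel,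
      by decide +kernel⟩

set_option maxRecDepth 100000 in
theorem gen_v : (∀ a ∈ [w, v, w2, c], a * a = 1 ∧ (∃ k, (vv k).1 = a.1) ∧
    ∀ b ∈ [w, v, w2, c], a * b = b * a) ∧ z * z = 1 := by
  simp only [List.mem_cons, List.not_mem_nil, or_false, forall_eq_or_imp, forall_eq]
  refine ⟨⟨?_, ?_, ?_, ?_⟩, ?_⟩ <;> decide +kernel

set_option maxRecDepth 100000 in
theorem gen_b : ∀ a ∈ [w, b13, w2], a * a = 1 ∧ (∃ k, bb k = a.1) ∧
    ∀ b ∈ [w, b13, w2], a * b = b * a := by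
  simp only [List.mem_cons, List.not_mem_nil, or_false, forall_eq_or_imp, forall_eq]
  decide +kernel

/-! ### Groups generated by commuting elements -/

variable {G : Type u} [Group G]

theorem comm_closure {s : Set G} (h : ∀ x ∈ s, ∀ y ∈ s, Commute x y) :
    ∀ x ∈ closure s, ∀ y ∈ closure s, Commute x y := by
  have h1 : ∀ y ∈ s, ∀ x ∈ closure s, Commute x y := fun y hy x hx =>
    closure_induction (p := fun x _ => Commute x y) (fun x hx => h x hx y hy)
      (Commute.one_left y) (fun _ _ _ _ a b => a.mul_left b) (fun _ _ a => a.inv_left) hx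
  intro x hx y hy
  exact closure_induction (p := fun y _ => Commute x y) (fun y hy => h1 y hy x hx)
    (Commute.one_right x) (fun _ _ _ _ a b => a.mul_right b) (fun _ _ a => a.inv_right) hy

theorem sq_closure {s : Set G} (h : ∀ x ∈ s, ∀ y ∈ s, Commute x y) (H : Subgroup G)
    (h2 : ∀ x ∈ s, x * x ∈ H) : ∀ x ∈ closure s, x * x ∈ H := fun x hx =>
  closure_induction (p := fun x _ => x * x ∈ H) h2 (by simp)
    (fun x y hx hy a b => by
      rw [(comm_closure h y hy x hx).mul_mul_mul_comm]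
      exact H.mul_mem a b)
    (fun x _ a => by rw [← mul_inv_rev]; exact H.inv_mem a) hx

theorem two_pair {x y : G} (h : Commute x y) (hx : x * x = 1) (hy : y * y = 1) :
    ∀ g ∈ closure {x, y}, g * g = 1 := fun g hg =>
  mem_bot.1 (sq_closure (by
    rintro _ (rfl | rfl) _ (rfl | rfl)
    exacts [Commute.refl _, h, h.symm, Commute.refl _]) ⊥ (by
    rintro _ (rfl | rfl)
    exacts [hx, hy]) g hg)

theorem pg_of_sq {P : Subgroup G} (h : ∀ g ∈ P, g * g = 1) : IsPGroup 2 P := fun g =>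
  ⟨1, Subtype.ext (by rw [pow_one, pow_two]; exact h g g.2)⟩

theorem mem_zp {t x : G} (h : t * t = 1) (hx : x ∈ zpowers t) : x = 1 ∨ x = t := by
  obtain ⟨n, rfl⟩ := hx
  have h2 : t ^ (2 : ℤ) = 1 := by rw [zpow_two, h]
  rcases Int.even_or_odd' n with ⟨m, rfl | rfl⟩
  · left; simp only; rw [zpow_mul, h2, one_zpow]
  · right; simp only; rw [zpow_add, zpow_mul, h2, one_zpow, one_mul, zpow_one]

variable {ι : Alt →* G} {π : G → S8} {t : G}

section Hb

variable (h : Hb ι π t)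
include h

theorem p1 : π 1 = 1 := by rw [← map_one ι, h.sec]; rfl

theorem pinv {g : G} (hg : Commute g t) : π g⁻¹ = (π g)⁻¹ :=
  eq_inv_of_mul_eq_one_left (by rw [← h.mul _ _ hg.inv_left hg, inv_mul_cancel, p1 h])

theorem pconj {g x : G} (hg : Commute g t) (hx : Commute x t) :
    π (g * x * g⁻¹) = π g * π x * (π g)⁻¹ := by
  rw [h.mul _ _ (hg.mul_left hx) hg.inv_left, h.mul _ _ hg hx, pinv h hg]

theorem comm_of {g : G} (hg : Commute g t) {a : Alt} (ha : cA (π g) a = a) : Commute g (ι a) := by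
  have := h.act g hg a
  rw [ha] at this
  exact mul_inv_eq_iff_eq_mul.1 this

theorem kc {g : G} (hg : Commute g t) (h1 : π g = 1) (a : Alt) : Commute g (ι a) :=
  comm_of h hg (Subtype.ext (by simp [cA, h1]))

theorem kC {g : G} (hg : Commute g t) (h1 : π g = 1) : g ∈ C[ι.range] :=
  mem_centralizer_iff.2 (by rintro _ ⟨a, rfl⟩; exact (kc h hg h1 a).symm)

theorem pt (f : F8) : π t = 1 := f.cA1 _ fun a => by
  have h1 := h.act t (Commute.refl t) a
  rw [← (h.tc a).eq, mul_inv_cancel_right] at h1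
  have h2 := congrArg Subtype.val (h.inj h1)
  exact mul_inv_eq_iff_eq_mul.1 h2.symm

theorem one (f : F8) (hc : Cyc ι.range) {k : G} (hk : Commute k t) (h1 : π k = 1)
    (h2 : k * k = 1) : k = 1 ∨ k = t := by
  have hsq := two_pair hk h2 h.t2
  obtain ⟨g, hg⟩ := (hc (closure {k, t}) ((closure_le _).2 (by
    rintro _ (rfl | rfl)
    exacts [kC h hk h1, kC h (Commute.refl _) (pt h f)])) (pg_of_sq hsq)).exists_generator
  have key : ∀ x ∈ closure {k, t}, x = 1 ∨ x = g := fun x hx => by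
    obtain ⟨n, hn⟩ := hg ⟨x, hx⟩
    exact mem_zp (hsq g g.2) ⟨n, congrArg Subtype.val hn⟩
  rcases key k (subset_closure (by simp)) with h3 | h3
  · exact .inl h3
  · exact .inr (h3.trans ((key t (subset_closure (by simp))).resolve_left h.t1).symm)

theorem ev2 (f : F8) (hc : Cyc ι.range) {d : G} (hd : Commute d t) (h2 : d * d = 1) {a : Alt}
    (ha : π d = a.1) (ha2 : a * a = 1) : d = ι a ∨ d = t * ι a := by
  have h3 : Commute (d * (ι a)⁻¹) t := hd.mul_left (h.tc a).inv_left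
  have h4 : π (d * (ι a)⁻¹) = 1 := by
    rw [h.mul _ _ hd (h.tc a).inv_left, pinv h (h.tc a), h.sec, ha, mul_inv_cancel]
  have h5 : Commute d (ι a) := by
    have := (kc h h3 h4 a).mul_left (Commute.refl (ι a))
    rwa [inv_mul_cancel_right] at this
  rcases one h f hc h3 h4 (by
    rw [h5.inv_right.symm.mul_mul_mul_comm, h2, ← mul_inv_rev, ← map_mul, ha2]; simp) with H | H
  · exact .inl (mul_inv_eq_one.1 H)
  · exact .inr (mul_inv_eq_iff_eq_mul.1 H)

theorem root (f : F8) (hc : Cyc ι.range) (n : ℕ) : ∀ k : G, Commute k t → π k = 1 →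
    k ^ 2 ^ n = 1 → k ≠ 1 → k ≠ t → ∃ u ∈ zpowers k, u * u = t := by
  induction n with
  | zero => intro k _ _ h3 h4 _; exact (h4 (by simpa using h3)).elim
  | succ n ih =>
    intro k h1 h2 h3 h4 h5
    by_cases h6 : k * k = t
    · exact ⟨k, mem_zpowers k, h6⟩
    obtain ⟨u, hu, hu2⟩ := ih (k * k) (h1.mul_left h1) (by rw [h.mul _ _ h1 h1, h2, one_mul])
      (by rw [← pow_two, ← pow_mul, ← pow_succ', h3])
      (fun H => (one h f hc h1 h2 H).elim h4 h5) h6
    exact ⟨u, zpowers_le.2 (mul_mem (mem_zpowers k) (mem_zpowers k)) hu, hu2⟩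

/-- The kernel of the action. -/
theorem exists_K : ∃ K : Subgroup G, ∀ g, g ∈ K ↔ Commute g t ∧ π g = 1 :=
  ⟨{ carrier := {g | Commute g t ∧ π g = 1}
     one_mem' := ⟨Commute.one_left t, p1 h⟩
     mul_mem' := fun ha hb => ⟨ha.1.mul_left hb.1, by rw [h.mul _ _ ha.1 hb.1, ha.2, hb.2, one_mul]⟩
     inv_mem' := fun ha => ⟨ha.1.inv_left, by rw [pinv h ha.1, ha.2, inv_one]⟩ }, fun _ => Iff.rfl⟩

variable [Finite G]

theorem exists_u (f : F8) (hc : Cyc ι.range) {k : G} (hk : Commute k t) (h1 : π k = 1)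
    (h2 : Is2 k) (h3 : k ≠ 1) (h4 : k ≠ t) (P : Subgroup G) (hP : IsPGroup 2 P)
    (hPt : ∀ p ∈ P, Commute p t) : ∃ u, Commute u t ∧ π u = 1 ∧ u * u = t ∧
      ∀ p ∈ P, p * u * p⁻¹ = u ∨ p * u * p⁻¹ = t * u := by
  have : Fact (Nat.Prime 2) := ⟨Nat.prime_two⟩
  obtain ⟨K, hK⟩ := exists_K h
  obtain ⟨n, hn⟩ := h2
  have mc : ∀ {g : G}, g ∈ C1[t] ↔ Commute g t := mem_centralizer_singleton_iff
  obtain ⟨S, hS⟩ := (hP.comap_subtype (K := C1[t])).exists_le_sylow
  have hz : IsPGroup 2 (zpowers (⟨k, mc.2 hk⟩ : C1[t])) := by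
    rintro ⟨_, m, rfl⟩
    refine ⟨n, Subtype.ext (Subtype.ext ?_)⟩
    change (k ^ m) ^ 2 ^ n = 1
    rw [← zpow_natCast, ← zpow_mul, mul_comm, zpow_mul, zpow_natCast, hn, one_zpow]
  obtain ⟨S', hS'⟩ := hz.exists_le_sylow
  obtain ⟨g, hg⟩ := MulAction.exists_smul_eq C1[t] S' S
  have hgt : Commute g.1 t := mc.1 g.2
  have hk' : g * ⟨k, mc.2 hk⟩ * g⁻¹ ∈ (S : Subgroup C1[t]) := by
    rw [← hg, Sylow.coe_subgroup_smul]
    exact smul_mem_pointwise_smul _ (MulAut.conj g) _ (hS' (mem_zpowers _))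
  have hT : IsCyclic ↥((S : Subgroup C1[t]).map C1[t].subtype ⊓ K) :=
    hc _ (fun x hx => kC h ((hK x).1 hx.2).1 ((hK x).1 hx.2).2) (S.2.map _).to_inf_left
  have hkT : g.1 * k * g.1⁻¹ ∈ (S : Subgroup C1[t]).map C1[t].subtype ⊓ K :=
    ⟨⟨_, hk', rfl⟩, (hK _).2 ⟨(hgt.mul_left hk).mul_left hgt.inv_left, by
      rw [pconj h hgt hk, h1, mul_one, mul_inv_cancel]⟩⟩
  obtain ⟨u, hu, hu2⟩ := root h f hc n _ ((hK _).1 hkT.2).1 ((hK _).1 hkT.2).2
    (by rw [conj_pow, hn, mul_one, mul_inv_cancel]) (fun H => h3 (conj_eq_one_iff.1 H))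
    (fun H => h4 (by
      rw [mul_inv_eq_iff_eq_mul, ← hgt.eq] at H
      exact mul_left_cancel H))
  have huT := zpowers_le.2 hkT hu
  obtain ⟨hut, hu1⟩ := (hK u).1 huT.2
  refine ⟨u, hut, hu1, hu2, fun p hp => ?_⟩
  have hpt := hPt p hp
  have hpS : p ∈ (S : Subgroup C1[t]).map C1[t].subtype := ⟨⟨p, mc.2 hpt⟩, hS hp, rfl⟩
  have hu' : p * u * p⁻¹ ∈ (S : Subgroup C1[t]).map C1[t].subtype ⊓ K :=
    ⟨Subgroup.mul_mem _ (Subgroup.mul_mem _ hpS huT.1) (Subgroup.inv_mem _ hpS), (hK _).2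
      ⟨(hpt.mul_left hut).mul_left hpt.inv_left, by
        rw [pconj h hpt hut, hu1, mul_one, mul_inv_cancel]⟩⟩
  have hcm : Commute (p * u * p⁻¹) u := congrArg Subtype.val
    (hT.isMulCommutative.is_comm.comm (⟨_, hu'⟩ : ↥(_ ⊓ K)) ⟨_, huT⟩)
  obtain ⟨h5, h6⟩ := (hK _).1 (mul_mem hu'.2 (inv_mem huT.2))
  rcases one h f hc h5 h6 (by
    rw [hcm.inv_right.symm.mul_mul_mul_comm, ← mul_inv_rev, hu2, conj_mul, hu2, hpt.eq]
    group) with H | H
  · exact .inl (mul_inv_eq_one.1 H)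
  · exact .inr (mul_inv_eq_iff_eq_mul.1 H)

omit [Finite G] in
theorem no_F (f : F8) (hc : Cyc ι.range) {u g : G} (hu1 : π u = 1) (hu2 : u * u = t)
    (hne : g * t * g⁻¹ ≠ t) (s : Set G)
    (s2 : ∀ x ∈ s, ∀ y ∈ s, Commute x y) (s3 : ∀ x ∈ s, x * x = 1 ∨ x * x = t)
    (hu : u ∈ closure s) (hd : g * t * g⁻¹ ∈ closure s) (E : Subgroup S8) (hE : Nat.card E = 16)
    (e1 : ∀ x ∈ s, π x ∈ E) (e2 : ∀ p ∈ E, ∃ x ∈ closure s, π x = p) : False := by
  have hab := comm_closure s2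
  have hsq : ∀ x ∈ closure s, x * x = 1 ∨ x * x = t := fun x hx =>
    mem_zp h.t2 (sq_closure s2 (zpowers t) (fun x hx => by
      rcases s3 x hx with H | H <;> rw [H]
      exacts [one_mem _, mem_zpowers t]) x hx)
  have ht : ∀ x ∈ closure s, Commute x t := fun x hx => hab x hx t (hu2 ▸ mul_mem hu hu)
  let f1 : closure s →* S8 :=
    MonoidHom.mk' (fun x => π x) fun x y => h.mul _ _ (ht x x.2) (ht y y.2)
  have r1 : f1.range = E := by
    apply le_antisymm
    · rintro _ ⟨⟨x, hx⟩, rfl⟩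
      exact closure_induction (p := fun x _ => π x ∈ E) e1 (by rw [p1 h]; exact one_mem E)
        (fun x y hx hy a b => by rw [h.mul _ _ (ht x hx) (ht y hy)]; exact mul_mem a b)
        (fun x hx a => by rw [pinv h (ht x hx)]; exact inv_mem a) hx
    · intro p hp
      obtain ⟨x, hx, rfl⟩ := e2 p hp
      exact ⟨⟨x, hx⟩, rfl⟩
  have k1 : f1.ker = zpowers ⟨u, hu⟩ := by
    refine le_antisymm (fun x hx => ?_) (zpowers_le.2 hu1)
    have hx1 : π x = 1 := hx
    have m1 := mem_zpowers (⟨u, hu⟩ : closure s)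
    have key : ∀ y : closure s, π y = 1 → y.1 * y.1 = 1 → y ∈ zpowers (⟨u, hu⟩ : closure s) := by
      intro y hy hy2
      rcases one h f hc (ht y y.2) hy hy2 with H | H
      · rw [show y = 1 from Subtype.ext H]; exact one_mem _
      · rw [show y = ⟨u, hu⟩ * ⟨u, hu⟩ from Subtype.ext (H.trans hu2.symm)]; exact mul_mem m1 m1
    rcases hsq x x.2 with H | H
    · exact key x hx1 H
    · refine (mul_mem_cancel_right m1).1 (key _ ?_ ?_)
      · change π (x * u) = 1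
        rw [h.mul _ _ (ht x x.2) (ht u hu), hx1, hu1, one_mul]
      · change x * u * (x * u) = 1
        rw [(hab u hu x x.2).mul_mul_mul_comm, H, hu2, h.t2]
  have c1 : Nat.card (closure s) = 64 := by
    rw [← f1.ker.card_mul_index, index_ker, r1, hE, k1, Nat.card_zpowers, ← orderOf_coe]
    have : orderOf u = 2 ^ 2 := orderOf_eq_prime_pow (by rw [pow_one, pow_two, hu2]; exact h.t1)
      (by rw [show 2 ^ (1 + 1) = 2 * 2 from rfl, pow_mul, pow_two, pow_two, hu2, h.t2])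
    change orderOf u * 16 = 64
    rw [this]; rfl
  have ht' : ∀ x ∈ closure s, Commute (g⁻¹ * x * g) t := fun x hx => by
    have := hab x hx _ hd
    calc g⁻¹ * x * g * t = g⁻¹ * (x * (g * t * g⁻¹)) * g := by group
      _ = t * (g⁻¹ * x * g) := by rw [this.eq]; group
  let f2 : closure s →* S8 := MonoidHom.mk' (fun x => π (g⁻¹ * x * g)) fun x y => by
    rw [← h.mul _ _ (ht' x x.2) (ht' y y.2), coe_mul]
    congr 1
    group
  have k2 : f2.ker = zpowers ⟨_, hd⟩ := by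
    refine le_antisymm (fun x hx => ?_) (zpowers_le.2 ?_)
    · have hx1 : π (g⁻¹ * x * g) = 1 := hx
      have h5 : g⁻¹ * x * g * (g⁻¹ * x * g) = g⁻¹ * (x * x) * g := by group
      rcases hsq x x.2 with H | H
      · rcases one h f hc (ht' x x.2) hx1 (by rw [h5, H]; group) with H' | H'
        · rw [show x = 1 from Subtype.ext (by
            calc x.1 = g * (g⁻¹ * x * g) * g⁻¹ := by group
              _ = 1 := by rw [H']; group)]
          exact one_mem _
        · rw [show x = ⟨_, hd⟩ from Subtype.ext (by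
            calc x.1 = g * (g⁻¹ * x * g) * g⁻¹ := by group
              _ = _ := by rw [H'])]
          exact mem_zpowers _
      · exfalso
        have h6 := h.mul _ _ (ht' x x.2) (ht' x x.2)
        rw [h5, H, hx1, one_mul] at h6
        rcases one h f hc (ht' t (hu2 ▸ mul_mem hu hu)) h6 (by
          calc _ = g⁻¹ * (t * t) * g := by group
            _ = 1 := by rw [h.t2]; group) with H' | H'
        · exact h.t1 (by
            calc t = g * (g⁻¹ * t * g) * g⁻¹ := by group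
              _ = 1 := by rw [H']; group)
        · exact hne (by
            calc g * t * g⁻¹ = g * (g⁻¹ * t * g) * g⁻¹ := by rw [H']
              _ = t := by group)
    · change π (g⁻¹ * (g * t * g⁻¹) * g) = 1
      rw [show g⁻¹ * (g * t * g⁻¹) * g = t by group, pt h f]
  refine f.ab f2.range ?_ ?_
  · rintro _ ⟨x, rfl⟩ _ ⟨y, rfl⟩
    exact (show Commute x y from Subtype.ext (hab x x.2 y y.2)).map f2
  · have : Fact (Nat.Prime 2) := ⟨Nat.prime_two⟩
    rw [← f2.ker.card_mul_index, index_ker, k2, Nat.card_zpowers, ← orderOf_coe] at c1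
    have h7 : orderOf (g * t * g⁻¹) = 2 := orderOf_eq_prime (by
      rw [conj_pow, pow_two, h.t2, mul_one, mul_inv_cancel]) (fun H => h.t1 (conj_eq_one_iff.1 H))
    change orderOf (g * t * g⁻¹) * _ = 64 at c1
    rw [h7] at c1
    omega

omit [Finite G] in
theorem red (f : F8) (hc : Cyc ι.range) {d : G} (hd : IsConj t d) (hdt : Commute d t)
    (hne : d ≠ t) : ∃ a : Alt, IsConj t (ι a * d * (ι a)⁻¹) ∧ Commute (ι a * d * (ι a)⁻¹) t ∧
      ι a * d * (ι a)⁻¹ ≠ t ∧ d * d = 1 ∧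
      ((ι a * d * (ι a)⁻¹ = ι w ∨ ι a * d * (ι a)⁻¹ = t * ι w) ∨
        (ι a * d * (ι a)⁻¹ = ι z ∨ ι a * d * (ι a)⁻¹ = t * ι z) ∨
        π (ι a * d * (ι a)⁻¹) = swap 0 1 ∨ π (ι a * d * (ι a)⁻¹) = w.1 * swap 4 5) := by
  have d2 : d * d = 1 := by
    obtain ⟨g, rfl⟩ := isConj_iff.1 hd
    rw [conj_mul, h.t2, mul_one, mul_inv_cancel]
  obtain ⟨a, ha⟩ := f.inv (π d) (by rw [← h.mul _ _ hdt hdt, d2, p1 h])
  have h1 : Commute (ι a * d * (ι a)⁻¹) t := ((h.tc a).mul_left hdt).mul_left (h.tc a).inv_left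
  have h2 : ι a * d * (ι a)⁻¹ * (ι a * d * (ι a)⁻¹) = 1 := by
    rw [conj_mul, d2, mul_one, mul_inv_cancel]
  refine ⟨a, hd.trans (isConj_iff.2 ⟨_, rfl⟩), h1, fun H => hne (by
    rw [mul_inv_eq_iff_eq_mul, ← (h.tc a).eq] at H
    exact mul_left_cancel H), d2, ?_⟩
  rw [← h.sec a, ← pconj h (h.tc a) hdt] at ha
  rcases ha with H | H | H | H | H
  · rcases one h f hc hdt H d2 with H' | H'
    · exact (h.t1 (isConj_one_left.1 (H' ▸ hd))).elim
    · exact (hne H').elim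
  · exact .inr (.inr (.inl H))
  · exact .inl (ev2 h f hc h1 h2 H (gen_v.1 w (by simp)).1)
  · exact .inr (.inr (.inr H))
  · exact .inr (.inl (ev2 h f hc h1 h2 H gen_v.2))

omit [Finite G] in
theorem no_comm (f : F8) (hc : Cyc ι.range) {u d : G} (hut : Commute u t) (hu1 : π u = 1)
    (hu2 : u * u = t) (hd : IsConj t d) (hdt : Commute d t) (hne : d ≠ t) : ¬ Commute d u := by
  intro hdu
  obtain ⟨a, h1, h2, h3, d2, h4⟩ := red h f hc hd hdt hne
  have h5 : Commute (ι a * d * (ι a)⁻¹) u :=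
    ((kc h hut hu1 a).symm.mul_left hdu).mul_left (kc h hut hu1 a).symm.inv_left
  have h6 : ι a * d * (ι a)⁻¹ * (ι a * d * (ι a)⁻¹) = 1 := by
    rw [conj_mul, d2, mul_one, mul_inv_cancel]
  generalize ι a * d * (ι a)⁻¹ = e at h1 h2 h3 h4 h5 h6
  obtain ⟨g, rfl⟩ := isConj_iff.1 h1
  rw [← or_assoc] at h4
  rcases h4 with h4 | h4
  · obtain ⟨E, hE, mE⟩ := exists_E (fun k => (vv k).1) vv_mul vv_sq vv_inj
    have mu : u ∈ closure (insert u (ι '' {a | a ∈ [w, v, w2, c]})) := subset_closure (.inl rfl)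
    have mi : ∀ a ∈ [w, v, w2, c], ι a ∈ closure (insert u (ι '' {a | a ∈ [w, v, w2, c]})) :=
      fun a ha => subset_closure (.inr ⟨a, ha, rfl⟩)
    have mw := mi w (by simp)
    have mz : ι z ∈ closure (insert u (ι '' {a | a ∈ [w, v, w2, c]})) := by
      rw [z, map_mul]; exact mul_mem mw (mi w2 (by simp))
    refine no_F h f hc hu1 hu2 h3 (insert u (ι '' {a | a ∈ [w, v, w2, c]})) ?_ ?_ mu ?_ E hE
      ?_ ?_
    · rintro _ (rfl | ⟨a, ha, rfl⟩) _ (rfl | ⟨b, hb, rfl⟩)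
      exacts [Commute.refl _, kc h hut hu1 b, (kc h hut hu1 a).symm,
        (show Commute a b from (gen_v.1 a ha).2.2 b hb).map ι]
    · rintro _ (rfl | ⟨a, ha, rfl⟩)
      exacts [.inr hu2, .inl (by rw [← map_mul, (gen_v.1 a ha).1, map_one])]
    · rcases h4 with (H | H) | H | H <;> rw [H]
      exacts [mw, mul_mem (hu2 ▸ mul_mem mu mu) mw, mz, mul_mem (hu2 ▸ mul_mem mu mu) mz]
    · rintro _ (rfl | ⟨a, ha, rfl⟩)
      · rw [hu1]; exact one_mem E
      · rw [h.sec, mE]; exact (gen_v.1 a ha).2.1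
    · intro p hp
      obtain ⟨k, rfl⟩ := (mE p).1 hp
      refine ⟨ι (vv k), ?_, h.sec _⟩
      simp only [vv, map_mul, map_pow]
      exact mul_mem (mul_mem (mul_mem (pow_mem mw _) (pow_mem (mi v (by simp)) _))
        (pow_mem (mi w2 (by simp)) _)) (pow_mem (mi c (by simp)) _)
  · obtain ⟨E, hE, mE⟩ := exists_E bb bb_mul bb_sq bb_inj
    obtain ⟨b1, b2, b3, b4, b5, -⟩ := bb_be _ h4
    generalize hd : g * t * g⁻¹ = d at *
    have hda : ∀ a ∈ [w, b13, w2], Commute d (ι a) := by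
      simp only [List.mem_cons, List.not_mem_nil, or_false, forall_eq_or_imp, forall_eq]
      exact ⟨comm_of h h2 b3, comm_of h h2 b4, comm_of h h2 b5⟩
    have md : d ∈ closure (insert u (insert d (ι '' {a | a ∈ [w, b13, w2]}))) :=
      subset_closure (.inr (.inl rfl))
    have mi : ∀ a ∈ [w, b13, w2],
        ι a ∈ closure (insert u (insert d (ι '' {a | a ∈ [w, b13, w2]}))) :=
      fun a ha => subset_closure (.inr (.inr ⟨a, ha, rfl⟩))
    have mb : ∀ l, ι (be l) ∈ closure (insert u (insert d (ι '' {a | a ∈ [w, b13, w2]}))) := by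
      intro l
      simp only [be, map_mul, map_pow]
      exact mul_mem (mul_mem (pow_mem (mi w (by simp)) _) (pow_mem (mi b13 (by simp)) _))
        (pow_mem (mi w2 (by simp)) _)
    refine no_F h f hc (g := g) hu1 hu2 (hd ▸ h3) (insert u (insert d (ι '' {a | a ∈ [w, b13, w2]})))
      ?_ ?_ (subset_closure (.inl rfl)) (hd ▸ md) E hE ?_ ?_
    · rintro _ (rfl | rfl | ⟨a, ha, rfl⟩) _ (rfl | rfl | ⟨b, hb, rfl⟩)
      exacts [Commute.refl _, h5.symm, kc h hut hu1 b, h5, Commute.refl _, hda b hb,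
        (kc h hut hu1 a).symm, (hda a ha).symm,
        (show Commute a b from (gen_b a ha).2.2 b hb).map ι]
    · rintro _ (rfl | rfl | ⟨a, ha, rfl⟩)
      exacts [.inr hu2, .inl h6, .inl (by rw [← map_mul, (gen_b a ha).1, map_one])]
    · rintro _ (rfl | rfl | ⟨a, ha, rfl⟩)
      · rw [hu1]; exact one_mem E
      · rw [mE]; exact b2
      · rw [h.sec, mE]; exact (gen_b a ha).2.1
    · intro p hp
      obtain ⟨k, rfl⟩ := (mE p).1 hp
      obtain ⟨l, H | H⟩ := b1 k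
      · exact ⟨_, mb l, by rw [h.sec, H]⟩
      · exact ⟨_, mul_mem md (mb l), by rw [h.mul _ _ h2 (h.tc _), h.sec, H]⟩

end Hb

theorem r2 : R2Stmt.{u} := by
  intro f G _ _ X ι π t hR h
  obtain ⟨g0, hg1, hg2⟩ := hR.iso
  have hiso : IsConj t (g0 * t * g0⁻¹) := isConj_iff.2 ⟨g0, rfl⟩
  refine ⟨h, fun k hk h1 h2 => ?_, _, hiso, hg1, hg2⟩
  by_contra hcon
  obtain ⟨h3, h4⟩ := not_or.1 hcon
  have hc := hR.cyc
  have hu := exists_u h f hc hk h1 h2 h3 h4
  obtain ⟨a, d1, d2, d3, d0, d4⟩ := red h f hc hiso hg1 hg2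
  have d5 : ι a * (g0 * t * g0⁻¹) * (ι a)⁻¹ * (ι a * (g0 * t * g0⁻¹) * (ι a)⁻¹) = 1 := by
    rw [conj_mul, d0, mul_one, mul_inv_cancel]
  generalize ι a * (g0 * t * g0⁻¹) * (ι a)⁻¹ = d at d1 d2 d3 d4 d5
  obtain ⟨u, u1, u2, u3, u4⟩ := hu (closure {d, d}) (pg_of_sq (two_pair (Commute.refl d) d5 d5))
    (fun p hp => mem_centralizer_singleton_iff.1
      ((closure_le C1[t]).2 (by simpa using mem_centralizer_singleton_iff.2 d2) hp))
  have nc := no_comm h f hc u1 u2 u3 d1 d2 d3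
  rcases d4 with (rfl | rfl) | (rfl | rfl) | d4
  · exact nc (kc h u1 u2 _).symm
  · exact nc (u1.symm.mul_left (kc h u1 u2 _).symm)
  · exact nc (kc h u1 u2 _).symm
  · exact nc (u1.symm.mul_left (kc h u1 u2 _).symm)
  obtain ⟨-, -, -, -, -, s, b, s1, s2, s3, s4⟩ := bb_be _ d4
  have n1 : ¬ IsConj t (ι s) := fun H => no_comm h f hc u1 u2 u3 H (h.tc s) (fun H' => s1 (by
    have := h.sec s
    rw [H', pt h f] at this
    exact Subtype.ext this.symm)) (kc h u1 u2 _).symm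
  have n2 : ¬ IsConj t (t * ι s) := fun H => no_comm h f hc u1 u2 u3 H
    ((Commute.refl t).mul_left (h.tc s))
    (fun H' => s1 (h.inj ((mul_eq_left.1 H').trans (map_one ι).symm)))
    (u1.symm.mul_left (kc h u1 u2 _).symm)
  have di : d⁻¹ = d := inv_eq_of_mul_eq_one_right d5
  have c1 : IsConj t (d * ι s) := d1.trans (isConj_iff.2 ⟨ι b, by
    rw [← s4, map_mul, map_inv, ← h.act d d2, di]
    calc _ = (d * d) * ι b * d * (ι b)⁻¹ := by rw [d5, one_mul]
      _ = _ := by group⟩)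
  have mv : ∀ {x y : G}, x * y * x⁻¹ = t * y → Commute y t → y⁻¹ * x * y = t * x := by
    intro x y H hy
    rw [mul_assoc, mul_inv_eq_iff_eq_mul.1 H, ← hy.eq]
    group
  have c2 : IsConj t (t * d * ι s) := c1.trans (isConj_iff.2 ⟨u⁻¹, by
    have e1 := mv ((u4 d (subset_closure (by simp))).resolve_left
      fun H => nc (mul_inv_eq_iff_eq_mul.1 H)) u1
    rw [← e1, inv_inv, mul_assoc, mul_assoc, ← (kc h u1 u2 s).eq]
    group⟩)
  obtain ⟨g, rfl⟩ := isConj_iff.1 d1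
  have back : ∀ x, Commute x (g * t * g⁻¹) → Commute (g⁻¹ * x * g) t := fun x hx => by
    calc g⁻¹ * x * g * t = g⁻¹ * (x * (g * t * g⁻¹)) * g := by group
      _ = t * (g⁻¹ * x * g) := by rw [hx.eq]; group
  have t1 := back t d2.symm
  have t2 := back _ (comm_of h d2 s3).symm
  obtain ⟨u', v1, v2, v3, v4⟩ := hu (closure {g⁻¹ * t * g, g⁻¹ * ι s * g}) (pg_of_sq (two_pair
    (by calc _ = g⁻¹ * (t * ι s) * g := by group
          _ = _ := by rw [← (h.tc s).eq]; group)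
    (by calc _ = g⁻¹ * (t * t) * g := by group
          _ = _ := by rw [h.t2]; group)
    (by calc _ = g⁻¹ * (ι s * ι s) * g := by group
          _ = _ := by rw [← map_mul, s2, map_one]; group)))
    (fun p hp => mem_centralizer_singleton_iff.1 ((closure_le C1[t]).2 (by
      rintro _ (rfl | rfl)
      exacts [mem_centralizer_singleton_iff.2 t1, mem_centralizer_singleton_iff.2 t2]) hp))
  have e1 := mv ((v4 _ (subset_closure (.inl rfl))).resolve_left fun H =>
    no_comm h f hc v1 v2 v3 (isConj_iff.2 ⟨g⁻¹, by rw [inv_inv]⟩) t1 (fun H' => d3 (by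
      calc g * t * g⁻¹ = g * (g⁻¹ * t * g) * g⁻¹ := by rw [H']
        _ = t := by group)) (mul_inv_eq_iff_eq_mul.1 H)) v1
  rcases v4 _ (subset_closure (.inr rfl)) with H | H
  · refine n2 (c2.trans (IsConj.symm (isConj_iff.2 ⟨g * u'⁻¹ * g⁻¹, ?_⟩)))
    have e2 : u'⁻¹ * (g⁻¹ * ι s * g) * u' = g⁻¹ * ι s * g := by
      rw [mul_assoc, mul_inv_eq_iff_eq_mul.1 H, inv_mul_cancel_left]
    calc _ = g * ((u'⁻¹ * (g⁻¹ * t * g) * u') * (u'⁻¹ * (g⁻¹ * ι s * g) * u')) * g⁻¹ := by group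
      _ = (g * t * g⁻¹) * t * ι s := by rw [e1, e2]; group
      _ = _ := by rw [d2.eq]
  · refine n1 (c1.trans (IsConj.symm (isConj_iff.2 ⟨g * u'⁻¹ * g⁻¹, ?_⟩)))
    calc _ = g * (u'⁻¹ * (g⁻¹ * ι s * g) * u') * g⁻¹ := by group
      _ = _ := by rw [mv H v1]; group

end Cfsg.Agent.H60.A8R2
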