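import Cfsg.Agent.H46.J2Defs

/-! # Fusion of `t` in the elementary abelian group of order 32 -/

set_option autoImplicit false
open scoped Pointwise commutatorElement
open Subgroup

namespace Cfsg.Agent.H46.S94.H60Fus
open Cfsg.Agent.H8 Cfsg.Agent.H23.D2

universe u

theorem memU {Γ : Type} [Group Γ] {G : Type u} [Group G] {φ : Γ →* G} {t : G} {O : Subgroup G}
    (h : Cx φ t O) {W : Subgroup Γ} {x : G} (hx : x ∈ W.map φ ⊔ zpowers t) :
    ∃ w ∈ W, x = φ w ∨ x = φ w * t := by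
  let S : Subgroup G :=
    { carrier := {x | ∃ w ∈ W, x = φ w ∨ x = φ w * t}
      one_mem' := ⟨1, W.one_mem, Or.inl (map_one φ).symm⟩
      mul_mem' := by
        rintro _ _ ⟨a, ha, rfl | rfl⟩ ⟨b, hb, rfl | rfl⟩ <;> refine ⟨_, W.mul_mem ha hb, ?_⟩ <;>
          rw [map_mul]
        · exact Or.inl rfl
        · exact Or.inr (mul_assoc _ _ _).symm
        · exact Or.inr (by rw [mul_assoc, ← h.AC, mul_assoc])
        · exact Or.inl (by rw [h.AC b, mul_assoc, ← mul_assoc t, h.tt, one_mul])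
      inv_mem' := by
        rintro _ ⟨a, ha, rfl | rfl⟩ <;> refine ⟨_, W.inv_mem ha, ?_⟩
        · exact Or.inl (map_inv φ a).symm
        · exact Or.inr (by rw [mul_inv_rev, h.tinv, ← map_inv, h.AC]) }
  exact (sup_le (by rintro _ ⟨a, ha, rfl⟩; exact ⟨a, ha, Or.inl rfl⟩)
    (zpowers_le.2 ⟨1, W.one_mem, Or.inr (by simp)⟩) : _ ≤ S) hx

/-- **Fus** -/
theorem fus : FusStmt.{u} := by
  intro Γ _ G _ _ φ t O W hb el cW e16 h s hs i
  obtain ⟨g, rfl⟩ := isConj_iff.1 i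
  set U := W.map φ ⊔ zpowers t with hU
  have sq : ∀ x ∈ U, x * x = 1 := fun x hx => by
    obtain ⟨w, hw, rfl | rfl⟩ := memU h hx
    · rw [← map_mul, el w hw, map_one]
    · rw [mul_assoc, ← mul_assoc t, ← h.AC, mul_assoc, h.tt, mul_one, ← map_mul, el w hw, map_one]
  have sq' : ∀ x ∈ U, g⁻¹ * x * g * (g⁻¹ * x * g) = 1 := fun x hx => by
    calc _ = g⁻¹ * (x * x) * g := by group
      _ = 1 := by rw [sq x hx]; group
  have ct : ∀ x ∈ U, g⁻¹ * x * g * t = t * (g⁻¹ * x * g) := fun x hx => by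
    have := sq _ (mul_mem hx hs)
    rw [mul_eq_one_iff_eq_inv, mul_inv_rev, inv_eq_of_mul_eq_one_right (sq _ hx),
      inv_eq_of_mul_eq_one_right (sq _ hs)] at this
    calc _ = g⁻¹ * (x * (g * t * g⁻¹)) * g := by group
      _ = _ := by rw [this]; group
  obtain ⟨θ, hθ⟩ := exists_autHom h.inj
  let ρ : U →* MulAut Γ := θ.comp (((MulAut.conj g⁻¹).toMonoidHom.comp U.subtype).codRestrict _
    fun x => h.NJ _ (by simpa using ct x x.2))
  have hρ : ∀ (x : U) a, φ (ρ x a) = g⁻¹ * x * g * φ a * (g⁻¹ * x * g)⁻¹ := fun x a =>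
    (hθ _ a).trans (by change g⁻¹ * x * g⁻¹⁻¹ * _ * (g⁻¹ * x * g⁻¹⁻¹)⁻¹ = _; rw [inv_inv])
  have k1 : Nat.card ρ.ker ≤ 2 := by
    rw [← card_map_of_injective U.subtype_injective]
    refine (card_le_of_le (K := zpowers (g * t * g⁻¹)) ?_).trans ?_
    · rintro _ ⟨x, hx, rfl⟩
      have hx : ρ x = 1 := hx
      rcases h.two_cent (ct x x.2) (mem_C_range.2 fun a => by
        rw [← mul_inv_eq_iff_eq_mul.1 ((hρ x a).symm.trans (by rw [hx]; rfl))]) (n := 1)
        (by simpa [pow_two] using sq' x x.2) with e | e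
      · rw [show U.subtype x = g * (g⁻¹ * x * g) * g⁻¹ by simp [mul_assoc], e]; simp
      · rw [show U.subtype x = g * (g⁻¹ * x * g) * g⁻¹ by simp [mul_assoc], e]
        exact mem_zpowers _
    · rw [Nat.card_zpowers]
      exact orderOf_le_of_pow_eq_one two_pos (by rw [pow_two, sq _ hs])
  have k2 : 32 ≤ Nat.card U := by
    have c : Nat.card (W.map φ) = 16 := by rw [card_map_of_injective h.inj, cW]
    have hle : W.map φ ≤ U := le_sup_left
    obtain ⟨k, hk⟩ := card_dvd_of_le hle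
    have : 0 < Nat.card U := Nat.card_pos
    by_contra l
    have e : W.map φ = U := eq_of_le_of_card_ge hle (by
      rw [c] at hk ⊢; rcases k with _ | _ | k <;> omega)
    obtain ⟨a, -, e'⟩ : t ∈ W.map φ := e ▸ mem_sup_right (mem_zpowers t)
    exact h.tA hb a e'
  have k3 := ρ.ker.card_mul_index
  rw [index_ker] at k3
  obtain ⟨c, hc⟩ := e16 ρ.range (by
    rintro _ ⟨x, rfl⟩
    rw [← map_mul, show x * x = 1 from Subtype.ext (sq x x.2), map_one]) (by nlinarith)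
  refine ⟨g * φ c, inv_mem_iff.1 (mem_N_of fun x hx => ?_), ?_⟩
  · obtain ⟨w, hw, e⟩ := (hc _).1 ⟨⟨x, hx⟩, rfl⟩
    have mw : φ w ∈ U := mem_sup_left ⟨w, hw, rfl⟩
    have w2 : φ (c * w * c⁻¹) * φ (c * w * c⁻¹) = 1 := by
      rw [← map_mul, conj_mul, el w hw]; simp
    have e0 : (g * φ c)⁻¹ * x * (g * φ c)⁻¹⁻¹ = (φ c)⁻¹ * (g⁻¹ * x * g) * φ c := by group
    have s2 := sq' x hx
    have key : ∀ y, ∀ o ∈ O, y * y = 1 → Commute y o → y * o * (y * o) = 1 → o = 1 :=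
      fun y o ho h1 h2 h3 => h.o_sq ho (by rwa [h2.symm.mul_mul_mul_comm, h1, one_mul] at h3)
    obtain ⟨o, ho, e1 | e1⟩ := h.split' (ct x hx) (hρ ⟨x, hx⟩) e <;> rw [e0, e1] <;> rw [e1] at s2
    · rw [key _ o ho w2 (h.oA ho _) s2]
      simpa [mul_assoc] using mw
    · rw [key _ o ho (by rw [(Commute.symm (h.AC _)).mul_mul_mul_comm, w2, h.tt, one_mul])
        (Commute.mul_left (h.oA ho _) (h.Ot o ho).symm) s2, mul_one, mul_assoc, mul_assoc, ← h.AC]
      simpa [mul_assoc] using mul_mem mw (mem_sup_right (mem_zpowers t))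
  · rw [mul_assoc g, h.AC]; group

end Cfsg.Agent.H46.S94.H60Fus
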