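import Cfsg.Agent.H46.SOn
import Cfsg.Agent.H46.SClo
import Cfsg.Agent.H44.OnBV

/-! Project S95: exact lines and the lift of `ζ` in the O'Nan group. -/

set_option autoImplicit false

namespace Cfsg.Agent.H60.OnEta

open Subgroup Cfsg.Agent.H44 Cfsg.Agent.H59 Cfsg.Agent.H59.On Cfsg.Agent.H46.S95 Cfsg.Agent.H46.S95.On

universe u

/-! ### Words in involutions which commute up to a central involution -/

section NF

/-- insertion of a letter -/
def ins (c : ℕ → ℕ → Bool) (i : ℕ) : List ℕ → Bool × List ℕ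
  | [] => (false, [i])
  | j :: l => if i < j then (false, i :: j :: l) else if i = j then (false, l) else
      (xor (c i j) (ins c i l).1, j :: (ins c i l).2)

/-- the normal form -/
def nf (c : ℕ → ℕ → Bool) : List ℕ → Bool × List ℕ
  | [] => (false, [])
  | i :: l => if i = 0 then (xor true (nf c l).1, (nf c l).2) else
      (xor (nf c l).1 (ins c i (nf c l).2).1, (ins c i (nf c l).2).2)

variable {H : Type*} [Group H] {c : ℕ → ℕ → Bool} {g : ℕ → H}

/-- the relations -/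
structure Rl (c : ℕ → ℕ → Bool) (g : ℕ → H) : Prop where
  sq : ∀ i, g i * g i = 1
  zc : ∀ i, g 0 * g i = g i * g 0
  cm : ∀ i j, g i * g j = cond (c i j) (g 0) 1 * (g j * g i)

theorem Rl.xor (h : Rl c g) (a b : Bool) :
    cond (xor a b) (g 0) 1 = cond a (g 0) 1 * cond b (g 0) 1 := by
  cases a <;> cases b <;> simp [h.sq]

theorem Rl.sc (h : Rl c g) (a : Bool) (i : ℕ) (x : H) :
    g i * (cond a (g 0) 1 * x) = cond a (g 0) 1 * (g i * x) := by
  cases a
  · simp
  · simp only [cond_true]; rw [← mul_assoc, ← h.zc, mul_assoc]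

theorem Rl.ins_eq (h : Rl c g) (i : ℕ) (l : List ℕ) :
    g i * ev g l = cond (ins c i l).1 (g 0) 1 * ev g (ins c i l).2 := by
  induction l with
  | nil => simp [ins, ev_nil, ev_single]
  | cons j l ih =>
    rw [ins]
    split_ifs with h1 h2
    · simp [ev_cons]
    · subst h2
      simp [ev_cons, ← mul_assoc, h.sq]
    · rw [ev_cons, ← mul_assoc, h.cm, mul_assoc, mul_assoc, ih, h.sc, h.xor, ev_cons, mul_assoc]

theorem Rl.nf_eq (h : Rl c g) (l : List ℕ) :
    ev g l = cond (nf c l).1 (g 0) 1 * ev g (nf c l).2 := by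
  induction l with
  | nil => simp [nf]
  | cons i l ih =>
    rw [nf]
    split_ifs with h1
    · subst h1
      rw [ev_cons, h.xor, mul_assoc, ← ih]; rfl
    · rw [ev_cons, ih, h.sc, h.ins_eq, h.xor, mul_assoc]

theorem Rl.eq (h : Rl c g) (l r : List ℕ) (e : nf c l = nf c r) : ev g l = ev g r := by
  rw [h.nf_eq l, h.nf_eq r, e]

end NF

/-! ### Involutions -/

/-- involutions -/
def Iv (r : Γ) : Prop := r * r = 1 ∧ r ≠ 1

theorem Iv.root {r : Γ} (h : Iv r) : IsConj (ν 1) r := by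
  obtain ⟨k, e⟩ := cls h.1 h.2
  exact (isConj_iff.2 ⟨k, e⟩).symm

/-- the test for involutions -/
noncomputable def ivB (w : List ℕ) : Bool := eqB (w ++ w) [] && bN (eqB w [])

theorem iv_of (w : List ℕ) (h : ivB w = true) : Iv (ev ν w) := by
  obtain ⟨h1, h2⟩ := Bool.and_eq_true_iff.1 h
  exact ⟨by rw [← ev_append]; exact ko.eq _ _ h1, ko.ne _ _ h2⟩

theorem iv_z : Iv (ν 1) := ⟨a_sq, a_ne⟩

variable {G : Type u} [Group G] {φ : Γ →* G} {t : G} {f : Γ → G}

theorem cloE : CloES.{u} := by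
  intro G _ φ t f h l r s hr hs c ne
  have w : WL φ t (ν 1) f ν eqB := ⟨h, ko.eq⟩
  obtain ⟨k1, k2⟩ := h.of_ln l (ev_single ν 6 ▸ (iv_of [6] (by decide +kernel)).root)
    (ev_single ν 4 ▸ (iv_of [4] (by decide +kernel)).root)
    (by simpa only [ev_cons, ev_nil, mul_one] using (iv_of [1, 6] (by decide +kernel)).root)
    (by simpa only [ev_cons, ev_nil, mul_one] using (iv_of [6, 4] (by decide +kernel)).root)
  have k3 : EE (ν 1) f (ν 1) (ν 3) := by
    rcases k2 with k2 | k2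
    · rw [← ev_single ν 6, ← ev_single ν 4] at k2
      have := w.e k2 [4, 5, 8, 3, 4, 7, 5, 6, 3, 4, 5, 3, 2, 3, 4, 3, 4, 2, 3, 4, 8, 2, 3, 7, 2, 5, 8, 4,
        5, 7, 3, 4, 5, 3, 4, 3, 4, 5] [1] [3] (by decide +kernel)
      rwa [ev_single, ev_single] at this
    · have k4 : DD φ (ν 1) f (ev ν [6]) (ev ν [4]) (ev ν [1]) := by simpa only [ev_single] using k2
      exact absurd (w.move k4 [2] (by decide +kernel)) (ko.ne _ _ (by decide +kernel))
  obtain ⟨a, rfl⟩ := isConj_iff.1 hr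
  have e : a⁻¹ * s * a * ν 1 = ν 1 * (a⁻¹ * s * a) := by
    calc a⁻¹ * s * a * ν 1 = a⁻¹ * (s * (a * ν 1 * a⁻¹)) * a := by group
      _ = _ := by rw [← c]; group
  obtain ⟨m, hm, e'⟩ := cls_K (s := a⁻¹ * s * a) (mem_centralizer_singleton_iff.2 e)
    (by
      calc _ = a⁻¹ * (s * s) * a := by group
        _ = 1 := by rw [h.rsq hs]; group) (fun k => by
      have : s = 1 := by
        calc s = a * (a⁻¹ * s * a) * a⁻¹ := by group
          _ = 1 := by rw [k]; group
      rw [this] at hs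
      exact a_ne (isConj_one_left.1 hs))
  have hm' := mem_centralizer_singleton_iff.1 hm
  have e1 : a * m⁻¹ * ν 1 = a * ν 1 * a⁻¹ * (a * m⁻¹) := by
    rw [mul_assoc, (Commute.inv_left hm').eq]; group
  have e2 : ∀ x, m * (a⁻¹ * s * a) * m⁻¹ = x → a * m⁻¹ * x = s * (a * m⁻¹) := fun x k => by
    rw [← k]; group
  rcases e' with e' | e' | e'
  · exact absurd (mul_right_cancel (e1.symm.trans (e2 _ e'))) ne
  · exact (h.ee_cj k1 e1 (e2 _ e')).eq
  · exact (h.ee_cj k3 e1 (e2 _ e')).eq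

theorem ex (e : Ex (ν 1) f) {r s : Γ} (hr : Iv r) (hs : Iv s) (h : Iv (r * s)) :
    f r * f s = f (r * s) :=
  e r s hr.root hs.root (H23.D2.comm_of_invs hr.1 hs.1 h.1) fun k => h.2 (by rw [k, hs.1])

theorem exc (h : Lf φ t (ν 1) f) (e : Ex (ν 1) f) {r s : Γ} (hr : Iv r) (hs : Iv s) (k : Iv (r * s)) :
    f r * f s = f s * f r :=
  h.ee_com ⟨hr.root, hs.root, k.root, ex e hr hs k⟩

/-- the test for a grid -/
noncomputable def gridB (a b c d : List ℕ) : Bool :=
  [a, b, c, d, a ++ b, c ++ d, a ++ c, b ++ d, (a ++ b) ++ (c ++ d), (a ++ c) ++ (b ++ d),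
    [1] ++ a].all ivB && eqB ((a ++ b) ++ (c ++ d)) ([1] ++ ((a ++ c) ++ (b ++ d)))

theorem grid (h : Lf φ t (ν 1) f) (e : Ex (ν 1) f) {a b c d : List ℕ} (k : gridB a b c d = true) :
    f (ev ν b) * f (ev ν c) = f (ν 1) * (f (ev ν c) * f (ev ν b)) := by
  simp only [gridB, List.all_cons, List.all_nil, Bool.and_true, Bool.and_eq_true] at k
  obtain ⟨⟨k1, k2, k3, k4, k5, k6, k7, k8, k9, k10, k11⟩, k0⟩ := k
  have h1 := iv_of _ k1
  have h2 := iv_of _ k2
  have h3 := iv_of _ k3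
  have h4 := iv_of _ k4
  have h5 := iv_of _ k5
  have h6 := iv_of _ k6
  have h7 := iv_of _ k7
  have h8 := iv_of _ k8
  have h9 := iv_of _ k9
  have h10 := iv_of _ k10
  have h11 := iv_of _ k11
  have h0 := ko.eq _ _ k0
  simp only [ev_append, ev_single] at h5 h6 h7 h8 h9 h10 h11 h0
  have e1 := ex e h5 h6 h9
  rw [h0, ← ex e iv_z h10 (h0 ▸ h9), ← ex e h7 h8 h10, ← ex e h1 h2 h5, ← ex e h3 h4 h6,
    ← ex e h1 h3 h7, ← ex e h2 h4 h8] at e1
  have e2 := exc h e iv_z h1 h11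
  apply mul_left_cancel (a := f (ev ν a))
  apply mul_right_cancel (b := f (ev ν d))
  calc _ = f (ev ν a) * f (ev ν b) * (f (ev ν c) * f (ev ν d)) := by group
    _ = f (ν 1) * f (ev ν a) * (f (ev ν c) * f (ev ν b)) * f (ev ν d) := by rw [e1]; group
    _ = _ := by rw [e2]; group

/-! ### The frame -/

/-- generators of the frame -/
def Y : List (List ℕ) :=
  [[1], [4], [3, 7, 4, 7, 3], [4, 7, 3, 4, 7, 3], [6], [5, 4, 3, 7, 5, 4, 8, 5, 6, 4, 3, 4, 5]]

/-- the pairs which do not commute -/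
def cc (i j : ℕ) : Bool :=
  [(1, 2), (1, 3), (2, 1), (2, 3), (3, 1), (3, 2), (4, 5), (5, 4)].contains (i, j)

/-- substitution of the generators -/
noncomputable def fl (w : List ℕ) : List ℕ := w.flatMap (nth [] Y)

/-- the lifts of the generators -/
noncomputable def gg (f : Γ → G) (i : ℕ) : G := if i < 6 then f (ev ν (nth [] Y i)) else 1

theorem gg0 : gg f 0 = f (ν 1) := congrArg f (ev_single ν 1)

theorem iv_Y : ∀ i < 6, Iv (ev ν (nth [] Y i)) := fun i hi =>
  iv_of _ ((by decide +kernel : ∀ i < 6, ivB (nth [] Y i) = true) i hi)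

theorem rl (h : Lf φ t (ν 1) f) (e : Ex (ν 1) f) : Rl cc (gg f) := by
  have k : ∀ i j, gg f i * gg f j = cond (cc i j) (gg f 0) 1 * (gg f j * gg f i) := fun i j => by
    by_cases hi : i < 6 ∧ j < 6
    · have k0 : ∀ i < 6, ∀ j < 6, (cond (cc i j) (gridB (nth [] Y (if i < 4 then 4 else 1)) (nth [] Y i)
          (nth [] Y j) (nth [] Y (if i < 4 then 5 else 2))) (i == j || ivB (nth [] Y i ++ nth [] Y j))) =
          true := by decide +kernel
      have k1 := k0 i hi.1 j hi.2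
      cases hc : cc i j
      · rw [hc, cond_false, Bool.or_eq_true, beq_iff_eq] at k1
        rw [cond_false, one_mul]
        rcases k1 with rfl | k1
        · rfl
        · rw [gg, gg, if_pos hi.1, if_pos hi.2]
          exact exc h e (iv_Y i hi.1) (iv_Y j hi.2) (ev_append ν _ _ ▸ iv_of _ k1)
      · rw [hc, cond_true] at k1
        rw [cond_true, gg0, gg, gg, if_pos hi.1, if_pos hi.2]
        exact grid h e k1
    · have hc : cc i j = false := by
        by_contra hc
        simp only [cc, Bool.not_eq_false, List.contains_iff_mem, List.mem_cons, Prod.mk.injEq,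
          List.not_mem_nil, or_false] at hc
        omega
      rw [hc, cond_false, one_mul]
      rcases not_and_or.1 hi with k | k
      · rw [gg, if_neg k, one_mul, mul_one]
      · rw [gg.eq_1 f j, if_neg k, one_mul, mul_one]
  refine ⟨fun i => ?_, fun i => ?_, k⟩
  · rw [gg]
    split_ifs with hi
    · exact h.sq _ (iv_Y i hi).root
    · exact one_mul 1
  · rw [k 0 i, show cc 0 i = false by simp [cc], cond_false, one_mul]

/-- the lift of an involution of the frame is given by the same word -/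
def Pt (f : Γ → G) (w : List ℕ) : Prop := Iv (ev ν (fl w)) ∧ f (ev ν (fl w)) = ev (gg f) w

theorem Pt.one {i : ℕ} (hi : i < 6) : Pt f [i] := by
  have e : fl [i] = nth [] Y i := by simp [fl]
  rw [Pt, e, ev_single, gg, if_pos hi]
  exact ⟨iv_Y i hi, rfl⟩

theorem Pt.line (e : Ex (ν 1) f) {u v : List ℕ} (hu : Pt f u) (hv : Pt f v)
    (k : ivB (fl (u ++ v)) = true) : Pt f (u ++ v) := by
  have k1 := iv_of _ k
  refine ⟨k1, ?_⟩
  have e1 : fl (u ++ v) = fl u ++ fl v := List.flatMap_append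
  rw [e1, ev_append] at k1 ⊢
  rw [← ex e hu.1 hv.1 k1, hu.2, hv.2, ev_append]

/-- the check of a derivation -/
noncomputable def chk : List (List ℕ) → List (List ℕ × List ℕ) → Bool
  | _, [] => true
  | K, p :: D => K.contains p.1 && K.contains p.2 && ivB (fl (p.1 ++ p.2)) && chk ((p.1 ++ p.2) :: K) D

theorem chk_ok (e : Ex (ν 1) f) {D : List (List ℕ × List ℕ)} : ∀ {K : List (List ℕ)},
    (∀ w ∈ K, Pt f w) → chk K D = true → ∀ p ∈ D, Pt f (p.1 ++ p.2) := by
  induction D with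
  | nil => simp
  | cons p D ih =>
    intro K hK k
    simp only [chk, Bool.and_eq_true, List.contains_iff_mem] at k
    have h1 := (hK _ k.1.1.1).line e (hK _ k.1.1.2) k.1.2
    exact List.forall_mem_cons.2 ⟨h1, ih (List.forall_mem_cons.2 ⟨h1, hK⟩) k.2⟩

/-- the derivation -/
def DL : List (List ℕ × List ℕ) :=
  [([0], [4]), ([1], [4]), ([0], [1, 4]), ([0], [2]), ([2], [4]), ([0], [3]), ([0], [2, 4]), ([3], [4]),
    ([0], [3, 4]), ([1], [5]), ([0], [1, 5]), ([3], [5]), ([2, 4], [3, 5])]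

/-- the points -/
def PL : List (List ℕ) := [[0], [1], [2], [3], [4], [5]] ++ DL.map fun p => p.1 ++ p.2

theorem pts (e : Ex (ν 1) f) : ∀ w ∈ PL, Pt f w := by
  have h0 : ∀ w ∈ [[0], [1], [2], [3], [4], [5]], Pt f w := by
    simp only [List.forall_mem_cons]
    exact ⟨.one (by norm_num), .one (by norm_num), .one (by norm_num), .one (by norm_num),
      .one (by norm_num), .one (by norm_num), by simp⟩
  intro w hw
  rcases List.mem_append.1 hw with hw | hw
  · exact h0 w hw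
  · obtain ⟨p, hp, rfl⟩ := List.mem_map.1 hw
    exact chk_ok e h0 (by decide +kernel) p hp

/-- the check for `mv` -/
noncomputable def mvB (a : List ℕ) (i : ℕ) (σ : List ℕ) : Bool :=
  decide (i < 6) && PL.contains σ && eqB (a ++ nth [] Y i) (fl σ ++ a)

theorem mv (h : Lf φ t (ν 1) f) (e : Ex (ν 1) f) (a : List ℕ) (i : ℕ) (σ : List ℕ)
    (k : mvB a i σ = true) (x : G) :
    φ (ev ν a) * (gg f i * x) = ev (gg f) σ * (φ (ev ν a) * x) := by
  simp only [mvB, Bool.and_eq_true, decide_eq_true_eq, List.contains_iff_mem] at k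
  have h1 := ko.eq _ _ k.2
  rw [ev_append, ev_append] at h1
  rw [← (pts e σ k.1.2).2, h.cj (iv_Y i k.1.1).root h1, gg, if_pos k.1.1]
  group

theorem eta : EtaS.{u} := by
  intro G _ φ t f h e
  have r := rl h e
  have hη : ev (gg f) [1, 2, 3] = gg f 1 * (gg f 2 * gg f 3) := by simp [ev_cons, ev_nil]
  refine ⟨ev (gg f) [1, 2, 3], ?_, ?_, ?_, ?_, ?_⟩
  · refine ev_mem fun i _ => ?_
    rw [gg]
    split_ifs with hi
    · exact subset_closure ⟨_, (iv_Y i hi).root, rfl⟩
    · exact one_mem _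
  · have k : ∀ i < 6, t * gg f i * t = gg f i * φ (ev ν (nth [] Y i)) := fun i hi => by
      rw [gg, if_pos hi, h.two (iv_Y i hi).root]
    have e1 : t * ev (gg f) [1, 2, 3] * t = t * gg f 1 * t * (t * gg f 2 * t * (t * gg f 3 * t)) := by
      rw [hη]
      calc _ = t * gg f 1 * (t * t) * gg f 2 * (t * t) * gg f 3 * t := by rw [h.tt]; group
        _ = _ := by group
    have e2 : ζ = ev ν (nth [] Y 1) * (ev ν (nth [] Y 2) * ev ν (nth [] Y 3)) := by
      rw [← ev_append, ← ev_append]; exact ko.eq _ _ (by decide +kernel)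
    have e3 : ev (gg f) [0, 3] = gg f 0 * gg f 3 := by simp [ev_cons, ev_nil]
    rw [e1, k 1 (by norm_num), k 2 (by norm_num), k 3 (by norm_num), e2, map_mul, map_mul]
    simp only [mul_assoc]
    rw [mv h e _ 3 [0, 3] (by decide +kernel), mv h e _ 2 [0, 2] (by decide +kernel), e3, mul_assoc,
      mv h e _ 0 [0] (by decide +kernel), mv h e _ 3 [0, 3] (by decide +kernel),
      ← ev_single (gg f) 1]
    simp only [← mul_assoc, ← ev_append]
    rw [r.eq _ [] (by decide +kernel), ev_nil, one_mul]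
  · rw [← ev_append, r.eq _ [0] (by decide +kernel), ev_single, gg0]
  · have k : ∀ p ∈ [([1], [1], [2], [3]), ([4], [1], [0, 2], [0, 3]), ([6], [1], [2], [3]),
        ([3, 7], [0, 2, 4], [0, 1, 4], [0, 3]), ([3, 4, 3], [0, 1, 4], [2, 4], [0, 3]),
        ([5, 6, 4, 5], [4], [0, 1, 5], [2, 4, 3, 5])], mvB p.1 1 p.2.1 = true ∧ mvB p.1 2 p.2.2.1 = true ∧
        mvB p.1 3 p.2.2.2 = true ∧ nf cc (p.2.1 ++ p.2.2.1 ++ p.2.2.2) = nf cc [1, 2, 3] := by
      decide +kernel
    have k2 : P ≤ (centralizer {ev (gg f) [1, 2, 3]}).comap φ := wgen_le.2 fun s hs => by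
      obtain ⟨p, hp, rfl⟩ := List.mem_map.1 (show s ∈ List.map Prod.fst
        [([1], [1], [2], [3]), ([4], [1], [0, 2], [0, 3]), ([6], [1], [2], [3]),
        ([3, 7], [0, 2, 4], [0, 1, 4], [0, 3]), ([3, 4, 3], [0, 1, 4], [2, 4], [0, 3]),
        ([5, 6, 4, 5], [4], [0, 1, 5], [2, 4, 3, 5])] from hs)
      obtain ⟨a1, a2, a3, a4⟩ := k p hp
      rw [mem_comap, mem_centralizer_singleton_iff]
      nth_rw 1 [hη, ← mul_one (gg f 3)]
      rw [mv h e _ _ _ a1, mv h e _ _ _ a2, mv h e _ _ _ a3, ← r.eq _ _ a4, ev_append, ev_append]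
      group
    exact fun p hp => (mem_centralizer_singleton_iff.1 (k2 hp)).symm
  · intro v hv h1
    obtain ⟨w, hw, rfl⟩ := OnBV.mem_V.1 hv
    have k : ∀ w ∈ OnBV.WV, w = [] ∨ ∃ σ ∈ [[0], [4], [0, 4], [3], [0, 3, 4], [3, 4], [0, 3]],
        σ ∈ PL ∧ eqB w (fl σ) = true ∧ nf cc ([1, 2, 3] ++ σ) = nf cc (σ ++ [1, 2, 3]) := by
      decide +kernel
    rcases k w hw with rfl | ⟨σ, -, a1, a2, a3⟩
    · exact absurd rfl h1
    · rw [ko.eq _ _ a2, (pts e σ a1).2, ← ev_append, ← ev_append, r.eq _ _ a3]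

theorem eqns_OnEta : True := by
  have := @ins.eq_1
  have := @ins.eq_2
  have := @ins.eq_def
  have := @nf.eq_1
  have := @nf.eq_2
  have := @nf.eq_def
  have := @Iv.eq_1
  have := @ivB.eq_1
  have := @gridB.eq_1
  have := @Y.eq_1
  have := @cc.eq_1
  have := @fl.eq_1
  have := @gg.eq_1.{0}
  have := @Pt.eq_1.{0}
  have := @chk.eq_1
  have := @chk.eq_2
  have := @chk.eq_def
  have := @DL.eq_1
  have := @PL.eq_1
  have := @mvB.eq_1
  trivial

end Cfsg.Agent.H60.OnEta
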