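import Cfsg.Agent.H50.DerDefs

/-!
# DER, piece LINA: the abelian minimal configuration
-/

set_option autoImplicit false

namespace Cfsg.Agent.H60.DerLinA

open MulAction Cfsg.Agent.H50.Der

universe u

theorem arith0 (d : ℕ) (hd : 2 ≤ d) (k : ℕ) (hk : 2 ≤ k) :
    (k * d + 2) ^ 2 ≤ 4 * (d + 1) ^ k := by
  induction k, hk using Nat.le_induction with
  | base => nlinarith
  | succ k hk ih =>
    obtain ⟨A, hA⟩ : ∃ A, A = k * d + 2 := ⟨_, rfl⟩
    have h1 : 2 * d + 2 ≤ A := by rw [hA]; nlinarith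
    have h2 : (k + 1) * d + 2 = A + d := by rw [hA]; ring
    have h3 : 2 * A + d ≤ A ^ 2 := by nlinarith
    rw [h2, pow_succ (d + 1)]
    rw [← hA] at ih
    calc (A + d) ^ 2 = A ^ 2 + d * (2 * A + d) := by ring
      _ ≤ A ^ 2 + d * A ^ 2 := by gcongr
      _ = A ^ 2 * (d + 1) := by ring
      _ ≤ 4 * (d + 1) ^ k * (d + 1) := by gcongr
      _ = _ := by ring

theorem arith {h c k : ℕ} (hc : 3 ≤ c) (hk : 2 ≤ k) (H : h * 2 ≤ k * (c - 1)) :
    (h + 1) ^ 2 ≤ c ^ k := by
  obtain ⟨d, rfl⟩ : ∃ d, c = d + 1 := ⟨c - 1, by omega⟩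
  rw [Nat.add_sub_cancel] at H
  have h1 := arith0 d (by omega) k hk
  have h2 : (h * 2 + 2) ^ 2 ≤ (k * d + 2) ^ 2 := by gcongr
  nlinarith

variable {M V : Type u} [Group M] [CommGroup V] [MulDistribMulAction M V]

variable (V) in
/-- The fixed vectors of a subgroup. -/
def Fx (Y : Subgroup M) : Subgroup V where
  carrier := {v | ∀ y ∈ Y, y • v = v}
  one_mem' y _ := smul_one y
  mul_mem' ha hb y hy := by rw [smul_mul', ha y hy, hb y hy]
  inv_mem' ha y hy := by rw [smul_inv', ha y hy]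

theorem eqns_Fx : True := by have := @Fx.eq_1.{0}; trivial

theorem mem_Fx {Y : Subgroup M} {v : V} : v ∈ Fx V Y ↔ ∀ y ∈ Y, y • v = v := Iff.rfl

theorem indep [Finite M] {R : Subgroup M} (hR : Cm R) {ι : Type*} (Y : ι → Subgroup M)
    (hinj : Function.Injective Y) (h1 : ∀ i, Y i ≤ R) (h2 : ∀ i j, Nat.card (Y i) = Nat.card (Y j))
    (h3 : ∀ i, ∀ w ∈ Fx V (Y i), w ≠ 1 → ∀ y ∈ R, y • w = w → y ∈ Y i) (T : Finset ι) :
    ∀ f : ι → V, (∀ i, f i ∈ Fx V (Y i)) → ∏ i ∈ T, f i = 1 → ∀ i ∈ T, f i = 1 := by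
  classical
  induction T using Finset.induction_on with
  | empty => simp
  | insert j T hj ih =>
    intro f hf hp
    have key : ∀ i ∈ T, f i = 1 := by
      intro i hi
      have hne : ¬ Y j ≤ Y i := fun hle =>
        hj (hinj (Subgroup.eq_of_le_of_card_ge hle (h2 i j).le) ▸ hi)
      obtain ⟨y, hy, hy'⟩ := SetLike.not_le_iff_exists.1 hne
      have h4 : ∏ l ∈ insert j T, (y • f l / f l) = 1 := by
        rw [Finset.prod_div_distrib, ← Finset.smul_prod', hp, smul_one, div_one]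
      rw [Finset.prod_insert hj, hf j y hy, div_self', one_mul] at h4
      have h5 := ih (fun l => y • f l / f l) (fun l => div_mem (fun x hx => by
        rw [← mul_smul, hR x (h1 l hx) y (h1 j hy), mul_smul, hf l x hx]) (hf l)) h4 i hi
      by_contra h6
      exact hy' (h3 i _ (hf i) h6 y (h1 j hy) (div_eq_one.1 h5))
    intro i hi
    rcases Finset.mem_insert.1 hi with rfl | hi
    · rwa [Finset.prod_insert hj, Finset.prod_eq_one key, mul_one] at hp
    · exact key i hi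

theorem mem_St {U R : Subgroup M} (hn : Nm U R) {u : M} (hu : u ∈ U) {v : V} {x : M}
    (hx : x ∈ R ⊓ stabilizer M (u • v)) : u⁻¹ * x * u ∈ R ⊓ stabilizer M v := by
  refine ⟨by simpa using hn u⁻¹ (U.inv_mem hu) x hx.1, ?_⟩
  have : x • u • v = u • v := hx.2
  change (u⁻¹ * x * u) • v = v
  rw [mul_smul, mul_smul, this, inv_smul_smul]

theorem card_St_le [Finite M] {U R : Subgroup M} (hn : Nm U R) {u : M} (hu : u ∈ U) (v : V) :
    Nat.card ↥(R ⊓ stabilizer M (u • v)) ≤ Nat.card ↥(R ⊓ stabilizer M v) :=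
  Nat.card_le_card_of_injective (fun x => ⟨u⁻¹ * x * u, mem_St hn hu x.2⟩) fun x y H =>
    Subtype.ext (by simpa using congrArg Subtype.val H)

theorem card_St [Finite M] {U R : Subgroup M} (hn : Nm U R) {u : M} (hu : u ∈ U) (v : V) :
    Nat.card ↥(R ⊓ stabilizer M (u • v)) = Nat.card ↥(R ⊓ stabilizer M v) := by
  refine le_antisymm (card_St_le hn hu v) ?_
  have := card_St_le hn (U.inv_mem hu) (u • v)
  rwa [inv_smul_smul] at this

theorem smul_Fx {U R : Subgroup M} (hn : Nm U R) {u : M} (hu : u ∈ U) {v w : V}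
    (hw : w ∈ Fx V (R ⊓ stabilizer M v)) : u • w ∈ Fx V (R ⊓ stabilizer M (u • v)) := by
  intro x hx
  have := hw _ (mem_St hn hu hx)
  rwa [mul_smul, mul_smul, inv_smul_eq_iff] at this

theorem card_Fx_le [Finite V] {U R : Subgroup M} (hn : Nm U R) {u : M} (hu : u ∈ U) (v : V) :
    Nat.card (Fx V (R ⊓ stabilizer M v)) ≤ Nat.card (Fx V (R ⊓ stabilizer M (u • v))) :=
  Nat.card_le_card_of_injective (fun w => ⟨u • w.1, smul_Fx hn hu w.2⟩) fun _ _ H =>
    Subtype.ext (MulAction.injective u (congrArg Subtype.val H))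

theorem card_Fx [Finite V] {U R : Subgroup M} (hn : Nm U R) {u : M} (hu : u ∈ U) (v : V) :
    Nat.card (Fx V (R ⊓ stabilizer M (u • v))) = Nat.card (Fx V (R ⊓ stabilizer M v)) := by
  refine le_antisymm ?_ (card_Fx_le hn hu v)
  have := card_Fx_le hn (U.inv_mem hu) (u • v)
  rwa [inv_smul_smul] at this

theorem linA : LinAStmt.{u} := by
  intro M V _ _ _ _ _ E U R r h hR
  classical
  obtain ⟨y0, hy0, hy1, v1, hv1, hyv⟩ := h.ns
  obtain ⟨v0, hv0, hmax⟩ := Set.exists_max_image {v : V | v ≠ 1}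
    (fun v => Nat.card ↥(R ⊓ stabilizer M v)) (Set.toFinite _) ⟨v1, hv1⟩
  have hv0 : v0 ≠ 1 := hv0
  have hsm : ∀ u : M, ∀ v : V, v ≠ 1 → u • v ≠ 1 := fun u v hv H =>
    hv (MulAction.injective u (H.trans (smul_one u).symm))
  have hself : ∀ v : V, v ∈ Fx V (R ⊓ stabilizer M v) := fun v x hx => hx.2
  have hY : R ⊓ stabilizer M v0 ≠ ⊥ := by
    intro H
    have h1 := hmax v1 hv1
    simp only [H, Subgroup.card_bot] at h1
    have h2 := (Subgroup.card_le_one_iff_eq_bot _).1 h1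
    exact hy1 ((Subgroup.eq_bot_iff_forall _).1 h2 y0 ⟨hy0, hyv⟩)
  obtain ⟨a, haR, ha⟩ : ∃ a ∈ R, a • v0 ≠ v0 := by
    by_contra hc
    have hc : v0 ∈ Fx V R := fun a ha => by_contra fun H => hc ⟨a, ha, H⟩
    rcases h.irr (Fx V R) (fun u hu w hw x hx => by
      have := hw _ (h.nR u⁻¹ (U.inv_mem hu) x hx)
      rwa [inv_inv, mul_smul, mul_smul, inv_smul_eq_iff] at this) with H | H
    · exact hv0 ((Subgroup.eq_bot_iff_forall _).1 H v0 hc)
    · exact hy1 (h.faith y0 fun v => (show v ∈ Fx V R from H ▸ Subgroup.mem_top v) y0 hy0)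
  have hav : a • v0 ∈ Fx V (R ⊓ stabilizer M v0) := fun x hx => by
    rw [← mul_smul, hR x hx.1 a haR, mul_smul, show x • v0 = v0 from hx.2]
  obtain ⟨c, hc⟩ : ∃ c, c = Nat.card (Fx V (R ⊓ stabilizer M v0)) := ⟨_, rfl⟩
  have hc3 : 3 ≤ c := by
    rw [hc]
    change 2 < Nat.card (Fx V (R ⊓ stabilizer M v0))
    have := Fintype.ofFinite (Fx V (R ⊓ stabilizer M v0))
    rw [Nat.card_eq_fintype_card, Fintype.two_lt_card_iff]
    exact ⟨1, ⟨v0, hself v0⟩, ⟨_, hav⟩, fun H => hv0 (congrArg Subtype.val H).symm,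
      fun H => hsm a v0 hv0 (congrArg Subtype.val H).symm,
      fun H => ha (congrArg Subtype.val H).symm⟩
  let ι := {Y : Subgroup M // ∃ u ∈ U, Y = R ⊓ stabilizer M (u • v0)}
  have := Fintype.ofFinite ι
  have hcι : ∀ i : ι, Nat.card (Fx V i.1) = c := by
    rintro ⟨_, u, hu, rfl⟩
    rw [hc]; exact card_Fx h.nR hu v0
  have hsι : ∀ i : ι, Nat.card i.1 = Nat.card ↥(R ⊓ stabilizer M v0) := by
    rintro ⟨_, u, hu, rfl⟩
    exact card_St h.nR hu v0
  have hRι : ∀ i : ι, i.1 ≤ R := by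
    rintro ⟨_, u, hu, rfl⟩
    exact inf_le_left
  have hk : 2 ≤ Fintype.card ι := by
    by_contra hk
    have hsub := Fintype.card_le_one_iff_subsingleton.1 (show Fintype.card ι ≤ 1 by omega)
    rcases h.irr (Fx V (R ⊓ stabilizer M v0)) (fun u hu w hw => by
      have h1 : R ⊓ stabilizer M (u • v0) = R ⊓ stabilizer M v0 :=
        congrArg Subtype.val (Subsingleton.elim (α := ι) ⟨_, u, hu, rfl⟩
          ⟨_, 1, U.one_mem, by rw [one_smul]⟩)
      rw [← h1]
      exact smul_Fx h.nR hu hw) with H | H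
    · exact hv0 ((Subgroup.eq_bot_iff_forall _).1 H v0 (hself v0))
    · exact hY ((Subgroup.eq_bot_iff_forall _).2 fun x hx => h.faith x fun v =>
        (show v ∈ Fx V (R ⊓ stabilizer M v0) from H ▸ Subgroup.mem_top v) x hx)
  have hind := indep (V := V) hR (fun i : ι => i.1) Subtype.val_injective hRι
    (fun i j => (hsι i).trans (hsι j).symm) (fun i w hw hw1 y hy hyw => by
      have h1 : i.1 ≤ R ⊓ stabilizer M w := fun x hx => ⟨hRι i hx, hw x hx⟩
      rw [Subgroup.eq_of_le_of_card_ge h1 ((hmax w hw1).trans (hsι i).ge)]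
      exact ⟨hy, hyw⟩) Finset.univ
  have hn : c ^ Fintype.card ι ≤ Nat.card V := by
    have h1 := Nat.card_le_card_of_injective (fun f : ∀ i : ι, Fx V i.1 => ∏ i, (f i : V))
      (fun f g H => funext fun i => Subtype.ext (div_eq_one.1 (hind (fun i => f i / g i)
        (fun i => div_mem (f i).2 (g i).2)
        (by rw [Finset.prod_div_distrib]; exact div_eq_one.2 H) i (Finset.mem_univ i))))
    rwa [Nat.card_pi, Finset.prod_congr rfl fun i _ => hcι i, Finset.prod_const,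
      Finset.card_univ] at h1
  have hrep : ∀ q : M ⧸ E, ∃ u ∈ U, (u : M ⧸ E) = q := fun q => by
    obtain ⟨g, rfl⟩ := QuotientGroup.mk_surjective q
    obtain ⟨u, hu, hg⟩ := h.cov g
    exact ⟨u, hu, QuotientGroup.eq.2 hg⟩
  choose u hu hq using hrep
  let d : Bool → M := fun b => if b then a else 1
  have hdR : ∀ b, d b ∈ R := by
    rintro (_ | _)
    exacts [R.one_mem, haR]
  have hdF : ∀ b, d b • v0 ∈ Fx V (R ⊓ stabilizer M v0) := by
    rintro (_ | _)
    · exact (one_smul M v0).symm ▸ hself v0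
    · exact hav
  have h2 : E.index * 2 ≤ Fintype.card ι * (c - 1) := by
    have h1 := Nat.card_le_card_of_injective
      (β := Σ i : ι, ↥((Fx V i.1 : Set V) \ {1}))
      (fun x : (M ⧸ E) × Bool => ⟨⟨_, u x.1, hu x.1, rfl⟩, u x.1 • d x.2 • v0,
        smul_Fx h.nR (hu _) (hdF _), hsm _ _ (hsm _ _ hv0)⟩) (by
      rintro ⟨q, b⟩ ⟨q', b'⟩ H
      have H1 : u q • d b • v0 = u q' • d b' • v0 := congrArg (fun x => (x.2 : V)) H
      have H2 : (u q' * d b')⁻¹ * (u q * d b) ∈ E := by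
        by_contra H2
        refine hv0 (h.fpf _ H2 v0 ?_)
        rw [mul_smul, mul_smul, H1, ← mul_smul (u q'), inv_smul_smul]
      have H3 : q' = q := by
        rw [← hq q, ← hq q', ← QuotientGroup.mk_mul_of_mem (u q) (h.RE (hdR b)),
          ← QuotientGroup.mk_mul_of_mem (u q') (h.RE (hdR b'))]
        exact QuotientGroup.eq.2 H2
      subst H3
      have H4 := MulAction.injective _ H1
      refine Prod.ext rfl ?_
      cases b <;> cases b'
      · rfl
      · exact (ha (H4.symm.trans (one_smul M v0))).elim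
      · exact (ha (H4.trans (one_smul M v0))).elim
      · rfl)
    have h3 : ∀ i : ι, Nat.card ↥((Fx V i.1 : Set V) \ {1}) = c - 1 := fun i => by
      rw [Nat.card_coe_set_eq, Set.ncard_sdiff_singleton_of_mem (Fx V i.1).one_mem, ← hcι i]
      rfl
    rwa [Nat.card_prod, Nat.card_sigma, Finset.sum_congr rfl fun i _ => h3 i, Finset.sum_const,
      Finset.card_univ, smul_eq_mul, Nat.card_eq_fintype_card (α := Bool),
      Fintype.card_bool] at h1
  exact (arith hc3 hk h2).trans hn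

end Cfsg.Agent.H60.DerLinA
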