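import Cfsg.Agent.H56.HLDefs
import Cfsg.Agent.H26.SLTrans

/-!
# HL, piece M0: the dictionary between vertices and points / lines
-/

set_option autoImplicit false

namespace Cfsg.Agent.H60.HlM0

open Subgroup Matrix Module Cfsg.Agent.H83 Cfsg.Agent.H56.HL Cfsg.Agent.H32

universe u

variable {G : Type u} [Group G] {K : Type} [Field K]

theorem rk1 {v φ w ψ : Fin 3 → K} (hv : v ≠ 0) (hφ : φ ≠ 0)
    (h : vecMulVec v φ = vecMulVec w ψ) : ∃ c : K, c ≠ 0 ∧ w = c • v ∧ φ = c • ψ := by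
  obtain ⟨i, hi⟩ := Function.ne_iff.1 hv
  obtain ⟨j, hj⟩ := Function.ne_iff.1 hφ
  have e : ∀ a b, v a * φ b = w a * ψ b := fun a b => congrFun (congrFun h a) b
  have hi : v i ≠ 0 := hi
  have hj : φ j ≠ 0 := hj
  have h1 : ψ j ≠ 0 := fun H => mul_ne_zero hi hj (by rw [e, H, mul_zero])
  have h2 : ∀ a, w a = φ j / ψ j * v a := fun a => by
    field_simp
    linear_combination -e a j
  refine ⟨φ j / ψ j, div_ne_zero hj h1, funext h2, funext fun b => mul_left_cancel₀ hi ?_⟩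
  rw [e, h2, Pi.smul_apply, smul_eq_mul]
  ring

theorem vv_eq_zero {v φ : Fin 3 → K} (hv : v ≠ 0) (hφ : φ ≠ 0) : vecMulVec v φ ≠ 0 := fun h => by
  obtain ⟨c, hc, h1, -⟩ := rk1 (w := 0) (ψ := 0) hv hφ (by rw [h, zero_vecMulVec])
  exact hv ((smul_eq_zero.1 h1.symm).resolve_left hc)

theorem par {a b : Fin 3 → K} (ha : a ≠ 0) (h : crossProduct a b = 0) : ∃ c : K, b = c • a := by
  by_contra hc
  exact crossProduct_ne_zero_iff_linearIndependent.2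
    ((LinearIndependent.pair_iff' ha).2 fun c H => hc ⟨c, H.symm⟩) h

theorem dim3 {v w φ ψ : Fin 3 → K} (hv : v ≠ 0) (hφ : φ ≠ 0) (h1 : φ ⬝ᵥ v = 0) (h2 : φ ⬝ᵥ w = 0)
    (h3 : ψ ⬝ᵥ v = 0) (h4 : ψ ⬝ᵥ w = 0) : (∃ c : K, w = c • v) ∨ ∃ c : K, ψ = c • φ := by
  by_cases h : crossProduct v w = 0
  · exact .inl (par hv h)
  have key : ∀ x : Fin 3 → K, x ⬝ᵥ v = 0 → x ⬝ᵥ w = 0 → ∃ c : K, x = c • crossProduct v w :=
    fun x a b => par h (by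
      rw [cross_cross_eq_smul_sub_smul, dotProduct_comm v, dotProduct_comm w, a, b]; simp)
  obtain ⟨c, hc⟩ := key φ h1 h2
  obtain ⟨d, hd⟩ := key ψ h3 h4
  have c0 : c ≠ 0 := fun H => hφ (by rw [hc, H, zero_smul])
  exact .inr ⟨d / c, by rw [hc, hd, smul_smul, div_mul_cancel₀ _ c0]⟩

theorem finrank_perp {v : Fin 3 → K} (hv : v ≠ 0) :
    finrank K (LinearMap.ker (dotProductBilin K K v)) = 2 := by
  obtain ⟨w, hw⟩ := H26.exists_dot_eq_one hv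
  have := Module.Dual.finrank_ker_add_one_of_ne_zero (f := dotProductBilin K K v) (fun H => by
    have := LinearMap.congr_fun H w
    rw [dotProductBilin_apply_apply, dotProduct_comm, hw] at this
    exact one_ne_zero this)
  rw [Module.finrank_fin_fun] at this
  omega

theorem card_perp [Fintype K] {v : Fin 3 → K} (hv : v ≠ 0) :
    Nat.card {φ : Fin 3 → K // v ⬝ᵥ φ = 0} = Fintype.card K ^ 2 := by
  rw [← finrank_perp hv, ← Nat.card_eq_fintype_card, ← Module.natCard_eq_pow_finrank]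
  rfl

theorem exists_perp {v : Fin 3 → K} (hv : v ≠ 0) (φ : Fin 3 → K) :
    ∃ ψ : Fin 3 → K, v ⬝ᵥ ψ = 0 ∧ ∀ c : K, ψ ≠ c • φ := by
  by_contra hc
  have h1 : LinearMap.ker (dotProductBilin K K v) ≤ K ∙ φ := fun ψ h => by
    by_contra h'
    exact hc ⟨ψ, h, fun c H => h' (Submodule.mem_span_singleton.2 ⟨c, H.symm⟩)⟩
  have h2 := (Submodule.finrank_mono h1).trans (finrank_span_le_card ({φ} : Set (Fin 3 → K)))
  rw [finrank_perp hv] at h2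
  simp at h2

theorem exists_perp0 {v : Fin 3 → K} (hv : v ≠ 0) : ∃ ψ : Fin 3 → K, ψ ≠ 0 ∧ v ⬝ᵥ ψ = 0 := by
  obtain ⟨ψ, h1, h2⟩ := exists_perp hv 0
  exact ⟨ψ, by simpa using h2 0, h1⟩

theorem cen3 {g : SpecialLinearGroup (Fin 3) K} (hg : g ∈ center (SpecialLinearGroup (Fin 3) K)) :
    g ^ 3 = 1 := by
  obtain ⟨r, h1, h2⟩ := Matrix.SpecialLinearGroup.mem_center_iff.1 hg
  apply Subtype.ext
  rw [Fintype.card_fin] at h1
  rw [Matrix.SpecialLinearGroup.coe_pow, ← h2, ← map_pow, h1, map_one]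
  rfl

variable {π : SpecialLinearGroup (Fin 3) K →* G} {N : Subgroup G} (h : Md π N)
include h

theorem vadd (v : Fin 3 → K) : v + v = 0 := by rw [← two_smul K, h.two, zero_smul]

theorem ts_sq (v φ : Fin 3 → K) : ts v φ * ts v φ = 1 := by
  by_cases e : φ ⬝ᵥ v = 0
  · rw [← ts_add_right e e, vadd h, ts_zero_right]
  · rw [ts_of_ne e, one_mul]

theorem inj2 {s s' : SpecialLinearGroup (Fin 3) K} (h1 : s * s = 1) (h2 : s' * s' = 1)
    (e : π s = π s') : s = s' := by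
  have hz := (h.ker (s * s'⁻¹)).1 (by rw [map_mul, map_inv, e, mul_inv_cancel])
  have h3 := cen3 hz
  have h4 : s * s'⁻¹ * (s * s'⁻¹) = 1 := by
    have h5 := mem_center_iff.1 hz s'
    calc _ = s * s'⁻¹ * (s * s'⁻¹) * (s' * s') := by rw [h2, mul_one]
      _ = s * s'⁻¹ * (s * s'⁻¹ * s') * s' := by group
      _ = s * s'⁻¹ * (s' * (s * s'⁻¹)) * s' := by rw [h5]
      _ = s * s := by group
      _ = 1 := h1
  rw [pow_succ, pow_two, h4, one_mul] at h3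
  exact mul_inv_eq_one.1 h3

theorem inj (v φ w ψ : Fin 3 → K) (h1 : φ ⬝ᵥ v = 0) (h2 : ψ ⬝ᵥ w = 0)
    (e : π (ts v φ) = π (ts w ψ)) : vecMulVec v φ = vecMulVec w ψ := by
  have := congrArg Subtype.val (inj2 h (ts_sq h v φ) (ts_sq h w ψ) e)
  rw [coe_ts h1, coe_ts h2] at this
  exact add_left_cancel this

theorem ts_ne {v φ : Fin 3 → K} (hv : v ≠ 0) (hφ : φ ≠ 0) (e : φ ⬝ᵥ v = 0) : π (ts v φ) ≠ 1 :=
  fun H => vv_eq_zero hv hφ (by
    rw [inj h v φ 0 0 e (zero_dotProduct _) (by rw [H, ts_zero_left, map_one]), zero_vecMulVec])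

theorem of_EP {v φ w : Fin 3 → K} (hv : v ≠ 0) (hφ : φ ≠ 0) (e : φ ⬝ᵥ v = 0)
    (H : π (ts v φ) ∈ EP π w) : ∃ c : K, c ≠ 0 ∧ w = c • v := by
  obtain ⟨ψ, h1, h2⟩ := H
  obtain ⟨c, hc, h3, -⟩ := rk1 hv hφ (inj h _ _ _ _ e h1 h2)
  exact ⟨c, hc, h3⟩

theorem of_FL {v φ ψ : Fin 3 → K} (hv : v ≠ 0) (hφ : φ ≠ 0) (e : φ ⬝ᵥ v = 0)
    (H : π (ts v φ) ∈ FL π ψ) : ∃ c : K, c ≠ 0 ∧ φ = c • ψ := by
  obtain ⟨w, h1, h2⟩ := H
  obtain ⟨c, hc, -, h3⟩ := rk1 hv hφ (inj h _ _ _ _ e h1 h2)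
  exact ⟨c, hc, h3⟩

omit h in
theorem EP_le (v : Fin 3 → K) {c : K} (hc : c ≠ 0) : EP π (c • v) ≤ EP π v := by
  rintro _ ⟨φ, e, rfl⟩
  have e' : φ ⬝ᵥ v = 0 := by
    rw [dotProduct_smul] at e
    exact (smul_eq_zero.1 e).resolve_left hc
  exact ⟨c • φ, by rw [smul_dotProduct, e', smul_zero], by rw [ts_smul e']⟩

omit h in
theorem FL_le (φ : Fin 3 → K) {c : K} (hc : c ≠ 0) : FL π (c • φ) ≤ FL π φ := by
  rintro _ ⟨v, e, rfl⟩
  have e' : φ ⬝ᵥ v = 0 := by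
    rw [smul_dotProduct] at e
    exact (smul_eq_zero.1 e).resolve_left hc
  exact ⟨c • v, by rw [dotProduct_smul, e', smul_zero], by rw [ts_smul e']⟩

omit h in
theorem EP_smul (v : Fin 3 → K) {c : K} (hc : c ≠ 0) : EP π (c • v) = EP π v :=
  le_antisymm (EP_le v hc) (by simpa [smul_smul, hc] using EP_le (π := π) (c • v) (inv_ne_zero hc))

omit h in
theorem FL_smul (v : Fin 3 → K) {c : K} (hc : c ≠ 0) : FL π (c • v) = FL π v :=
  le_antisymm (FL_le v hc) (by simpa [smul_smul, hc] using FL_le (π := π) (c • v) (inv_ne_zero hc))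

theorem eqE (v w : Fin 3 → K) (hw : w ≠ 0) : EP π v = EP π w ↔ ∃ c : K, w = c • v := by
  constructor
  · intro H
    obtain ⟨ψ, h1, h2⟩ := exists_perp0 hw
    rw [dotProduct_comm] at h2
    obtain ⟨c, hc, h3⟩ := of_EP h hw h1 h2 (H.ge ⟨ψ, h2, rfl⟩)
    exact ⟨c⁻¹, by rw [h3, inv_smul_smul₀ hc]⟩
  · rintro ⟨c, rfl⟩
    exact (EP_smul v (left_ne_zero_of_smul hw)).symm

theorem eqF (φ ψ : Fin 3 → K) (hψ : ψ ≠ 0) : FL π φ = FL π ψ ↔ ∃ c : K, ψ = c • φ := by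
  constructor
  · intro H
    obtain ⟨w, h1, h2⟩ := exists_perp0 hψ
    obtain ⟨c, -, h3⟩ := of_FL h h1 hψ h2 (H.ge ⟨w, h2, rfl⟩)
    exact ⟨c, h3⟩
  · rintro ⟨c, rfl⟩
    exact (FL_smul φ (left_ne_zero_of_smul hψ)).symm

theorem neEF (v φ : Fin 3 → K) (hv : v ≠ 0) : EP π v ≠ FL π φ := fun H => by
  obtain ⟨ψ, h1, h2⟩ := exists_perp hv φ
  rw [dotProduct_comm] at h1
  obtain ⟨c, -, h3⟩ := of_FL h hv (by simpa using h2 0) h1 (H.le ⟨ψ, h1, rfl⟩)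
  exact h2 c h3

theorem memZ (v φ : Fin 3 → K) (x : G) (hv : v ≠ 0) (e : φ ⬝ᵥ v = 0) :
    x ∈ EP π v ⊓ FL π φ ↔ ∃ c : K, x = π (ts v (c • φ)) := by
  constructor
  · rintro ⟨⟨ψ, h1, rfl⟩, h2⟩
    by_cases h0 : ψ = 0
    · exact ⟨0, by rw [h0, zero_smul]⟩
    · obtain ⟨c, -, h3⟩ := of_FL h hv h0 h1 h2
      exact ⟨c, by rw [h3]⟩
  · rintro ⟨c, rfl⟩
    exact ⟨⟨_, by rw [smul_dotProduct, e, smul_zero], rfl⟩,
      ⟨c • v, by rw [dotProduct_smul, e, smul_zero], by rw [ts_smul e]⟩⟩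

theorem invol {x : G} (hx : x ∈ N) (h2 : x * x = 1) :
    ∃ v φ : Fin 3 → K, φ ⬝ᵥ v = 0 ∧ x = π (ts v φ) := by
  rw [← h.range] at hx
  obtain ⟨g, rfl⟩ := hx
  have h3 : g ^ 3 * g ^ 3 = 1 := by
    rw [← (Commute.refl g).mul_pow]
    exact cen3 ((h.ker _).1 (by rw [map_mul, h2]))
  have h4 : π (g ^ 3) = π g := by rw [map_pow, pow_succ, pow_two, h2, one_mul]
  generalize g ^ 3 = s at h3 h4
  have h5 : (s : Matrix (Fin 3) (Fin 3) K) * s = 1 := congrArg Subtype.val h3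
  have h6 : ∀ A : Matrix (Fin 3) (Fin 3) K, A + A = 0 := fun A => by
    rw [← two_smul K, h.two, zero_smul]
  have h7 : ((s : Matrix (Fin 3) (Fin 3) K) + 1) * (s + 1) = 0 := by
    rw [add_mul, mul_add, mul_add, h5, mul_one, one_mul, one_mul, add_comm 1, h6]
  have h8 := rank_add_rank_le_card_of_mul_eq_zero h7
  rw [Fintype.card_fin] at h8
  obtain ⟨v, φ, h9⟩ := H26.exists_vecMulVec_of_rank_le_one
    ((s : Matrix (Fin 3) (Fin 3) K) + 1) (by omega)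
  have h10 : (s : Matrix (Fin 3) (Fin 3) K) = 1 + vecMulVec v φ := by
    rw [← h9, add_comm, add_assoc, h6, add_zero]
  have h11 : φ ⬝ᵥ v = 0 := by
    have := s.2
    rw [h10, H26.det_one_add_vecMulVec] at this
    exact add_eq_left.1 this
  exact ⟨v, φ, h11, by rw [← h4, show s = ts v φ from Subtype.ext (h10.trans (coe_ts h11).symm)]⟩

theorem mem_or {v φ w ψ : Fin 3 → K} (hv : v ≠ 0) (hφ : φ ≠ 0) (e : φ ⬝ᵥ v = 0) (e' : ψ ⬝ᵥ w = 0)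
    (hc : π (ts v φ) * π (ts w ψ) = π (ts w ψ) * π (ts v φ)) :
    π (ts w ψ) ∈ EP π v ∨ π (ts w ψ) ∈ FL π φ := by
  by_cases hw : w = 0
  · rw [hw, ts_zero_left, map_one]; exact .inl (one_mem _)
  by_cases hψ : ψ = 0
  · rw [hψ, ts_zero_right, map_one]; exact .inl (one_mem _)
  have h1 := inj2 h (s := ts v φ * ts w ψ * (ts v φ)⁻¹) (by
    rw [conj_mul, ts_sq h, mul_one, mul_inv_cancel]) (ts_sq h w ψ)
    (by rw [map_mul, map_mul, map_inv, hc, mul_inv_cancel_right])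
  rw [mul_inv_eq_iff_eq_mul] at h1
  have h2 := congrArg (fun s : SpecialLinearGroup (Fin 3) K => (s : Matrix (Fin 3) (Fin 3) K)) h1
  rw [Matrix.SpecialLinearGroup.coe_mul, Matrix.SpecialLinearGroup.coe_mul, coe_ts e, coe_ts e', H26.tv_mul_tv, H26.tv_mul_tv, add_right_comm 1, add_right_inj,
    ← smul_vecMulVec, ← smul_vecMulVec] at h2
  have h3 : φ ⬝ᵥ w = 0 := by
    by_contra h3
    obtain ⟨c, hc, h4, h5⟩ := rk1 (smul_ne_zero h3 hv) hψ h2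
    rw [h5, smul_dotProduct, e, smul_zero, zero_smul] at h4
    exact smul_ne_zero hc (smul_ne_zero h3 hv) h4.symm
  have h4 : ψ ⬝ᵥ v = 0 := by
    by_contra h4
    exact vv_eq_zero (smul_ne_zero h4 hw) hφ (by rw [← h2, h3, zero_smul, zero_vecMulVec])
  rcases dim3 hv hφ e h3 h4 e' with ⟨c, rfl⟩ | ⟨c, rfl⟩
  · exact .inl (EP_le v (left_ne_zero_of_smul hw) ⟨ψ, e', rfl⟩)
  · exact .inr (FL_le φ (left_ne_zero_of_smul hψ) ⟨w, e', rfl⟩)

variable [Fintype K]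

theorem vxE {v : Fin 3 → K} (hv : v ≠ 0) : Vx N (Fintype.card K) (EP π v) where
  le := by rintro _ ⟨φ, -, rfl⟩; exact h.range ▸ ⟨_, rfl⟩
  sq := by rintro _ ⟨φ, -, rfl⟩; rw [← map_mul, ts_sq h, map_one]
  card := by
    rw [← card_perp hv]
    refine (Nat.card_eq_of_bijective (fun φ => ⟨π (ts v φ.1), φ.1, dotProduct_comm v φ.1 ▸ φ.2, rfl⟩)
      ⟨fun φ ψ H => ?_, ?_⟩).symm
    · have := inj h v φ.1 v ψ.1 (dotProduct_comm v φ.1 ▸ φ.2) (dotProduct_comm v ψ.1 ▸ ψ.2)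
        (congrArg Subtype.val H)
      by_contra hne
      exact vv_eq_zero hv (sub_ne_zero.2 fun H => hne (Subtype.ext H))
        (by rw [vecMulVec_sub, this, sub_self])
    · rintro ⟨_, φ, e, rfl⟩
      exact ⟨⟨φ, dotProduct_comm φ v ▸ e⟩, rfl⟩

theorem vxF {φ : Fin 3 → K} (hφ : φ ≠ 0) : Vx N (Fintype.card K) (FL π φ) where
  le := by rintro _ ⟨v, -, rfl⟩; exact h.range ▸ ⟨_, rfl⟩
  sq := by rintro _ ⟨v, -, rfl⟩; rw [← map_mul, ts_sq h, map_one]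
  card := by
    rw [← card_perp hφ]
    refine (Nat.card_eq_of_bijective (fun v => ⟨π (ts v.1 φ), v.1, v.2, rfl⟩)
      ⟨fun v w H => ?_, ?_⟩).symm
    · have := inj h v.1 φ w.1 φ v.2 w.2 (congrArg Subtype.val H)
      by_contra hne
      exact vv_eq_zero (sub_ne_zero.2 fun H => hne (Subtype.ext H)) hφ
        (by rw [sub_vecMulVec, this, sub_self])
    · rintro ⟨_, v, e, rfl⟩
      exact ⟨⟨v, e⟩, rfl⟩

theorem vx [Finite G] (X : Subgroup G) : Vx N (Fintype.card K) X ↔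
    (∃ v, v ≠ 0 ∧ X = EP π v) ∨ (∃ φ, φ ≠ 0 ∧ X = FL π φ) := by
  refine ⟨fun hX => ?_, ?_⟩
  swap
  · rintro (⟨v, hv, rfl⟩ | ⟨φ, hφ, rfl⟩)
    exacts [vxE h hv, vxF h hφ]
  obtain ⟨x, hx, hx1⟩ : ∃ x ∈ X, x ≠ 1 := by
    by_contra hc
    have h1 := hX.card
    rw [(eq_bot_iff_forall X).2 fun x hx => by_contra fun H => hc ⟨x, hx, H⟩, card_bot] at h1
    have := Fintype.one_lt_card (α := K)
    nlinarith
  obtain ⟨v, φ, e, rfl⟩ := invol h (hX.le hx) (hX.sq x hx)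
  have hv : v ≠ 0 := fun H => hx1 (by rw [H, ts_zero_left, map_one])
  have hφ : φ ≠ 0 := fun H => hx1 (by rw [H, ts_zero_right, map_one])
  have key : ∀ y ∈ X, y ∈ EP π v ∨ y ∈ FL π φ := fun y hy => by
    obtain ⟨w, ψ, e', rfl⟩ := invol h (hX.le hy) (hX.sq y hy)
    exact mem_or h hv hφ e e' (hX.comm hx hy)
  by_cases h1 : X ≤ EP π v
  · exact .inl ⟨v, hv, eq_of_le_of_card_ge h1 (by rw [hX.card, (vxE h hv).card])⟩
  obtain ⟨a, ha, ha'⟩ := SetLike.not_le_iff_exists.1 h1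
  refine .inr ⟨φ, hφ, eq_of_le_of_card_ge (fun y hy => ?_) (by rw [hX.card, (vxF h hφ).card])⟩
  refine (key y hy).elim (fun hyE => ?_) id
  exact (mul_mem_cancel_left ((key a ha).resolve_left ha')).1 ((key _ (mul_mem ha hy)).resolve_left
    fun H => ha' ((mul_mem_cancel_right hyE).1 H))

theorem adj (v φ : Fin 3 → K) (hv : v ≠ 0) (hφ : φ ≠ 0) :
    Adj N (Fintype.card K) (EP π v) (FL π φ) ↔ φ ⬝ᵥ v = 0 := by
  constructor
  · intro H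
    obtain ⟨_, ⟨⟨ψ, h1, rfl⟩, h2⟩, h3⟩ := H.exists_ne
    obtain ⟨c, hc, rfl⟩ := of_FL h hv (fun H => h3 (by rw [H, ts_zero_right, map_one])) h1 h2
    rw [smul_dotProduct] at h1
    exact (smul_eq_zero.1 h1).resolve_left hc
  · intro e
    exact ⟨vxE h hv, vxF h hφ, neEF h v φ hv, fun H => ts_ne h hv hφ e
      ((eq_bot_iff_forall _).1 H _ ⟨⟨φ, e, rfl⟩, ⟨v, e, rfl⟩⟩)⟩

omit [Fintype K] h in
theorem mv_ne (g : SpecialLinearGroup (Fin 3) K) {v : Fin 3 → K} (hv : v ≠ 0) :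
    (g : Matrix (Fin 3) (Fin 3) K) *ᵥ v ≠ 0 := fun H => hv (by
  rw [← one_mulVec v, ← sl_inv_mul g, ← mulVec_mulVec, H, mulVec_zero])

omit [Fintype K] h in
theorem vm_ne (g : SpecialLinearGroup (Fin 3) K) {v : Fin 3 → K} (hv : v ≠ 0) :
    v ᵥ* (g : Matrix (Fin 3) (Fin 3) K) ≠ 0 := fun H => hv (by
  rw [← vecMul_vecMul_inv g v, H, zero_vecMul])

omit h [Fintype K] in
theorem m0 : M0Stmt.{u} := by
  intro G _ _ K _ _ π N h
  refine ⟨h, inj h, vx h, fun v w _ => eqE h v w, fun φ ψ _ => eqF h φ ψ, fun X φ hφ => ?_,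
    fun X v hv => ?_, adj h, fun X v hv => ?_, fun X φ hφ => ?_, fun v φ hv _ => neEF h v φ hv,
    fun v φ x hv _ => memZ h v φ x hv⟩
  · constructor
    · intro H
      rcases (vx h X).1 H.vl with ⟨v, hv, rfl⟩ | ⟨ψ, hψ, rfl⟩
      · exact ⟨v, hv, (adj h v φ hv hφ).1 H, rfl⟩
      · obtain ⟨_, ⟨⟨w, h1, rfl⟩, h2⟩, h3⟩ := H.exists_ne
        obtain ⟨c, hc, rfl⟩ := of_FL h (fun H => h3 (by rw [H, ts_zero_left, map_one])) hψ h1 h2
        exact (H.ne (FL_smul φ hc)).elim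
    · rintro ⟨v, hv, e, rfl⟩
      exact (adj h v φ hv hφ).2 e
  · constructor
    · intro H
      rcases (vx h X).1 H.vr with ⟨w, hw, rfl⟩ | ⟨φ, hφ, rfl⟩
      · obtain ⟨_, ⟨⟨ψ, h1, rfl⟩, h2⟩, h3⟩ := H.exists_ne
        obtain ⟨c, hc, rfl⟩ := of_EP h hv (fun H => h3 (by rw [H, ts_zero_right, map_one])) h1 h2
        exact (H.ne (EP_smul v hc).symm).elim
      · exact ⟨φ, hφ, (adj h v φ hv hφ).1 H, rfl⟩
    · rintro ⟨φ, hφ, e, rfl⟩
      exact (adj h v φ hv hφ).2 e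
  · constructor
    · rintro ⟨g, hg, rfl⟩
      rw [← h.range] at hg
      obtain ⟨s, rfl⟩ := hg
      exact ⟨_, mv_ne s hv, cj_EP π s v⟩
    · rintro ⟨w, hw, rfl⟩
      obtain ⟨s, rfl⟩ := H26.exists_sl_mulVec_eq hv hw
      exact ⟨π s, h.range ▸ ⟨s, rfl⟩, cj_EP π s v⟩
  · constructor
    · rintro ⟨g, hg, rfl⟩
      rw [← h.range] at hg
      obtain ⟨s, rfl⟩ := hg
      exact ⟨_, vm_ne s⁻¹ hφ, cj_FL π s φ⟩
    · rintro ⟨ψ, hψ, rfl⟩
      obtain ⟨s, rfl⟩ := H26.exists_sl_vecMul_eq hφ hψ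
      exact ⟨π s⁻¹, h.range ▸ ⟨_, rfl⟩, by rw [cj_FL, inv_inv]⟩

end Cfsg.Agent.H60.HlM0
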