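import Cfsg.Agent.H96.D4Defs

/-! Elements of `Y` fused to elements of `W` lie in `W` (Sylow subgroup of `³D₄(q)`). -/

set_option autoImplicit false

namespace Cfsg.Agent.H60.D4G1

open Cfsg.Agent.H97 Cfsg.Agent.H96.VB Cfsg.Agent.H96.CP Cfsg.Agent.H96.DF Subgroup
open scoped commutatorElement

universe u

variable {F K : Type u} [Field F] [Field K] [Algebra F K] {C : Tri F K}

theorem mem_cen {G : Type*} [Group G] {g h : G} : h ∈ centralizer ({g} : Set G) ↔ ⁅h, g⁆ = 1 := by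
  rw [mem_centralizer_singleton_iff, commutatorElement_eq_one_iff_mul_comm]

theorem comm_mem {G : Type*} [Group G] {P : Subgroup G} {x y : G} (hx : x ∈ P) (hy : y ∈ P) :
    ⁅x, y⁆ ∈ P := by
  rw [commutatorElement_def]
  exact mul_mem (mul_mem (mul_mem hx hy) (inv_mem hx)) (inv_mem hy)

theorem map_comm {G : Type*} [Group G] {P : Subgroup G} {f : G → G} (h : HomOn P f) {x y : G}
    (hx : x ∈ P) (hy : y ∈ P) : f ⁅x, y⁆ = ⁅f x, f y⁆ := by
  rw [commutatorElement_def, commutatorElement_def,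
    h.map_mul (mul_mem (mul_mem hx hy) (inv_mem hx)) (inv_mem hy), h.map_conj hx hy, h.map_inv hy]

theorem card_E : Nat.card (E C) = Nat.card F ^ 11 := by
  have e : E C ≃ K × K × K × F × F :=
    { toFun := fun g => (g.1.t, g.1.y, g.1.x, g.1.a, g.1.z)
      invFun := fun p => ⟨⟨p.1, 0, p.2.1, p.2.2.1, p.2.2.2.1, p.2.2.2.2⟩, rfl⟩
      left_inv := fun g => Subtype.ext (U.ext rfl (mem_E.1 g.2).symm rfl rfl rfl rfl)
      right_inv := fun _ => rfl }
  rw [Nat.card_congr e]; simp only [Nat.card_prod, C.card]; ring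

theorem idx [Finite K] {g : U C} (hC : Nat.card F ^ 11 ≤ Nat.card (centralizer ({g} : Set (U C))))
    (f : F × F → U C) (hf : ∀ s s', ⁅(f s)⁻¹ * f s', g⁆ = 1 → s = s') : False := by
  have : Finite F := Finite.of_injective _ (algebraMap F K).injective
  have h1 : Function.Injective fun x : (F × F) × centralizer ({g} : Set (U C)) => f x.1 * x.2.1 := by
    rintro ⟨s, c⟩ ⟨s', c'⟩ h
    have h2 : (f s)⁻¹ * f s' = c.1 * c'.1⁻¹ := by
      simp only at h
      rw [inv_mul_eq_iff_eq_mul, ← mul_assoc, h, mul_inv_cancel_right]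
    obtain rfl := hf s s' (mem_cen.1 (h2 ▸ mul_mem c.2 (inv_mem c'.2)))
    exact Prod.ext rfl (Subtype.ext (mul_left_cancel h))
  have h2 := Nat.card_le_card_of_injective _ h1
  rw [U.card_U, Nat.card_prod, Nat.card_prod] at h2
  have h3 : 1 < Nat.card F := Finite.one_lt_card
  have h4 : Nat.card F ^ 13 ≤ Nat.card F ^ 12 := by
    calc Nat.card F ^ 13 = Nat.card F * Nat.card F * Nat.card F ^ 11 := by ring
      _ ≤ _ := Nat.mul_le_mul_left _ hC
      _ ≤ _ := h2
  exact absurd (Nat.pow_le_pow_iff_right h3 |>.1 h4) (by norm_num)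

theorem exists_cr [Finite K] {y : K} (hy : y ≠ 0) : ∃ s, C.cr y s ≠ 0 := by
  obtain ⟨f, hf⟩ := C.exists_not_fix
  refine ⟨y * f, fun h => hf ?_⟩
  obtain ⟨c, hc, -⟩ := C.cr_eq_zero hy h
  have : f = algebraMap F K c := by
    rw [Algebra.smul_def, mul_comm] at hc
    exact mul_right_cancel₀ hy hc
  rw [this, AlgEquiv.commutes]

/-- Elements with a large centralizer lie in `W`. -/
theorem mem_W_of_card [Finite K] {g : U C}
    (hC : Nat.card F ^ 11 ≤ Nat.card (centralizer ({g} : Set (U C)))) : g ∈ W C := by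
  have hu : g.u = 0 := by
    by_contra hu
    refine idx hC (fun s => xt C (algebraMap F K s.1) * xa C s.2) fun s s' h => ?_
    have h1 := congrArg U.y h
    rw [comm_y] at h1
    have e1 : s.1 = s'.1 := by
      have : g.u • (algebraMap F K s'.1 - algebraMap F K s.1) = 0 := by
        simp [xt, xa] at h1
        rw [smul_sub]; linear_combination h1
      exact ((algebraMap F K).injective (sub_eq_zero.1 ((smul_eq_zero.1 this).resolve_left hu))).symm
    have e2 : (xt C (algebraMap F K s.1) * xa C s.2)⁻¹ * (xt C (algebraMap F K s'.1) * xa C s'.2) =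
        xa C (s'.2 - s.2) := by rw [e1]; simp only [xt, xa]; d4e
    rw [e2, commutatorElement_eq_one_iff_mul_comm] at h
    have h2 := congrArg U.z h
    simp [xa] at h2
    exact Prod.ext e1 (sub_eq_zero.1 (h2.resolve_right hu)).symm
  have ht : g.t = 0 := by
    by_contra ht
    obtain ⟨b, hb⟩ := C.T_onto ht 1
    refine idx hC (fun s => xu C s.1 * xx C (s.2 • b)) fun s s' h => ?_
    have e2 : (xu C s.1 * xx C (s.2 • b))⁻¹ * (xu C s'.1 * xx C (s'.2 • b)) =
        xu C (s'.1 - s.1) * xx C ((s'.2 - s.2) • b) := by simp only [xu, xx]; d4e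
    rw [e2] at h
    have h1 := congrArg U.y h
    have h2 := congrArg U.a h
    rw [comm_y] at h1
    rw [comm_a] at h2
    simp [xu, xx, ht, sub_eq_zero] at h1
    simp [xu, xx, h1, hb, sub_eq_zero] at h2
    exact Prod.ext h1.symm h2
  have hy : g.y = 0 := by
    by_contra hy
    obtain ⟨b, hb⟩ := C.T_onto hy 1
    obtain ⟨s0, hs⟩ := exists_cr (C := C) hy
    refine idx hC (fun s => xt C (s.1 • s0) * xx C (s.2 • b)) fun s s' h => ?_
    have h1 := congrArg U.x h
    rw [comm_x] at h1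
    have e1 : s.1 = s'.1 := by
      have e : (-(s.1 • s0) + s'.1 • s0) = (s'.1 - s.1) • s0 := by rw [sub_smul]; ring
      simp [xt, xx, ht, hu, e, C.smul_cr, C.cr_comm s0, hs, sub_eq_zero] at h1
      exact h1.symm
    have e2 : (xt C (s.1 • s0) * xx C (s.2 • b))⁻¹ * (xt C (s'.1 • s0) * xx C (s'.2 • b)) =
        xx C ((s'.2 - s.2) • b) := by rw [e1]; simp only [xt, xx]; d4e
    rw [e2] at h
    have h2 := congrArg U.z h
    rw [comm_z_Q rfl ht] at h2
    simp [xx, mul_comm b, hb, sub_eq_zero] at h2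
    exact Prod.ext e1 h2
  have hx : g.x = 0 := by
    by_contra hx
    obtain ⟨b, hb⟩ := C.T_onto hx 1
    refine idx hC (fun s => xt C (s.1 • b) * xy C (s.2 • b)) fun s s' h => ?_
    have h1 := congrArg U.a h
    rw [comm_a] at h1
    have e1 : s.1 = s'.1 := by
      have e : (-(s.1 • b) + s'.1 • b) = (s'.1 - s.1) • b := by rw [sub_smul]; ring
      simp [xt, xy, ht, hu, hy, e, mul_comm b, hb, sub_eq_zero] at h1
      exact h1.symm
    have e2 : (xt C (s.1 • b) * xy C (s.2 • b))⁻¹ * (xt C (s'.1 • b) * xy C (s'.2 • b)) =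
        (xy C (s.2 • b))⁻¹ * xy C (s'.2 • b) := by rw [e1]; group
    rw [e2] at h
    have h2 := congrArg U.z h
    rw [comm_z_Q (by simp [xy]) ht] at h2
    have e : (-(s.2 • b) + s'.2 • b) = (s'.2 - s.2) • b := by rw [sub_smul]; ring
    simp [xy, e, mul_comm b, hb, hu, hy, sub_eq_zero] at h2
    exact Prod.ext e1 h2.symm
  exact ⟨ht, hu, hy, hx⟩

theorem exists_tr0 [Finite K] : ∃ a, C.T a = 0 ∧ C.σ a ≠ a := by
  obtain ⟨f, hf⟩ := C.exists_not_fix
  have h0 : ∀ a, C.T (a - C.σ a) = 0 := fun a => by rw [map_sub, C.T_σ, sub_self]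
  by_contra! h
  have h1 := h _ (h0 f)
  have h2 := h _ (h0 (f * f))
  simp only [map_sub, map_mul] at h1 h2
  have h3 : (f - C.σ f) * (C.σ (C.σ f) - f) = 0 := by
    linear_combination h2 - (C.σ f + C.σ (C.σ f)) * h1
  rcases mul_eq_zero.1 h3 with k | k
  · exact hf (sub_eq_zero.1 k).symm
  · have := congrArg C.σ (sub_eq_zero.1 k)
    rw [C.σ3] at this
    exact hf this.symm

theorem exists_br [Finite K] {x : K} (hx : x ≠ 0) : ∃ t t', C.T (t * x) = 0 ∧ C.T (t' * x) = 0 ∧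
    C.T (t * C.sh t') - C.T (C.sh t * t') ≠ 0 := by
  obtain ⟨a, ha, hs⟩ := exists_tr0 (C := C)
  refine ⟨a * x⁻¹, C.σ a * x⁻¹, by rwa [inv_mul_cancel_right₀ hx],
    by rwa [inv_mul_cancel_right₀ hx, C.T_σ], fun h => ?_⟩
  have hm : x⁻¹ ≠ 0 := inv_ne_zero hx
  generalize x⁻¹ = m at h hm
  have e : algebraMap F K (C.T (a * m * C.sh (C.σ a * m)) - C.T (C.sh (a * m) * (C.σ a * m))) =
      m * C.σ m * C.σ (C.σ m) * ((a - C.σ a) * C.σ (a - C.σ a) * C.σ (C.σ (a - C.σ a))) := by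
    d4n; ring
  rw [h, map_zero] at e
  have h1 : a - C.σ a ≠ 0 := sub_ne_zero.2 hs.symm
  exact absurd e.symm (by simp only [mul_eq_zero, map_eq_zero, hm, h1, or_self, not_false_eq_true])

theorem dbl (t t' : K) (u u' : F) : ⁅⁅xt C t, xu C u⁆, ⁅xt C t', xu C u'⁆⁆ =
    xz C (u * u' * (C.T (t * C.sh t') - C.T (C.sh t * t'))) := by
  rw [comm_Q (mem_Q.2 (comm_t _ _)) (mem_Q.2 (comm_t _ _))]
  congr 1
  simp [om, br, comm_x, comm_y, xt, xu]
  ring

theorem conj_xz (s : U C) (z : F) : s * xz C z * s⁻¹ = xz C z := by simp only [xz]; d4e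

/-- The centre consists of double commutators in the centralizer of an element of `Y ∖ W`. -/
theorem key [Finite K] {v : U C} (hv : v ∈ Y C) (hx : v.x ≠ 0) (z : F) :
    ∃ r₁ ∈ centralizer ({v} : Set (U C)), ∃ r₂ ∈ centralizer ({v} : Set (U C)),
    ∃ r₃ ∈ centralizer ({v} : Set (U C)), ∃ r₄ ∈ centralizer ({v} : Set (U C)),
      ⁅⁅r₁, r₂⁆, ⁅r₃, r₄⁆⁆ = xz C z := by
  obtain ⟨ht, hu, hy⟩ := mem_Y.1 hv
  obtain ⟨t, t', h1, h2, h3⟩ := exists_br (C := C) hx
  obtain ⟨s, hs⟩ := C.T_onto hx v.a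
  have k1 : ∀ t, C.T (t * v.x) = 0 → xt C s * xt C t * (xt C s)⁻¹ ∈ centralizer ({v} : Set (U C)) :=
    fun t h => by
      rw [mem_centralizer_singleton_iff]
      ext <;> simp [xt, ht, hu, hy, h]
  have k2 : ∀ u, xt C s * xu C u * (xt C s)⁻¹ ∈ centralizer ({v} : Set (U C)) := fun u => by
    rw [mem_centralizer_singleton_iff]
    ext <;> simp [xt, xu, ht, hu, hy, hs, add_comm]
    ring
  refine ⟨_, k1 t h1, _, k2 1, _, k1 t' h2, _,
    k2 (z / (C.T (t * C.sh t') - C.T (C.sh t * t'))), ?_⟩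
  rw [← conjugate_commutatorElement, ← conjugate_commutatorElement, ← conjugate_commutatorElement, dbl,
    conj_xz, one_mul, div_mul_cancel₀ _ h3]

theorem g1' [Finite K] : G1Stmt C := by
  have : Finite F := Finite.of_injective _ (algebraMap F K).injective
  rintro w ⟨wt, wu, wy, wx⟩ v hv ⟨φ, ψ, hφ, hψ, iφ, iψ, e⟩
  obtain ⟨vt, vu, vy⟩ := mem_Y.1 hv
  by_contra hW
  have hx : v.x ≠ 0 := fun h => hW ⟨vt, vu, vy, h⟩
  have hE : ∀ k ∈ E C, k ∈ centralizer ({w} : Set (U C)) := fun k hk => by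
    rw [mem_centralizer_singleton_iff]
    ext <;> simp [wt, wu, wy, wx, mem_E.1 hk, add_comm]
  have hw : w ∈ centralizer ({w} : Set (U C)) := mem_centralizer_singleton_iff.2 rfl
  have hv' : v ∈ centralizer ({v} : Set (U C)) := mem_centralizer_singleton_iff.2 rfl
  have hg : φ w ∈ W C := by
    refine mem_W_of_card ?_
    rw [← card_E (C := C)]
    refine Nat.card_le_card_of_injective (fun k => ⟨φ k.1, ?_⟩) fun k l h => ?_
    · rw [mem_cen, ← map_comm hφ (hE _ k.2) hw, mem_cen.1 (hE _ k.2), hφ.map_one]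
    · exact Subtype.ext (iφ (hE _ k.2) (hE _ l.2) (congrArg Subtype.val h))
  rw [e] at hg
  obtain ⟨gt, gu, gy, gx⟩ := hg
  have hz : ∀ z, xz C z ∈ centralizer ({v} : Set (U C)) := fun z => by
    rw [mem_centralizer_singleton_iff, ← conj_xz v z]; rw [conj_xz, eq_comm, ← mul_inv_eq_iff_eq_mul, conj_xz]
  by_cases ha : (ψ v).a = 0
  · have h1 : ∀ z, ψ (xz C z) = xz C (ψ (xz C z)).z := fun z => by
      obtain ⟨r₁, h₁, r₂, h₂, r₃, h₃, r₄, h₄, h⟩ := key hv hx z
      rw [← h, map_comm hψ (comm_mem h₁ h₂) (comm_mem h₃ h₄), map_comm hψ h₁ h₂, map_comm hψ h₃ h₄,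
        comm_Q (mem_Q.2 (comm_t _ _)) (mem_Q.2 (comm_t _ _))]
      rfl
    have h2 : Function.Injective fun z => (ψ (xz C z)).z := fun z z' h =>
      congrArg U.z (iψ (hz z) (hz z') (by rw [h1 z, h1 z']; exact congrArg _ h))
    obtain ⟨z, h3⟩ := Finite.surjective_of_injective h2 (ψ v).z
    have h4 : xz C z = v := iψ (hz z) hv' (by
      rw [h1 z]; exact U.ext gt.symm gu.symm gy.symm gx.symm ha.symm h3)
    exact hx (congrArg U.x h4).symm
  · have h1 : ∀ r ∈ centralizer ({v} : Set (U C)), (ψ r).u = 0 := fun r hr => by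
      have h := mem_centralizer_singleton_iff.1 hr
      have h2 : ψ r * ψ v = ψ v * ψ r := by rw [← hψ r hr v hv', h, hψ v hv' r hr]
      have h3 := congrArg U.z h2
      simp [gt, gu, gy, gx, add_comm, ha] at h3
      exact h3
    obtain ⟨r₁, h₁, r₂, h₂, r₃, h₃, r₄, h₄, h⟩ := key hv hx 1
    have h2 : ψ (xz C 1) = ψ 1 := by
      rw [← h, map_comm hψ (comm_mem h₁ h₂) (comm_mem h₃ h₄), map_comm hψ h₁ h₂, map_comm hψ h₃ h₄,
        comm_Q (mem_Q.2 (comm_t _ _)) (mem_Q.2 (comm_t _ _)), hψ.map_one]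
      ext <;> simp [xz, om, br, comm_y, h1 _ h₁, h1 _ h₂, h1 _ h₃, h1 _ h₄]
    exact one_ne_zero (congrArg U.z (iψ (hz 1) (one_mem _) h2))

theorem g1 [Finite K] {p : ℕ} [Fact p.Prime] [CharP F p] : G1Stmt C := g1'

end Cfsg.Agent.H60.D4G1
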