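import Cfsg.Agent.H60.F23Defs
import Cfsg.Agent.H40.F23b

/-! `Fi₂₃` structure, part A: three commuting quaternion pairs on a space over `F₃`. -/

set_option autoImplicit false
set_option linter.style.haveILetI false
set_option linter.unusedSimpArgs false

universe u

namespace Cfsg.Agent.H60.F23

open Subgroup H95.L3 H40.F23

variable {V : Type} [AddCommGroup V] [Module (ZMod 3) V]

/-- Three commuting pairs of anticommuting square roots of `-1`. -/
structure Cl (I J : Fin 3 → Module.End (ZMod 3) V) : Prop where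
  ii : ∀ k v, I k (I k v) = -v
  jj : ∀ k v, J k (J k v) = -v
  ji : ∀ k v, J k (I k v) = -I k (J k v)
  cii : ∀ k l, k ≠ l → ∀ v, I k (I l v) = I l (I k v)
  cij : ∀ k l, k ≠ l → ∀ v, I k (J l v) = J l (I k v)
  cjj : ∀ k l, k ≠ l → ∀ v, J k (J l v) = J l (J k v)

/-- the nilpotent element `i + j + k` -/
def nn (I J : Fin 3 → Module.End (ZMod 3) V) (k : Fin 3) : Module.End (ZMod 3) V := I k + J k + I k * J k

theorem nn_apply (I J : Fin 3 → Module.End (ZMod 3) V) (k : Fin 3) (v : V) :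
    nn I J k v = I k v + J k v + I k (J k v) := rfl

theorem eq_zero_of_neg {v : V} (h : v = -v) : v = 0 := by
  have := three v
  rwa [show v + v = 0 from eq_neg_iff_add_eq_zero.1 h, zero_add] at this

namespace Cl

variable {I J : Fin 3 → Module.End (ZMod 3) V} (h : Cl I J)
include h

theorem nn_nn (k : Fin 3) (v : V) : nn I J k (nn I J k v) = 0 := by
  simp only [nn_apply, map_add, map_neg, h.ii, h.jj, h.ji, neg_neg]
  linear_combination (norm := module) -three v

theorem i_nn (k : Fin 3) (v : V) : I k (nn I J k v) + nn I J k (I k v) = v := by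
  simp only [nn_apply, map_add, map_neg, h.ii, h.jj, h.ji, neg_neg]
  linear_combination (norm := module) -three v

theorem om_i (k : Fin 3) (v : V) : J k (v + nn I J k v) = I k v + nn I J k (I k v) := by
  simp only [nn_apply, map_add, map_neg, h.ii, h.jj, h.ji, neg_neg]
  module

theorem om_j (k : Fin 3) (v : V) : I k (J k (v + nn I J k v)) = J k v + nn I J k (J k v) := by
  simp only [nn_apply, map_add, map_neg, h.ii, h.jj, h.ji, neg_neg]
  module

theorem ci {k l : Fin 3} (e : k ≠ l) (v : V) : nn I J l (I k v) = I k (nn I J l v) := by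
  simp only [nn_apply, map_add, h.cii k l e, h.cij k l e]

theorem cj {k l : Fin 3} (e : k ≠ l) (v : V) : nn I J l (J k v) = J k (nn I J l v) := by
  simp only [nn_apply, map_add, h.cjj k l e, ← h.cij l k e.symm]

theorem cn {k l : Fin 3} (e : k ≠ l) (v : V) : nn I J l (nn I J k v) = nn I J k (nn I J l v) := by
  rw [nn_apply I J k, nn_apply I J k, map_add, map_add, h.ci e, h.cj e, h.ci e, h.cj e]

theorem cube [Nontrivial V] : ∃ w, nn I J 0 (nn I J 1 (nn I J 2 w)) ≠ 0 := by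
  by_contra hc
  push Not at hc
  have h1 : ∀ w, nn I J 1 (nn I J 2 w) = 0 := fun w => by
    rw [← h.i_nn 0 (nn I J 1 (nn I J 2 w)), hc, ← h.ci (by decide), ← h.ci (by decide), hc, map_zero, add_zero]
  have h2 : ∀ w, nn I J 2 w = 0 := fun w => by
    rw [← h.i_nn 1 (nn I J 2 w), h1, ← h.ci (by decide), h1, map_zero, add_zero]
  obtain ⟨v, hv⟩ := exists_ne (0 : V)
  exact hv (by rw [← h.i_nn 2 v, h2, h2, map_zero, add_zero])

theorem big [Nontrivial V] [Finite V] : 3 ^ 8 ≤ Nat.card V := by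
  obtain ⟨w, hw⟩ := h.cube
  have c : Cube 0 (nn I J 0) (nn I J 1) (nn I J 2) w :=
    ⟨h.cn (by decide), h.cn (by decide), h.cn (by decide), h.nn_nn 0, h.nn_nn 1, h.nn_nn 2, by simp, by simp,
      by simp, hw⟩
  rw [← Nat.card_congr (Submodule.topEquiv (R := ZMod 3) (M := V)).toEquiv]
  refine card_ge ⊤ ![w, nn I J 0 w, nn I J 1 w, nn I J 2 w, nn I J 0 (nn I J 1 w), nn I J 0 (nn I J 2 w),
    nn I J 1 (nn I J 2 w), nn I J 0 (nn I J 1 (nn I J 2 w))] (fun _ => trivial) fun x e => ?_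
  obtain ⟨e0, e1, e2, e3, e4, e5, e6, e7⟩ := c.ind (x 0) (x 1) (x 2) (x 3) (x 4) (x 5) (x 6) (x 7) (by
    simpa [Fin.sum_univ_succ, add_assoc] using e)
  intro i; fin_cases i <;> assumption

end Cl

variable {X : Type u} [Group X] {R : Subgroup X} {t s : X} {π : X →* C9} {a i j : Fin 3 → X}
  {ρ : X →* Module.End (ZMod 3) V}

theorem ρ_mul (ρ : X →* Module.End (ZMod 3) V) (x y : X) (v : V) : ρ (x * y) v = ρ x (ρ y v) := by
  rw [map_mul]; rfl

theorem ρ_comm {x y : X} (e : Commute x y) (v : V) : ρ x (ρ y v) = ρ y (ρ x v) := by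
  rw [← ρ_mul, e.eq, ρ_mul]

theorem ρ_inv (ρ : X →* Module.End (ZMod 3) V) (x : X) (v : V) : ρ x⁻¹ (ρ x v) = v := by
  rw [← ρ_mul, inv_mul_cancel, map_one]; rfl

theorem ρ_inv' (ρ : X →* Module.End (ZMod 3) V) (x : X) (v : V) : ρ x (ρ x⁻¹ v) = v := by
  rw [← ρ_mul, mul_inv_cancel, map_one]; rfl

theorem ρ_cj {x y w : X} (e : x * y * x⁻¹ = w) (v : V) : ρ x (ρ y v) = ρ w (ρ x v) := by
  rw [← ρ_mul, ← ρ_mul, ← e, inv_mul_cancel_right]

theorem ρ_eq_zero {x : X} {v : V} (e : ρ x v = 0) : v = 0 := by rw [← ρ_inv ρ x v, e, map_zero]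

/-- A faithful module of order `3 ^ 8`. -/
structure Rp (ρ : X →* Module.End (ZMod 3) V) : Prop where
  inj : Function.Injective ρ
  card : Nat.card V = 3 ^ 8

theorem Rp.finite (r : Rp ρ) : Finite V := Nat.finite_of_card_ne_zero (by rw [r.card]; norm_num)

theorem Rp.nontrivial (r : Rp ρ) : Nontrivial V :=
  haveI := r.finite
  Finite.one_lt_card_iff_nontrivial.1 (by rw [r.card]; norm_num)

namespace Dec

variable (h : Dec R t π a i j s)
include h

theorem normal : R.Normal := h.ker ▸ π.normal_ker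

theorem mem_R {x : X} : x ∈ R ↔ π x = 1 := by rw [← h.ker, MonoidHom.mem_ker]

theorem cen [Finite X] (x : X) : Commute x t :=
  mul_inv_eq_iff_eq_mul.1 (h.xs.comm_z_of_conj_mem fun y hy => h.normal.conj_mem y hy x)

theorem ji (k : Fin 3) : j k * i k = i k * j k * t := by rw [h.ij, mul_assoc, h.xs.zz, mul_one]

theorem irr' (r : Rp ρ) (U : Submodule (ZMod 3) V) (hI : ∀ k, ∀ v ∈ U, ρ (i k) v ∈ U)
    (hJ : ∀ k, ∀ v ∈ U, ρ (j k) v ∈ U) (hT : ∀ v ∈ U, ρ t v = -v) (hU : U ≠ ⊥) : U = ⊤ := by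
  haveI := r.finite
  haveI := Submodule.nontrivial_iff_ne_bot.2 hU
  have c : Cl (fun k => (ρ (i k)).restrict (hI k)) fun k => (ρ (j k)).restrict (hJ k) :=
    ⟨fun k v => Subtype.ext (by
        change ρ (i k) (ρ (i k) v) = -v
        rw [← ρ_mul, h.ii, hT v v.2]),
      fun k v => Subtype.ext (by
        change ρ (j k) (ρ (j k) v) = -v
        rw [← ρ_mul, h.jj, hT v v.2]),
      fun k v => Subtype.ext (by
        change ρ (j k) (ρ (i k) v) = -ρ (i k) (ρ (j k) v)
        rw [← ρ_mul, h.ji, ρ_mul, hT v v.2, map_neg, ρ_mul]),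
      fun k l e v => Subtype.ext (ρ_comm (ρ := ρ) (h.cii k l e) v),
      fun k l e v => Subtype.ext (ρ_comm (ρ := ρ) (h.cij k l e) v),
      fun k l e v => Subtype.ext (ρ_comm (ρ := ρ) (h.cjj k l e) v)⟩
  have := c.big
  rw [← r.card] at this
  exact Submodule.toAddSubgroup_injective (AddSubgroup.eq_top_of_le_card _ this)

theorem ρ_t [Finite X] (r : Rp ρ) (v : V) : ρ t v = -v := by
  have m : ∀ v, v ∈ LinearMap.ker (ρ t + 1) ↔ ρ t v = -v := fun v => by
    rw [LinearMap.mem_ker, ← add_eq_zero_iff_eq_neg]; rfl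
  have k : ∀ x, ∀ v ∈ LinearMap.ker (ρ t + 1), ρ x v ∈ LinearMap.ker (ρ t + 1) := fun x v hv => by
    rw [m] at hv ⊢; rw [← ρ_comm (h.cen x), hv, map_neg]
  refine (m v).1 ((h.irr' r _ (fun _ => k _) (fun _ => k _) (fun v => (m v).1) fun e => h.xs.ne (r.inj ?_)).ge trivial)
  rw [map_one]
  ext w
  have : w - ρ t w ∈ LinearMap.ker (ρ t + 1) := (m _).2 (by
    rw [map_sub, ← ρ_mul, h.xs.zz, map_one, neg_sub]; rfl)
  rw [e, Submodule.mem_bot, sub_eq_zero] at this
  exact this.symm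

theorem irr [Finite X] (r : Rp ρ) (U : Submodule (ZMod 3) V) (hI : ∀ k, ∀ v ∈ U, ρ (i k) v ∈ U)
    (hJ : ∀ k, ∀ v ∈ U, ρ (j k) v ∈ U) (hU : U ≠ ⊥) : U = ⊤ :=
  h.irr' r U hI hJ (fun v _ => h.ρ_t r v) hU

theorem cl [Finite X] (r : Rp ρ) : Cl (fun k => ρ (i k)) fun k => ρ (j k) :=
  ⟨fun k v => by rw [← ρ_mul, h.ii, h.ρ_t r], fun k v => by rw [← ρ_mul, h.jj, h.ρ_t r],
    fun k v => by rw [← ρ_mul, h.ji, ρ_mul, h.ρ_t r, map_neg, ρ_mul],
    fun k l e v => ρ_comm (h.cii k l e) v, fun k l e v => ρ_comm (h.cij k l e) v,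
    fun k l e v => ρ_comm (h.cjj k l e) v⟩

theorem ak (k : Fin 3) : a k * (i k * j k) * (a k)⁻¹ = i k := by
  rw [← conj_mul, h.ai, h.aj, ← mul_assoc, h.ji, mul_assoc, mul_assoc, ← h.xs.cen _ (h.jR k), ← mul_assoc (j k), h.jj,
    h.xs.zz, mul_one]

/-- the elements `a k` are quadratic -/
theorem ρ_a [Finite X] (r : Rp ρ) (k : Fin 3) (v : V) :
    ρ (a k) v = v + nn (fun k => ρ (i k)) (fun k => ρ (j k)) k v := by
  have c := h.cl r
  set n := nn (fun k => ρ (i k)) (fun k => ρ (j k)) k with hn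
  have m : ∀ v, v ∈ LinearMap.ker (ρ (a k) - (1 + n)) ↔ ρ (a k) v = v + n v := fun v => by
    rw [LinearMap.mem_ker, ← sub_eq_zero (a := ρ (a k) v)]; rfl
  have an : ∀ v, n (ρ (a k) v) = ρ (a k) (n v) := fun v => by
    rw [hn, nn_apply, nn_apply, map_add, map_add, ρ_cj (h.ai k), ρ_cj (h.aj k), ← ρ_mul ρ (i k) (j k) v,
      ρ_cj (h.ak k), ρ_mul]
    abel
  refine (m v).1 ((h.irr r _ (fun l v hv => ?_) (fun l v hv => ?_) fun e => ?_).ge trivial)
  · rw [m] at hv ⊢
    by_cases e : l = k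
    · rw [e, ρ_cj (h.ai k), hv]; exact c.om_i k v
    · rw [ρ_comm (h.cai k l (Ne.symm e)), hv, map_add]; exact congrArg _ (c.ci e v).symm
  · rw [m] at hv ⊢
    by_cases e : l = k
    · rw [e, ρ_cj (h.aj k), hv, ρ_mul]; exact c.om_j k v
    · rw [ρ_comm (h.caj k l (Ne.symm e)), hv, map_add]; exact congrArg _ (c.cj e v).symm
  · have z : ∀ w, n w = 0 → ρ (a k) w = w → w = 0 := fun w e1 e2 =>
      (Submodule.mem_bot _).1 (e.le ((m w).2 (by rw [e1, e2, add_zero])))
    have z' : ∀ w, n w = 0 → w = 0 := fun w e1 => by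
      have e3 : ρ (a k) (ρ (a k) (ρ (a k) w)) = w := by
        rw [← ρ_mul, ← ρ_mul, ← pow_three', h.a3, map_one]; rfl
      have e4 := z (w + ρ (a k) w + ρ (a k) (ρ (a k) w)) (by simp [an, e1]) (by
        rw [map_add, map_add, e3]; abel)
      have e5 := z (ρ (a k) w - w) (by simp [an, e1]) (by
        rw [map_sub]; linear_combination (norm := module) e4 - three (ρ (a k) w))
      exact z w e1 (sub_eq_zero.1 e5)
    haveI := r.nontrivial
    obtain ⟨w, hw⟩ := exists_ne (0 : V)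
    exact hw (z' w (z' _ (c.nn_nn k w)))

end Dec

end Cfsg.Agent.H60.F23
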