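import Cfsg.Agent.H60.F23A

/-! `Fi₂₃` structure, part B: the four weight spaces. -/

set_option autoImplicit false
set_option linter.style.haveILetI false
set_option linter.unusedSimpArgs false
set_option linter.unusedSectionVars false

universe u

namespace Cfsg.Agent.H60.F23

open Subgroup H95.L3 H40.F23

variable {V : Type} [AddCommGroup V] [Module (ZMod 3) V]
  {X : Type u} [Group X] {R : Subgroup X} {t s : X} {π : X →* C9} {a i j : Fin 3 → X}
  {ρ : X →* Module.End (ZMod 3) V} {x y : X} {α β : Fin 4 → ZMod 3}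

/-- eigenspaces -/
def Ev (ρ : X →* Module.End (ZMod 3) V) (x : X) (c : ZMod 3) : Submodule (ZMod 3) V :=
  LinearMap.ker (ρ x - c • 1)

theorem mem_Ev {c : ZMod 3} {v : V} : v ∈ Ev ρ x c ↔ ρ x v = c • v := by
  rw [Ev, LinearMap.mem_ker, ← sub_eq_zero (a := ρ x v)]; rfl

theorem card_le_of [Finite V] {A B : Submodule (ZMod 3) V} (y : X) (e : ∀ v ∈ A, ρ y v ∈ B) :
    Nat.card A ≤ Nat.card B :=
  Nat.card_le_card_of_injective (fun v : A => (⟨ρ y v, e v v.2⟩ : B)) fun v w e => Subtype.ext (by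
    rw [← ρ_inv ρ y v, show ρ y v = ρ y w from congrArg Subtype.val e, ρ_inv])

theorem card_Ev_cj [Finite V] (y x : X) (c : ZMod 3) :
    Nat.card (Ev ρ (y * x * y⁻¹) c) = Nat.card (Ev ρ x c) :=
  le_antisymm (card_le_of (ρ := ρ) y⁻¹ fun v hv => mem_Ev.2 (by
      rw [← ρ_cj (show y⁻¹ * (y * x * y⁻¹) * y⁻¹⁻¹ = x by group), mem_Ev.1 hv, map_smul]))
    (card_le_of (ρ := ρ) y fun v hv => mem_Ev.2 (by rw [← ρ_cj rfl, mem_Ev.1 hv, map_smul]))

theorem sub_eq_of_le [Finite V] {A B : Submodule (ZMod 3) V} (e : A ≤ B) (c : Nat.card B ≤ Nat.card A) : A = B :=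
  Submodule.toAddSubgroup_injective (AddSubgroup.eq_of_le_of_card_ge e c)

/-- first sign -/
def e1 : Fin 4 → ZMod 3 := ![1, 1, -1, -1]
/-- second sign -/
def e2 : Fin 4 → ZMod 3 := ![1, -1, 1, -1]
/-- the sign pattern of a reflection -/
def dl (n m : Fin 4) : ZMod 3 := if m = n then -1 else 1

/-- the weight spaces -/
def W (ρ : X →* Module.End (ZMod 3) V) (i j : Fin 3 → X) (n : Fin 4) : Submodule (ZMod 3) V :=
  Ev ρ (i 0 * i 1) (e1 n) ⊓ Ev ρ (j 0 * j 1) (e2 n)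

theorem mem_W {n : Fin 4} {v : V} :
    v ∈ W ρ i j n ↔ ρ (i 0 * i 1) v = e1 n • v ∧ ρ (j 0 * j 1) v = e2 n • v := by
  rw [W, Submodule.mem_inf, mem_Ev, mem_Ev]

/-- `x` is a scalar on each weight space -/
def Pat (ρ : X →* Module.End (ZMod 3) V) (i j : Fin 3 → X) (x : X) (α : Fin 4 → ZMod 3) : Prop :=
  ∀ n, ∀ v ∈ W ρ i j n, ρ x v = α n • v

/-- `x` permutes the weight spaces -/
def Mv (ρ : X →* Module.End (ZMod 3) V) (i j : Fin 3 → X) (x : X) (σ : Fin 4 → Fin 4) : Prop :=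
  ∀ n, ∀ v ∈ W ρ i j n, ρ x v ∈ W ρ i j (σ n)

theorem Pat.mul (p : Pat ρ i j x α) (q : Pat ρ i j y β) : Pat ρ i j (x * y) (α * β) := fun n v hv => by
  rw [ρ_mul, q n v hv, map_smul, p n v hv, smul_smul, mul_comm]; rfl

theorem pat_one : Pat ρ i j 1 1 := fun n v _ => by rw [map_one]; simp

theorem Pat.pow (p : Pat ρ i j x α) (k : ℕ) : Pat ρ i j (x ^ k) (α ^ k) := by
  induction k with
  | zero => simpa using pat_one
  | succ k ih => rw [pow_succ, pow_succ]; exact ih.mul p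

theorem pat_f : Pat ρ i j (i 0 * i 1) e1 := fun _ _ hv => (mem_W.1 hv).1
theorem pat_g : Pat ρ i j (j 0 * j 1) e2 := fun _ _ hv => (mem_W.1 hv).2

theorem Pat.cj {σ : Fin 4 → Fin 4} (p : Pat ρ i j x α) (m : Mv ρ i j y σ) : Pat ρ i j (y⁻¹ * x * y) (α ∘ σ) :=
  fun n v hv => by rw [ρ_mul, ρ_mul, p _ _ (m n v hv), map_smul, ρ_inv]; rfl

theorem Mv.mul {σ τ : Fin 4 → Fin 4} (m : Mv ρ i j x σ) (m' : Mv ρ i j y τ) : Mv ρ i j (x * y) (σ ∘ τ) :=
  fun n v hv => by rw [ρ_mul]; exact m _ _ (m' n v hv)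

theorem mv_of {σ : Fin 4 → Fin 4} {c d : ZMod 3} (h1 : ∀ v, ρ (i 0 * i 1) (ρ x v) = c • ρ x (ρ (i 0 * i 1) v))
    (h2 : ∀ v, ρ (j 0 * j 1) (ρ x v) = d • ρ x (ρ (j 0 * j 1) v))
    (h3 : ∀ n, e1 (σ n) = c * e1 n ∧ e2 (σ n) = d * e2 n) : Mv ρ i j x σ := fun n v hv =>
  mem_W.2 ⟨by rw [h1, (mem_W.1 hv).1, map_smul, smul_smul, (h3 n).1],
    by rw [h2, (mem_W.1 hv).2, map_smul, smul_smul, (h3 n).2]⟩

theorem mv_id (h1 : Commute x (i 0 * i 1)) (h2 : Commute x (j 0 * j 1)) : Mv ρ i j x id :=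
  mv_of (c := 1) (d := 1) (fun v => by rw [one_smul, ρ_comm h1]) (fun v => by rw [one_smul, ρ_comm h2]) (by simp)

theorem W_disj {n m : Fin 4} (e : n ≠ m) {v : V} (h1 : v ∈ W ρ i j n) (h2 : v ∈ W ρ i j m) : v = 0 := by
  have k : ∀ n m : Fin 4, n ≠ m → e1 n - e1 m ≠ 0 ∨ e2 n - e2 m ≠ 0 := by decide
  haveI : Fact (Nat.Prime 3) := ⟨by norm_num⟩
  rcases k n m e with e | e <;> refine (smul_eq_zero.1 ?_).resolve_left e <;> rw [sub_smul, sub_eq_zero]
  · exact (mem_W.1 h1).1.symm.trans (mem_W.1 h2).1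
  · exact (mem_W.1 h1).2.symm.trans (mem_W.1 h2).2

theorem W_orth {b : V →ₗ[ZMod 3] V →ₗ[ZMod 3] ZMod 3} (hb : ∀ x v w, b (ρ x v) (ρ x w) = b v w) {n m : Fin 4}
    (e : n ≠ m) {v w : V} (h1 : v ∈ W ρ i j n) (h2 : w ∈ W ρ i j m) : b v w = 0 := by
  have k : ∀ n m : Fin 4, n ≠ m → ∀ c : ZMod 3, e1 m * (e1 n * c) = c → e2 m * (e2 n * c) = c → c = 0 := by decide
  have k1 := hb (i 0 * i 1) v w
  have k2 := hb (j 0 * j 1) v w
  rw [(mem_W.1 h1).1, (mem_W.1 h2).1] at k1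
  rw [(mem_W.1 h1).2, (mem_W.1 h2).2] at k2
  simp only [map_smul, LinearMap.smul_apply, smul_eq_mul] at k1 k2
  exact k n m e _ k1 k2

/-- the projections -/
def pj (ρ : X →* Module.End (ZMod 3) V) (i j : Fin 3 → X) (n : Fin 4) (v : V) : V :=
  v + e1 n • ρ (i 0 * i 1) v + e2 n • ρ (j 0 * j 1) v + (e1 n * e2 n) • ρ (i 0 * i 1) (ρ (j 0 * j 1) v)

theorem pj_sum (v : V) : ∑ n, pj ρ i j n v = v := by
  simp only [pj, Fin.sum_univ_four, e1, e2, Matrix.cons_val_zero, Matrix.cons_val_one, Matrix.cons_val]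
  linear_combination (norm := module) three v

theorem pj_add (n : Fin 4) (v w : V) : pj ρ i j n (v + w) = pj ρ i j n v + pj ρ i j n w := by
  simp only [pj, map_add]; module

theorem pj_of {n m : Fin 4} {v : V} (hv : v ∈ W ρ i j m) : pj ρ i j n v = if m = n then v else 0 := by
  have k : ∀ n m : Fin 4, 1 + e1 n * e1 m + e2 n * e2 m + e1 n * e2 n * (e2 m * e1 m) = if m = n then 1 else 0 := by
    decide
  have : pj ρ i j n v = (1 + e1 n * e1 m + e2 n * e2 m + e1 n * e2 n * (e2 m * e1 m)) • v := by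
    rw [pj, (mem_W.1 hv).2, map_smul, (mem_W.1 hv).1]; module
  rw [this, k]; split_ifs <;> simp

namespace Dec

variable [Finite X] (h : Dec R t π a i j s)
include h

theorem ff : i 0 * i 1 * (i 0 * i 1) = 1 := by
  rw [(h.cii 0 1 (by decide)).symm.mul_mul_mul_comm, h.ii, h.ii, h.xs.zz]

theorem gg : j 0 * j 1 * (j 0 * j 1) = 1 := by
  rw [(h.cjj 0 1 (by decide)).symm.mul_mul_mul_comm, h.jj, h.jj, h.xs.zz]

theorem fg_eq : i 0 * i 1 * (j 0 * j 1) = i 0 * j 0 * (i 1 * j 1) := (h.cij 1 0 (by decide)).mul_mul_mul_comm _ _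

theorem fg : Commute (i 0 * i 1) (j 0 * j 1) := by
  change _ = _
  rw [h.fg_eq, (h.cij 0 1 (by decide)).symm.mul_mul_mul_comm, h.ji, h.ji, (h.cen _).symm.mul_mul_mul_comm, h.xs.zz,
    mul_one]

theorem pj_mem (n : Fin 4) (v : V) : pj ρ i j n v ∈ W ρ i j n := by
  have k : ∀ n, e1 n * e1 n = 1 ∧ e2 n * e2 n = 1 := by decide
  have f2 : ∀ v, ρ (i 0 * i 1) (ρ (i 0 * i 1) v) = v := fun v => by rw [← ρ_mul, h.ff, map_one]; rfl
  have g2 : ∀ v, ρ (j 0 * j 1) (ρ (j 0 * j 1) v) = v := fun v => by rw [← ρ_mul, h.gg, map_one]; rfl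
  refine mem_W.2 ⟨?_, ?_⟩
  · simp only [pj, map_add, map_smul, f2, smul_add, smul_smul, ← mul_assoc, (k n).1]; module
  · simp only [pj, map_add, map_smul, ← ρ_comm h.fg, g2, smul_add, smul_smul, mul_left_comm (e2 n), (k n).2,
      mul_comm (e2 n)]
    module

theorem ind4 {p : V → Prop} (h0 : ∀ n, ∀ v ∈ W ρ i j n, p v) (h1 : ∀ v w, p v → p w → p (v + w)) (v : V) : p v := by
  rw [← pj_sum (ρ := ρ) (i := i) (j := j) v, Fin.sum_univ_four]
  exact h1 _ _ (h1 _ _ (h1 _ _ (h0 _ _ (h.pj_mem 0 v)) (h0 _ _ (h.pj_mem 1 v))) (h0 _ _ (h.pj_mem 2 v)))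
    (h0 _ _ (h.pj_mem 3 v))

variable (r : Rp ρ)
include r

theorem pat_eq (p : Pat ρ i j x α) (q : Pat ρ i j y α) : x = y :=
  r.inj (LinearMap.ext (h.ind4 (fun n v hv => (p n v hv).trans (q n v hv).symm) fun v w e e' => by
    rw [map_add, map_add, e, e']))

theorem pat_t : Pat ρ i j t (-1) := fun n v _ => by rw [h.ρ_t r]; simp

theorem anti (e : x * y = y * x * t) (v : V) : ρ x (ρ y v) = (-1 : ZMod 3) • ρ y (ρ x v) := by
  rw [← ρ_mul, e, ρ_mul, h.ρ_t r, map_neg, ρ_mul, neg_smul, one_smul]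

theorem mv_i : Mv ρ i j (i 0) ![1, 0, 3, 2] :=
  mv_of (c := 1) (d := -1) (fun v => by
      rw [one_smul, ρ_comm ((Commute.refl _).mul_right (h.cii 0 1 (by decide)))])
    (h.anti r (by rw [mul_assoc, ← (h.cij 0 1 (by decide)).eq, ← mul_assoc, h.ji, mul_assoc, ← h.cen, ← mul_assoc,
      mul_assoc (i 0)])) (by decide)

theorem mv_j : Mv ρ i j (j 0) ![2, 3, 0, 1] :=
  mv_of (c := -1) (d := 1)
    (h.anti r (by rw [mul_assoc, (h.cij 1 0 (by decide)).eq, ← mul_assoc, h.ij, mul_assoc, ← h.cen, ← mul_assoc,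
      mul_assoc (j 0)]))
    (fun v => by rw [one_smul, ρ_comm ((Commute.refl _).mul_right (h.cjj 0 1 (by decide)))]) (by decide)

theorem card_W (n : Fin 4) : Nat.card (W ρ i j n) = 9 := by
  haveI := r.finite
  have k1 : ∀ n, Nat.card (W ρ i j n) ≤ Nat.card (W ρ i j (![1, 0, 3, 2] n)) := fun n => card_le_of _ (h.mv_i r n)
  have k2 : ∀ n, Nat.card (W ρ i j n) ≤ Nat.card (W ρ i j (![2, 3, 0, 1] n)) := fun n => card_le_of _ (h.mv_j r n)
  have e1 : Nat.card (W ρ i j 1) = Nat.card (W ρ i j 0) := le_antisymm (k1 1) (k1 0)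
  have e2 : Nat.card (W ρ i j 2) = Nat.card (W ρ i j 0) := le_antisymm (k2 2) (k2 0)
  have e3 : Nat.card (W ρ i j 3) = Nat.card (W ρ i j 0) := (le_antisymm (k2 3) (k2 1)).trans e1
  have e : V ≃ ∀ n, W ρ i j n :=
    ⟨fun v n => ⟨pj ρ i j n v, h.pj_mem n v⟩, fun w => ∑ n, (w n : V), fun v => pj_sum v, fun w => funext fun n =>
      Subtype.ext (by
        change pj ρ i j n (∑ n, (w n : V)) = w n
        rw [Fin.sum_univ_four, pj_add, pj_add, pj_add, pj_of (w 0).2, pj_of (w 1).2, pj_of (w 2).2, pj_of (w 3).2]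
        fin_cases n <;> simp)⟩
  have c := Nat.card_congr e
  rw [r.card, Nat.card_pi, Fin.prod_univ_four, e1, e2, e3] at c
  have e0 : Nat.card (W ρ i j 0) = 9 := Nat.pow_left_injective (n := 4) (by norm_num) (by
    change _ ^ 4 = 9 ^ 4
    rw [show 9 ^ 4 = 3 ^ 8 by norm_num, c]; ring)
  fin_cases n
  exacts [e0, e1.trans e0, e2.trans e0, e3.trans e0]

theorem exists_W (n : Fin 4) : ∃ v ∈ W ρ i j n, v ≠ 0 := by
  haveI := r.finite
  have : Nontrivial (W ρ i j n) := Finite.one_lt_card_iff_nontrivial.1 (by rw [h.card_W r]; norm_num)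
  obtain ⟨v, hv⟩ := exists_ne (0 : W ρ i j n)
  exact ⟨v, v.2, fun e => hv (Subtype.ext e)⟩

theorem pat_uniq (p : Pat ρ i j x α) (q : Pat ρ i j x β) : α = β := funext fun n => by
  haveI : Fact (Nat.Prime 3) := ⟨by norm_num⟩
  obtain ⟨v, hv, h0⟩ := h.exists_W r n
  exact smul_left_injective _ h0 ((p n v hv).symm.trans (q n v hv))

theorem pat_ne (p : Pat ρ i j x α) (n : Fin 4) : α n ≠ 0 := fun e => by
  obtain ⟨v, hv, h0⟩ := h.exists_W r n
  exact h0 (ρ_eq_zero (by rw [p n v hv, e, zero_smul]))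

omit r in
theorem i2_f : Commute (i 2) (i 0 * i 1) := (h.cii 2 0 (by decide)).mul_right (h.cii 2 1 (by decide))
omit r in
theorem i2_g : Commute (i 2) (j 0 * j 1) := (h.cij 2 0 (by decide)).mul_right (h.cij 2 1 (by decide))
omit r in
theorem j2_f : Commute (j 2) (i 0 * i 1) := (h.cij 0 2 (by decide)).symm.mul_right (h.cij 1 2 (by decide)).symm
omit r in
theorem j2_g : Commute (j 2) (j 0 * j 1) := (h.cjj 2 0 (by decide)).mul_right (h.cjj 2 1 (by decide))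

/-- an element centralizing the four group and the third factor is a scalar on each weight space -/
theorem sc (h1 : Commute x (i 0 * i 1)) (h2 : Commute x (j 0 * j 1)) (h3 : Commute x (i 2)) (h4 : Commute x (j 2)) :
    ∃ α, Pat ρ i j x α := by
  have k0 : ∀ p q : ZMod 3, p * p + q * q = 0 → p = 0 ∧ q = 0 := by decide
  haveI : Fact (Nat.Prime 3) := ⟨by norm_num⟩
  haveI := r.finite
  have c := h.cl r
  suffices ∀ n, ∃ c : ZMod 3, ∀ v ∈ W ρ i j n, ρ x v = c • v from let ⟨α, e⟩ := Classical.axiomOfChoice this; ⟨α, e⟩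
  intro n
  obtain ⟨u, hu, h0⟩ := h.exists_W r n
  have mK := mv_id (ρ := ρ) h.i2_f h.i2_g n
  have mL := mv_id (ρ := ρ) h.j2_f h.j2_g n
  have li : ∀ p q : ZMod 3, p • u + q • ρ (i 2) u = 0 → p = 0 ∧ q = 0 := fun p q e => by
    have e' := congrArg (ρ (i 2)) e
    rw [map_add, map_smul, map_smul, c.ii, map_zero] at e'
    exact k0 p q ((smul_eq_zero.1 (by linear_combination (norm := module) p • e - q • e')).resolve_right h0)
  have sp : ∀ v ∈ W ρ i j n, ∃ p q : ZMod 3, v = p • u + q • ρ (i 2) u := fun v hv => by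
    obtain ⟨p, e⟩ := (Function.Injective.bijective_of_nat_card_le (f := fun p : ZMod 3 × ZMod 3 =>
      (⟨p.1 • u + p.2 • ρ (i 2) u, add_mem (Submodule.smul_mem _ _ hu) (Submodule.smul_mem _ _ (mK u hu))⟩ :
        W ρ i j n)) (fun p q e => by
        have := li (p.1 - q.1) (p.2 - q.2) (by
          have e' : p.1 • u + p.2 • ρ (i 2) u = q.1 • u + q.2 • ρ (i 2) u := congrArg Subtype.val e
          linear_combination (norm := module) e')
        exact Prod.ext (sub_eq_zero.1 this.1) (sub_eq_zero.1 this.2)) (by rw [h.card_W r]; simp)).2 ⟨v, hv⟩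
    exact ⟨p.1, p.2, (congrArg Subtype.val e).symm⟩
  obtain ⟨p, q, e⟩ := sp _ (mv_id (ρ := ρ) h1 h2 n u hu)
  have k : ∀ v ∈ W ρ i j n, ρ x v = p • v + q • ρ (i 2) v := fun v hv => by
    obtain ⟨p', q', rfl⟩ := sp v hv
    simp only [map_add, map_smul, ρ_comm h3, e]; module
  have k1 := k _ (mL u hu)
  rw [ρ_comm h4, e, map_add, map_smul, map_smul, c.ji] at k1
  have k2 : q • ρ (i 2) (ρ (j 2) u) = 0 := eq_zero_of_neg (by linear_combination (norm := module) -k1)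
  obtain rfl := (smul_eq_zero.1 k2).resolve_right fun e => h0 (ρ_eq_zero (ρ_eq_zero e))
  exact ⟨p, fun v hv => by rw [k v hv, zero_smul, add_zero]⟩

end Dec

end Cfsg.Agent.H60.F23
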