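import Cfsg.Agent.H60.F23B
import Cfsg.Agent.H95.L3Mod
import Cfsg.Agent.H23.X3f

/-! `Fi₂₃` structure, part C: the reflection `d` and its centralizer. -/

set_option autoImplicit false
set_option linter.style.haveILetI false
set_option linter.unusedSimpArgs false
set_option linter.unusedSectionVars false

universe u

namespace Cfsg.Agent.H60.F23

open Subgroup H95.L3 H40.F23

variable {V : Type} [AddCommGroup V] [Module (ZMod 3) V]
  {X : Type u} [Group X] [Finite X] {R H : Subgroup X} {t s d : X} {π : X →* C9} {a i j : Fin 3 → X}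
  {ρ : X →* Module.End (ZMod 3) V} {x y : X} {α β : Fin 4 → ZMod 3}

theorem c9_ct : ∀ c : C9, c * ct = ct * c → c ^ 12 = 1 ∧ (c ^ 4 = 1 → c ∈ RR) ∧ ∀ r ∈ RR, c * r * c⁻¹ ∈ RR := by
  decide +kernel

theorem c9_gen : ∀ r ∈ lR, ∃ u ∈ lR, ∃ v ∈ lR, r = u * ce * u⁻¹ * ce⁻¹ * (v * ce * v⁻¹ * ce⁻¹) := by
  decide +kernel

namespace Dec

variable (h : Dec R t π a i j s)
include h

theorem π_t : π t = 1 := h.mem_R.1 h.xs.mem

theorem cj_t (x y : X) : x * t * y * (x * t)⁻¹ = x * y * x⁻¹ := by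
  rw [mul_assoc x, ← (h.cen y).eq]; group

theorem twist : Dec R t π a i j (s * t) :=
  { h with
    πs := by rw [map_mul, h.πs, h.π_t, mul_one]
    ss := by rw [(h.cen s).symm.mul_mul_mul_comm, h.xs.zz, mul_one]; exact h.ss
    sa0 := by rw [h.cj_t, h.sa0]
    sa2 := h.sa2.mul_left (h.cen _).symm
    si0 := by rw [h.cj_t, h.si0]
    sj0 := by rw [h.cj_t, h.sj0]
    si2 := h.si2.mul_left (h.cen _).symm
    sj2 := h.sj2.mul_left (h.cen _).symm }

theorem back (e : s * x * s⁻¹ = y) : s * y * s⁻¹ = x := by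
  have : Commute (s * s) x := by
    rcases h.ss with e | e <;> rw [e]
    exacts [Commute.one_left _, (h.cen _).symm]
  rw [← e]
  calc _ = s * s * x * (s * s)⁻¹ := by group
    _ = x := by rw [this.eq, mul_inv_cancel_right]

theorem s_f : Commute s (i 0 * i 1) := mul_inv_eq_iff_eq_mul.1 (by
  rw [← conj_mul, h.si0, h.back h.si0, (h.cii 0 1 (by decide)).eq])

theorem s_g : Commute s (j 0 * j 1) := mul_inv_eq_iff_eq_mul.1 (by
  rw [← conj_mul, h.sj0, h.back h.sj0, (h.cjj 0 1 (by decide)).eq])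

theorem s_c : Commute s (a 0 * a 1) := mul_inv_eq_iff_eq_mul.1 (by
  rw [← conj_mul, h.sa0, h.back h.sa0, (h.aa 0 1).eq])

theorem c_cj {u v u' v' : X} (e0 : a 0 * u * (a 0)⁻¹ = u') (e1 : a 1 * v * (a 1)⁻¹ = v') (c0 : Commute (a 1) u)
    (c1 : Commute (a 0) v') : a 0 * a 1 * (u * v) * (a 0 * a 1)⁻¹ = u' * v' := by
  calc _ = a 0 * (a 1 * u * (a 1)⁻¹) * (a 0)⁻¹ * (a 0 * (a 1 * v * (a 1)⁻¹) * (a 0)⁻¹) := by group
    _ = _ := by rw [c0.eq, e1, c1.eq, mul_inv_cancel_right, mul_inv_cancel_right, e0]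

theorem c_f : a 0 * a 1 * (i 0 * i 1) * (a 0 * a 1)⁻¹ = j 0 * j 1 :=
  h.c_cj (h.ai 0) (h.ai 1) (h.cai 1 0 (by decide)) (h.caj 0 1 (by decide))

theorem c_g : a 0 * a 1 * (j 0 * j 1) * (a 0 * a 1)⁻¹ = i 0 * i 1 * (j 0 * j 1) := h.fg_eq ▸
  h.c_cj (h.aj 0) (h.aj 1) (h.caj 1 0 (by decide)) ((h.cai 0 1 (by decide)).mul_right (h.caj 0 1 (by decide)))

theorem mv_c : Mv ρ i j (a 0 * a 1) ![0, 2, 3, 1] := fun n v hv => by
  have k : ∀ n, e2 (![0, 2, 3, 1] n) = e1 n ∧ e1 (![0, 2, 3, 1] n) = e1 n * e2 n ∧ e1 n * e1 n = 1 := by decide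
  have k1 := ρ_cj (ρ := ρ) h.c_f v
  have k2 := ρ_cj (ρ := ρ) h.c_g v
  rw [(mem_W.1 hv).1, map_smul] at k1
  rw [(mem_W.1 hv).2, map_smul, ρ_mul ρ (i 0 * i 1), ← k1, map_smul] at k2
  exact mem_W.2 ⟨by rw [(k n).2.1, ← smul_smul, k2, smul_smul, (k n).2.2, one_smul], by rw [(k n).1, k1]⟩

theorem s_notMem : s ∉ R := fun e => ct_ne (h.πs.symm.trans (h.mem_R.1 e))

theorem exists_d (r : Rp ρ) : ∃ d, Dec R t π a i j d ∧ Pat ρ i j d (dl 0) := by
  obtain ⟨α, p⟩ := h.sc r h.s_f h.s_g h.si2 h.sj2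
  have q := p.cj h.mv_c
  rw [mul_assoc, h.s_c.eq, inv_mul_cancel_left] at q
  have k : ∀ α : Fin 4 → ZMod 3, (∀ n, α n ≠ 0) → α = α ∘ ![0, 2, 3, 1] →
      α = 1 ∨ α = -1 ∨ α = dl 0 ∨ α * -1 = dl 0 := by decide
  rcases k α (h.pat_ne r p) (h.pat_uniq r p q) with e | e | e | e
  · exact absurd (h.pat_eq r p (e ▸ pat_one) ▸ one_mem R) h.s_notMem
  · exact absurd (h.pat_eq r p (e ▸ h.pat_t r) ▸ h.xs.mem) h.s_notMem
  · exact ⟨s, h, e ▸ p⟩
  · exact ⟨s * t, h.twist, e ▸ p.mul (h.pat_t r)⟩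

theorem f_R : i 0 * i 1 ∈ R := mul_mem (h.iR 0) (h.iR 1)
theorem g_R : j 0 * j 1 ∈ R := mul_mem (h.jR 0) (h.jR 1)

theorem card_anti (r : Rp ρ) (e : x * y = y * x * t) : Nat.card (Ev ρ x 1) ≤ Nat.card (Ev ρ x (-1)) :=
  haveI := r.finite
  card_le_of (ρ := ρ) y fun v hv => mem_Ev.2 (by rw [h.anti r e, mem_Ev.1 hv, one_smul])

end Dec

/-- The decomposition with the reflection `d`. -/
structure Dd (R : Subgroup X) (t : X) (π : X →* C9) (a i j : Fin 3 → X) (d : X)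
    (ρ : X →* Module.End (ZMod 3) V) : Prop extends Dec R t π a i j d where
  rp : Rp ρ
  pd : Pat ρ i j d (dl 0)
  cardR : Nat.card R = 128

/-- elements moving the first weight space to the others -/
def gn (i j : Fin 3 → X) : Fin 4 → X := ![1, i 0, j 0, i 0 * j 0]

/-- the four reflections -/
def dn (i j : Fin 3 → X) (d : X) (n : Fin 4) : X := (gn i j n)⁻¹ * d * gn i j n

namespace Dd

variable (h : Dd R t π a i j d ρ)
include h

theorem eq (p : Pat ρ i j x α) (q : Pat ρ i j y β) (e : α = β) : x = y := h.toDec.pat_eq h.rp p (e ▸ q)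

theorem dd : d * d = 1 := h.eq (h.pd.mul h.pd) pat_one (by decide)

theorem gn_R (n : Fin 4) : gn i j n ∈ R := by
  fin_cases n
  exacts [one_mem _, h.iR 0, h.jR 0, mul_mem (h.iR 0) (h.jR 0)]

theorem pat_dn (n : Fin 4) : Pat ρ i j (dn i j d n) (dl n) := by
  fin_cases n
  · simpa [dn, gn] using h.pd
  · exact (show dl 0 ∘ ![1, 0, 3, 2] = dl 1 by decide) ▸ h.pd.cj (h.toDec.mv_i h.rp)
  · exact (show dl 0 ∘ ![2, 3, 0, 1] = dl 2 by decide) ▸ h.pd.cj (h.toDec.mv_j h.rp)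
  · exact (show dl 0 ∘ (![1, 0, 3, 2] ∘ ![2, 3, 0, 1]) = dl 3 by decide) ▸
      h.pd.cj ((h.toDec.mv_i h.rp).mul (h.toDec.mv_j h.rp))

theorem π_dn (n : Fin 4) : π (dn i j d n) = ct := by
  rw [dn, map_mul, map_mul, map_inv, h.toDec.mem_R.1 (h.gn_R n), h.πs, inv_one, one_mul, mul_one]

theorem dn_inj : Function.Injective (dn i j d) := fun n m e =>
  (show ∀ n m, dl n = dl m → n = m by decide) n m (h.toDec.pat_uniq h.rp (h.pat_dn n) (e ▸ h.pat_dn m))

theorem dn_d (n : Fin 4) : Commute (dn i j d n) d :=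
  h.eq ((h.pat_dn n).mul h.pd) (h.pd.mul (h.pat_dn n)) (mul_comm _ _)

theorem W_le {n : Fin 4} (e : n ≠ 0) : W ρ i j n ≤ Ev ρ d 1 := fun v hv => mem_Ev.2 (by rw [h.pd n v hv, dl, if_neg e])

theorem d_sub (v : V) : v - ρ d v ∈ W ρ i j 0 := h.toDec.ind4 (p := fun v => v - ρ d v ∈ W ρ i j 0)
  (fun n v hv => by
    by_cases e : n = 0
    · exact sub_mem (e ▸ hv) (h.pd n v hv ▸ Submodule.smul_mem _ _ (e ▸ hv))
    · rw [mem_Ev.1 (h.W_le e hv), one_smul, sub_self]; exact zero_mem _)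
  (fun v w e e' => by rw [map_add, add_sub_add_comm]; exact add_mem e e') v

theorem Ev_neg : Ev ρ d (-1) = W ρ i j 0 := le_antisymm (fun v hv => by
    have := h.d_sub v
    rw [mem_Ev.1 hv, show v - (-1 : ZMod 3) • v = -v by linear_combination (norm := module) three v] at this
    exact neg_mem_iff.1 this)
  fun v hv => mem_Ev.2 (h.pd 0 v hv)

theorem Ev_one : Ev ρ d 1 = W ρ i j 1 ⊔ (W ρ i j 2 ⊔ W ρ i j 3) :=
  le_antisymm (fun v hv => by
    have e := pj_sum (ρ := ρ) (i := i) (j := j) v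
    have m := h.toDec.pj_mem (ρ := ρ)
    rw [Fin.sum_univ_four] at e
    have e1 := congrArg (ρ d) e
    rw [mem_Ev.1 hv, map_add, map_add, map_add, h.pd _ _ (m 0 v), mem_Ev.1 (h.W_le (by decide) (m 1 v)),
      mem_Ev.1 (h.W_le (by decide) (m 2 v)), mem_Ev.1 (h.W_le (by decide) (m 3 v)), show dl 0 0 = -1 from rfl] at e1
    have e2 : pj ρ i j 0 v = 0 := eq_zero_of_neg (by linear_combination (norm := module) e - e1)
    rw [← e, e2, zero_add, add_assoc]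
    exact Submodule.add_mem_sup (m 1 v) (Submodule.add_mem_sup (m 2 v) (m 3 v)))
  (sup_le (h.W_le (by decide)) (sup_le (h.W_le (by decide)) (h.W_le (by decide))))

theorem nine_lt : 9 < Nat.card (Ev ρ d 1) := by
  haveI := h.rp.finite
  by_contra hc
  have e := sub_eq_of_le (h.W_le (n := 1) (by decide)) (by rw [h.toDec.card_W h.rp]; omega)
  obtain ⟨v, hv, h0⟩ := h.toDec.exists_W h.rp 2
  exact h0 (W_disj (show (1 : Fin 4) ≠ 2 by decide) (e.ge (h.W_le (by decide) hv)) hv)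

/-- the conjugates of `d` in the coset `d R` -/
theorem cls (e : Commute (π x) ct) : ∃ n, x * d * x⁻¹ = dn i j d n := by
  haveI := h.rp.finite
  have e1 : π (x * d * x⁻¹) = ct := by rw [map_mul, map_mul, map_inv, h.πs, e.eq, mul_inv_cancel_right]
  have c9 : Nat.card (Ev ρ (x * d * x⁻¹) (-1)) = 9 := by rw [card_Ev_cj, h.Ev_neg, h.toDec.card_W h.rp]
  have c1 : 9 < Nat.card (Ev ρ (x * d * x⁻¹) 1) := by rw [card_Ev_cj]; exact h.nine_lt
  generalize x * d * x⁻¹ = w at *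
  have wR : w * d⁻¹ ∈ R := h.toDec.mem_R.2 (by rw [map_mul, map_inv, e1, h.πs, mul_inv_cancel])
  have k : ∀ y ∈ R, Commute d y → Commute w y := fun y hy c => by
    have e2 : w * y = w * d⁻¹ * y * d := by rw [mul_assoc _ y, ← c.eq]; group
    rcases h.xs.comm _ wR y hy with e | e
    · change _ = _; rw [e2, e]; group
    · have := h.toDec.card_anti h.rp (x := w) (y := y) (by rw [e2, e, mul_assoc, ← h.toDec.cen d]; group)
      omega
  obtain ⟨α, p⟩ := h.toDec.sc h.rp (k _ h.toDec.f_R h.toDec.s_f) (k _ h.toDec.g_R h.toDec.s_g) (k _ (h.iR 2) h.si2)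
    (k _ (h.jR 2) h.sj2)
  have k1 : ∀ n, α n = -1 → W ρ i j n = Ev ρ w (-1) := fun n e =>
    sub_eq_of_le (fun v hv => mem_Ev.2 (e ▸ p n v hv)) (by rw [c9, h.toDec.card_W h.rp])
  have k2 : ∀ α : Fin 4 → ZMod 3, (∀ n, α n ≠ 0) → (∀ n m, α n = -1 → α m = -1 → n = m) → α = 1 ∨ ∃ n, α = dl n := by
    decide
  rcases k2 α (h.toDec.pat_ne h.rp p) fun n m e e' => by
    by_contra hc
    obtain ⟨v, hv, h0⟩ := h.toDec.exists_W h.rp n
    exact h0 (W_disj hc hv (((k1 n e).trans (k1 m e').symm).le hv)) with e | ⟨n, e⟩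
  · exact absurd (by rw [← e1, h.eq p pat_one e, map_one]) ct_ne
  · exact ⟨n, h.eq p (h.pat_dn n) e⟩

theorem lift {c : C9} (e : Commute c ct) : ∃ x, Commute x d ∧ π x = c := by
  obtain ⟨x, rfl⟩ := h.surj c
  obtain ⟨n, e⟩ := h.cls e
  refine ⟨gn i j n * x, mul_inv_eq_iff_eq_mul.1 ?_, by rw [map_mul, h.toDec.mem_R.1 (h.gn_R n), one_mul]⟩
  calc _ = gn i j n * (x * d * x⁻¹) * (gn i j n)⁻¹ := by group
    _ = d := by rw [e, dn]; group

theorem π_comm (e : Commute x d) : Commute (π x) ct := h.πs ▸ e.map π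

theorem card_P : Nat.card ↥(centralizer {d} ⊓ RR.comap π) = 256 := by
  have c1 : Nat.card (RR.comap π) = 1024 := by
    have e1 := (RR.comap π).card_mul_index
    have e2 := R.card_mul_index
    have e3 := RR.card_mul_index
    rw [index_comap_of_surjective _ h.surj] at e1
    rw [h.cardR, ← h.ker, index_ker, MonoidHom.range_eq_top.2 h.surj, card_top, card_C9] at e2
    rw [card_RR, card_C9] at e3
    rw [show RR.index = 81 by omega] at e1
    omega
  let d' : RR.comap π := ⟨d, by rw [mem_comap, h.πs]; exact ct_RR⟩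
  have m : ∀ n, dn i j d n ∈ RR.comap π := fun n => by rw [mem_comap, h.π_dn]; exact ct_RR
  have c2 : Nat.card {s // ∃ g, g * d' * g⁻¹ = s} = 4 := by
    rw [← Nat.card_congr (Equiv.ofBijective (fun n : Fin 4 => (⟨⟨dn i j d n, m n⟩, ⟨(gn i j n)⁻¹, by
      rw [mem_comap, map_inv, h.toDec.mem_R.1 (h.gn_R n), inv_one]; exact one_mem _⟩, Subtype.ext (by simp [dn, d'])⟩ :
        {s // ∃ g, g * d' * g⁻¹ = s})) ⟨fun n m e => h.dn_inj (congrArg (fun x => x.1.1) e), ?_⟩)]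
    · simp
    · rintro ⟨_, g, rfl⟩
      have e0 : Commute (π (g : X)) ct := RR_ct _ (mem_comap.1 g.2)
      obtain ⟨n, e⟩ := h.cls e0
      exact ⟨n, Subtype.ext (Subtype.ext e.symm)⟩
  have c3 := (centralizer {d'}).card_mul_index
  rw [← H23.EA.card_class, c2, c1] at c3
  have c4 : centralizer {d'} = (centralizer {d} ⊓ RR.comap π).subgroupOf (RR.comap π) := by
    ext x
    rw [mem_subgroupOf, mem_inf, and_iff_left x.2, mem_centralizer_singleton_iff, mem_centralizer_singleton_iff,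
      Subtype.ext_iff]; rfl
  rw [c4, Nat.card_congr (subgroupOfEquivOfLe inf_le_right).toEquiv] at c3
  omega

theorem mem_or (hf : i 0 * i 1 ∈ H) (hg : j 0 * j 1 ∈ H) (ht : t ∈ H) (p : Pat ρ i j x α) : x ∈ H ∨ x * d ∈ H := by
  have k : ∀ α : Fin 4 → ZMod 3, (∀ n, α n ≠ 0) → ∃ b c e : Fin 2, α = e1 ^ b.1 * e2 ^ c.1 * (-1) ^ e.1 ∨
      α * dl 0 = e1 ^ b.1 * e2 ^ c.1 * (-1) ^ e.1 := by decide
  obtain ⟨b, c, e, k⟩ := k α (h.toDec.pat_ne h.rp p)
  have q := ((pat_f.pow b).mul (pat_g.pow c)).mul ((h.toDec.pat_t h.rp).pow e)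
  have m := mul_mem (mul_mem (pow_mem hf b) (pow_mem hg c)) (pow_mem ht e)
  exact k.imp (fun k => h.eq p q k ▸ m) fun k => h.eq (p.mul h.pd) q k ▸ m

theorem fix0 (e : Commute x d) {v : V} (hv : v ∈ W ρ i j 0) : ρ x v ∈ W ρ i j 0 := by
  rw [← h.Ev_neg, mem_Ev] at hv ⊢
  rw [← ρ_comm e, hv, map_smul]

theorem cr_comm (hx : x ∈ R) (e : Commute x d) : Commute x (i 0 * i 1) ∧ Commute x (j 0 * j 1) := by
  obtain ⟨v, hv, h0⟩ := h.toDec.exists_W h.rp 0
  have k : ∀ y ∈ R, (∀ v ∈ W ρ i j 0, ρ y v = v) → Commute x y := fun y hy k =>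
    ((h.xs.comm y hy x hx).resolve_right fun e' => h0 (ρ_eq_zero (ρ := ρ) (x := x) (eq_zero_of_neg (by
      have := h.toDec.anti h.rp e' v
      rwa [k _ (h.fix0 e hv), k v hv, neg_smul, one_smul] at this)))).symm
  exact ⟨k _ h.toDec.f_R fun v hv => (mem_W.1 hv).1.trans (one_smul _ _),
    k _ h.toDec.g_R fun v hv => (mem_W.1 hv).2.trans (one_smul _ _)⟩

theorem cr_mem (hf : i 0 * i 1 ∈ H) (hg : j 0 * j 1 ∈ H) (hi : i 2 ∈ H) (hj : j 2 ∈ H) (hx : x ∈ R)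
    (e : Commute x d) : x ∈ H := by
  have ht : t ∈ H := h.ii 2 ▸ mul_mem hi hi
  have k : ∀ x ∈ R, Commute x d → Commute x (i 2) → Commute x (j 2) → x ∈ H := fun x hx e e1 e2 => by
    obtain ⟨α, p⟩ := h.toDec.sc h.rp (h.cr_comm hx e).1 (h.cr_comm hx e).2 e1 e2
    rcases h.mem_or (H := H ⊓ R) ⟨hf, h.toDec.f_R⟩ ⟨hg, h.toDec.g_R⟩ ⟨ht, h.xs.mem⟩ p with m | m
    · exact m.1
    · exact absurd ((mul_mem_cancel_left hx).1 m.2) h.toDec.s_notMem
  have n : j 2 * i 2 ≠ i 2 * j 2 := fun e => h.xs.mul_z_ne _ (h.toDec.ji 2 ▸ e)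
  have k1 : ∀ x ∈ R, Commute x d → Commute x (i 2) → x ∈ H := fun x hx e e1 => by
    by_cases e2 : x * j 2 = j 2 * x
    · exact k x hx e e1 e2
    · exact (mul_mem_cancel_right hi).1 (k _ (mul_mem hx (h.iR 2)) (e.mul_left h.si2.symm) (e1.mul_left rfl)
        (h.xs.mul_comm_of_ne_of_ne hx (h.iR 2) (h.jR 2) e2 n.symm))
  by_cases e1 : x * i 2 = i 2 * x
  · exact k1 x hx e e1
  · exact (mul_mem_cancel_right hj).1 (k1 _ (mul_mem hx (h.jR 2)) (e.mul_left h.sj2.symm)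
      (h.xs.mul_comm_of_ne_of_ne hx (h.jR 2) (h.iR 2) e1 n))

theorem gen_P (h1 : ∀ x ∈ R, Commute x d → x ∈ H) (h2 : ∀ u, Commute u d → u * a 2 * u⁻¹ * (a 2)⁻¹ ∈ H)
    (e : Commute x d) (hx : π x ∈ RR) : x ∈ H := by
  obtain ⟨u, hu, v, hv, e1⟩ := c9_gen _ (mem_RR.1 hx)
  obtain ⟨u, cu, rfl⟩ := h.lift (RR_ct u (mem_RR.2 hu))
  obtain ⟨v, cv, rfl⟩ := h.lift (RR_ct v (mem_RR.2 hv))
  have c : ∀ u, Commute u d → Commute (u * a 2 * u⁻¹ * (a 2)⁻¹) d := fun u cu =>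
    ((cu.mul_left h.sa2.symm).mul_left cu.inv_left).mul_left h.sa2.symm.inv_left
  refine (mul_mem_cancel_right (inv_mem (mul_mem (h2 u cu) (h2 v cv)))).1 (h1 _ (h.toDec.mem_R.2 ?_)
    (e.mul_left ((c u cu).mul_left (c v cv)).inv_left))
  rw [map_mul, e1]
  simp only [map_mul, map_inv, h.πa 2, show cw 2 = ce from rfl, mul_inv_cancel]

theorem a2_dn (n : Fin 4) : Commute (a 2) (dn i j d n) := by
  have : Commute (a 2) (gn i j n) := by
    fin_cases n
    exacts [Commute.one_right _, h.cai 2 0 (by decide), h.caj 2 0 (by decide),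
      (h.cai 2 0 (by decide)).mul_right (h.caj 2 0 (by decide))]
  exact (this.inv_right.mul_right h.sa2.symm).mul_right this

/-- the preimage of the quaternion group centralizes the four group -/
theorem P_comm (e : Commute x d) (hx : π x ∈ RR) : Commute x (i 0 * i 1) ∧ Commute x (j 0 * j 1) := by
  have k : ∀ u, Commute u d → ∀ n, Commute (u * a 2 * u⁻¹ * (a 2)⁻¹) (dn i j d n * d * t) := fun u cu n => by
    have c0 : ∀ n, Commute (a 2) (dn i j d n * d * t) := fun n =>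
      ((h.a2_dn n).mul_right h.sa2.symm).mul_right (h.toDec.cen _)
    obtain ⟨m, e⟩ := h.cls (x := u⁻¹ * (gn i j n)⁻¹) (by
      rw [map_mul, map_inv π (gn i j n), h.toDec.mem_R.1 (h.gn_R n), inv_one, mul_one]; exact h.π_comm cu.inv_left)
    have e1 : dn i j d n * d * t = u * (dn i j d m * d * t) * u⁻¹ := by
      rw [← e, ← conj_mul, ← conj_mul, (h.toDec.cen u).eq, cu.eq, dn]; group
    refine Commute.mul_left ?_ (c0 n).inv_left
    rw [e1]
    exact (c0 m).map (MulAut.conj u)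
  have e1 : i 0 * i 1 = dn i j d 1 * d * t :=
    h.eq pat_f (((h.pat_dn 1).mul h.pd).mul (h.toDec.pat_t h.rp)) (by decide)
  have e2 : j 0 * j 1 = dn i j d 2 * d * t :=
    h.eq pat_g (((h.pat_dn 2).mul h.pd).mul (h.toDec.pat_t h.rp)) (by decide)
  have := h.gen_P (H := centralizer {i 0 * i 1} ⊓ centralizer {j 0 * j 1}) (fun x hx e =>
    ⟨mem_centralizer_singleton_iff.2 (h.cr_comm hx e).1, mem_centralizer_singleton_iff.2 (h.cr_comm hx e).2⟩)
    (fun u cu => ⟨mem_centralizer_singleton_iff.2 (e1 ▸ k u cu 1), mem_centralizer_singleton_iff.2 (e2 ▸ k u cu 2)⟩)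
    e hx
  exact ⟨mem_centralizer_singleton_iff.1 this.1, mem_centralizer_singleton_iff.1 this.2⟩

theorem P_le_of_comm (h1 : ∀ u v, Commute u d → Commute v d → u * v * u⁻¹ * v⁻¹ ∈ H) (e : Commute x d)
    (hx : π x ∈ RR) : x ∈ H := by
  have hf : i 0 * i 1 ∈ H := by
    have := h1 _ _ h.toDec.s_c.symm h.toDec.s_g.symm
    rwa [h.toDec.c_g, mul_inv_cancel_right] at this
  have hg : j 0 * j 1 ∈ H := by
    have := h1 _ _ h.toDec.s_c.symm h.toDec.s_f.symm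
    rwa [h.toDec.c_f, mul_mem_cancel_right (inv_mem hf)] at this
  have hi : i 2 ∈ H := by simpa [h.aj] using h1 _ _ h.sa2.symm h.sj2.symm
  have hj : j 2 ∈ H := by
    have := h1 _ _ h.sa2.symm h.si2.symm
    rwa [h.ai, mul_mem_cancel_right (inv_mem hi)] at this
  exact h.gen_P (fun x => h.cr_mem hf hg hi hj) (fun u cu => h1 u _ cu h.sa2.symm) e hx

theorem le_of_sq (h1 : ∀ u, Commute u d → u * u ∈ H) (e : Commute x d) : x ∈ H := by
  have k := c9_ct _ (h.π_comm e)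
  have := h.P_le_of_comm (H := H) (fun u v cu cv => by
    convert mul_mem (mul_mem (h1 u cu) (h1 _ (cu.inv_left.mul_left cv))) (h1 _ cv.inv_left) using 1; group)
    (e.pow_left 3) (by
      rw [map_pow]
      exact (c9_ct _ ((h.π_comm e).pow_left 3)).2.1 (by rw [← pow_mul]; exact k.1))
  rwa [pow_three', mul_mem_cancel_left (h1 x e)] at this

theorem sq_one (h1 : Commute x (i 0 * i 1)) (h2 : Commute x (j 0 * j 1)) (h3 : Commute x (i 2))
    (h4 : Commute x (j 2)) : x * x = 1 := by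
  obtain ⟨α, p⟩ := h.toDec.sc h.rp h1 h2 h3 h4
  exact h.eq (p.mul p) pat_one (funext fun n =>
    (show ∀ c : ZMod 3, c ≠ 0 → c * c = 1 by decide) _ (h.toDec.pat_ne h.rp p n))

/-- the kernel of the action on the fixed space of `d` -/
theorem self (e : ∀ v ∈ Ev ρ d 1, ρ x v = v) : x = 1 ∨ x = d := by
  haveI := h.rp.finite
  have k0 : ∀ y ∈ R, (∀ v ∈ Ev ρ d 1, ρ y v = v) → y = 1 := fun y hy e => by
    obtain ⟨v, hv, h0⟩ := h.toDec.exists_W h.rp 1
    by_contra h1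
    have h2 : y ≠ t := fun e' => h0 (eq_zero_of_neg (by
      rw [← h.toDec.ρ_t h.rp, ← e', e v (h.W_le (by decide) hv)]))
    obtain ⟨w, hw, n⟩ := h.xs.exists_not_comm hy h1 h2
    have c1 := h.toDec.card_anti h.rp (h.xs.comm_of_ne hy hw n)
    have c2 : Nat.card (Ev ρ d 1) ≤ Nat.card (Ev ρ y 1) := Nat.card_le_card_of_injective
      (Submodule.inclusion fun v hv => mem_Ev.2 ((e v hv).trans (one_smul _ _).symm)) (Submodule.inclusion_injective _)
    have c3 : Nat.card (Ev ρ y (-1)) ≤ Nat.card (W ρ i j 0) := Nat.card_le_card_of_injective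
      (fun v => ⟨v - ρ d v, h.d_sub v⟩) fun v w e' => Subtype.ext (sub_eq_zero.1 (eq_zero_of_neg (by
        have e1 : (v : V) - ρ d v = w - ρ d w := congrArg Subtype.val e'
        have e2 := e (v - w) (mem_Ev.2 (by rw [map_sub]; linear_combination (norm := module) -e1))
        rw [mem_Ev.1 (sub_mem v.2 w.2), neg_smul, one_smul] at e2
        exact e2.symm)))
    have := h.nine_lt
    rw [h.toDec.card_W h.rp] at c3
    omega
  have k : ∀ y ∈ R, Commute d y → Commute x y := fun y hy c => by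
    refine commutatorElement_eq_one_iff_commute.1 (k0 _ (mul_mem (h.toDec.normal.conj_mem y hy x) (inv_mem hy))
      fun v hv => ?_)
    have m : ρ y⁻¹ v ∈ Ev ρ d 1 := mem_Ev.2 (by rw [ρ_comm c.inv_right, mem_Ev.1 hv, map_smul])
    have e1 : ρ x⁻¹ (ρ y⁻¹ v) = ρ y⁻¹ v := by rw [← e _ m, ρ_inv, e _ m]
    rw [commutatorElement_def, ρ_mul, ρ_mul, ρ_mul, e1, ρ_inv', e v hv]
  obtain ⟨α, p⟩ := h.toDec.sc h.rp (k _ h.toDec.f_R h.toDec.s_f) (k _ h.toDec.g_R h.toDec.s_g) (k _ (h.iR 2) h.si2)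
    (k _ (h.jR 2) h.sj2)
  have k2 : ∀ α : Fin 4 → ZMod 3, (∀ n, α n ≠ 0) → (∀ n, n ≠ 0 → α n = 1) → α = 1 ∨ α = dl 0 := by decide
  refine (k2 α (h.toDec.pat_ne h.rp p) fun n hn => ?_).imp (h.eq p pat_one) (h.eq p h.pd)
  haveI : Fact (Nat.Prime 3) := ⟨by norm_num⟩
  obtain ⟨v, hv, h0⟩ := h.toDec.exists_W h.rp n
  exact smul_left_injective _ h0 ((p n v hv).symm.trans ((e v (h.W_le hn hv)).trans (one_smul _ _).symm))

end Dd

end Cfsg.Agent.H60.F23
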