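import Cfsg.Agent.H60.F23C
import Cfsg.Agent.H99.F22End
import Cfsg.Agent.H12.F22E
import Cfsg.Agent.H40.F23d

/-! `Fi₂₃` structure, part D: from `C(z) / Q` back to the group. -/

set_option autoImplicit false
set_option linter.style.haveILetI false
set_option linter.unusedSimpArgs false
set_option linter.unusedSectionVars false

universe u

namespace Cfsg.Agent.H60.F23

open Subgroup H95.L3 H40.F23 H23 H99.F22 H41.Rec
open scoped commutatorElement Pointwise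

variable {V : Type} [AddCommGroup V] [Module (ZMod 3) V] {G : Type u} [Group G] [Finite G] {z : G} {Q : Subgroup G}
  {X : Type u} [Group X] [Finite X] {R : Subgroup X} {t : X} {π : X →* C9} {a i j : Fin 3 → X}
  {ρ : X →* Module.End (ZMod 3) V} {φ : centralizer ({z} : Set G) →* X} {D : V3 Q z V}

/-- a subgroup of index at most two containing `C(z)` is the whole group -/
theorem top_of {z : G} {Q : Fin 3 → Subgroup G} {P N : Subgroup G} (h : Hyp22 z Q P) [hN : N.Normal]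
    (h2 : N.index ∣ 2) (hc : centralizer {z} ≤ N) : N = ⊤ := by
  haveI : Fact (Nat.Prime 3) := ⟨by norm_num⟩
  obtain ⟨y, Q', P', -, p⟩ := H12.F22.exists_pq h
  have x := H12.F22.xQ h
  have x' := H12.F22.xQ p.h'
  obtain ⟨q, hq, e1⟩ := x.exists_comm_eq p.mem p.ne
  obtain ⟨q', hq', e2⟩ := x'.exists_comm_eq p.symm.mem p.ne'
  have c1 : q * z * q⁻¹ = z := by rw [(x.cen q hq).eq, mul_inv_cancel_right]
  have c2 : q'⁻¹ * y * q'⁻¹⁻¹ = y := by rw [(x'.cen q' hq').inv_left.eq, mul_inv_cancel_right]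
  have c3 : Commute y z := x.cen y p.mem
  have e3 : q'⁻¹ * z * q'⁻¹⁻¹ = z * y⁻¹ := by
    calc _ = q'⁻¹ * (z * y) * q'⁻¹⁻¹ * (q'⁻¹ * y * q'⁻¹⁻¹)⁻¹ := by group
      _ = _ := by rw [c2, ← e2]; group
  have w1 : q * q'⁻¹ * q * z * (q * q'⁻¹ * q)⁻¹ = y⁻¹ := by
    calc _ = q * (q'⁻¹ * (q * z * q⁻¹) * q'⁻¹⁻¹) * q⁻¹ := by group
      _ = q * (z * y⁻¹) * q⁻¹ := by rw [c1, e3]
      _ = q * z * q⁻¹ * (q * y * q⁻¹)⁻¹ := by group
      _ = _ := by rw [c1, e1]; group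
  have w2 : q * q'⁻¹ * q * y * (q * q'⁻¹ * q)⁻¹ = z := by
    calc _ = q * (q'⁻¹ * (q * y * q⁻¹) * q'⁻¹⁻¹) * q⁻¹ := by group
      _ = q * (q'⁻¹ * y * q'⁻¹⁻¹ * (q'⁻¹ * z * q'⁻¹⁻¹)) * q⁻¹ := by rw [e1]; group
      _ = q * (y * (z * y⁻¹)) * q⁻¹ := by rw [c2, e3]
      _ = _ := by rw [← mul_assoc y, c3.eq, mul_inv_cancel_right, c1]
  generalize q * q'⁻¹ * q = w at w1 w2
  have wN : w ^ 2 ∈ N := by
    obtain ⟨k, e⟩ := h2
    rw [e, pow_mul]; exact pow_mem (N.pow_index_mem w) k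
  have w3 : w ^ 2 * z * (w ^ 2)⁻¹ = z⁻¹ := by
    calc _ = w * (w * z * w⁻¹) * w⁻¹ := by rw [pow_two]; group
      _ = (w * y * w⁻¹)⁻¹ := by rw [w1]; group
      _ = _ := by rw [w2]
  have key : ∀ g, g * z * g⁻¹ ∈ zpowers z → g ∈ N := fun g e => by
    rcases (mem_zp3 h.ord).1 e with e | e | e
    · exact absurd (by simpa using e) x.ne_one
    · exact hc (mem_centralizer_singleton_iff.2 (mul_inv_eq_iff_eq_mul.1 e))
    · refine (mul_mem_cancel_left (inv_mem wN)).1 (hc (mem_centralizer_singleton_iff.2 (mul_inv_eq_iff_eq_mul.1 ?_)))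
      calc _ = (w ^ 2)⁻¹ * (g * z * g⁻¹) * w ^ 2 := by group
        _ = _ := by rw [e, ← w3]; group
  obtain ⟨S, hS, hQ⟩ := H8.exists_isSylowIn_ge x.isPGroup (H12.F22.QQ_cen h)
  have nz : ∀ g ∈ normalizer (S : Set G), g * z * g⁻¹ ∈ zpowers z := fun g hg => by
    have k : ∀ b ∈ ⨆ i, Q i, Commute (g * z * g⁻¹) b := fun b hb => by
      have := (mem_centralizer_singleton_iff.1 (hS.le ((mem_normalizer_iff''.1 hg b).1 (hQ hb))))
      change _ = _
      calc _ = g * (z * (g⁻¹ * b * g)) * g⁻¹ := by group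
        _ = _ := by rw [← this]; group
    exact x.nd _ (h.self fun b hb => (k b hb).symm) k
  have hT : H8.IsSylowIn 3 S N := H8.isSylowIn_of_maximal (hS.le.trans hc) hS.isPGroup fun T hT _ hST => by
    by_contra hn
    refine (H8.lt_inf_normalizer_of_lt hT (lt_of_le_not_ge hST hn)).ne' (hS.eq_of_le (hT.to_le inf_le_left)
      (fun g hg => ?_) (le_inf hST le_normalizer))
    obtain ⟨k, hk⟩ := hT ⟨g, hg.1⟩
    rcases (mem_zp3 h.ord).1 (nz g hg.2) with e | e | e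
    · exact absurd (by simpa using e) x.ne_one
    · exact mem_centralizer_singleton_iff.2 (mul_inv_eq_iff_eq_mul.1 e)
    · refine zpowers_le.2 (show g ^ 2 ∈ centralizer {z} from mem_centralizer_singleton_iff.2 ?_)
        (mem_zpowers_pow_iff.2 (Nat.Coprime.coprime_dvd_right (orderOf_dvd_of_pow_eq_one
          (congrArg Subtype.val hk : g ^ 3 ^ k = 1)) (Nat.Coprime.pow_right k (by norm_num))))
      calc _ = g * (g * z * g⁻¹) * g := by rw [pow_two]; group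
        _ = g * z⁻¹ * g := by rw [e]
        _ = (g * z * g⁻¹)⁻¹ * g * g := by group
        _ = _ := by rw [e, pow_two]; group
  refine eq_top_iff.2 fun g _ => ?_
  obtain ⟨n, hn, e⟩ := hT.exists_conj_le (H8.isPGroup_conj_smul hS.isPGroup g) fun x hx => by
    simpa [mul_assoc] using hN.conj_mem _ (hT.le (H8.mem_conj_smul.1 hx)) g
  rw [H8.conj_smul_conj_smul] at e
  exact (mul_mem_cancel_left hn).1 (key _ (nz _ (H8.mem_normalizer_of_conj_smul_le e)))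

theorem pre_sup (h : X3 Q z) (A B : Submodule (ZMod 3) V) : D.pre h (A ⊔ B) = D.pre h A ⊔ D.pre h B := by
  refine le_antisymm (fun q hq => ?_) (sup_le (fun q hq => ⟨hq.1, Submodule.mem_sup_left hq.2⟩)
    fun q hq => ⟨hq.1, Submodule.mem_sup_right hq.2⟩)
  obtain ⟨v, hv, w, hw, e⟩ := Submodule.mem_sup.1 hq.2
  obtain ⟨v, h1, rfl⟩ := D.onto v
  obtain ⟨w, h2, rfl⟩ := D.onto w
  have := (D.p_eq_iff hq.1 (mul_mem h1 h2)).1 (by rw [D.add _ h1 _ h2, e])
  simpa only [inv_mul_cancel_right] using mul_mem (mem_sup_left (zpowers_le.2 (D.z_mem_pre h A) this))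
    (mul_mem_sup (show v ∈ D.pre h A from ⟨h1, hv⟩) (show w ∈ D.pre h B from ⟨h2, hw⟩))

/-- The action of `C(z) / Q` on `Q / ⟨z⟩`. -/
structure St (z : G) (Q : Subgroup G) (φ : centralizer ({z} : Set G) →* X) (D : V3 Q z V)
    (ρ : X →* Module.End (ZMod 3) V) : Prop where
  x3 : X3 Q z
  card : Nat.card Q = 3 ^ 9
  exp : ∀ q ∈ Q, q ^ 3 = 1
  norm : centralizer {z} ≤ normalizer (Q : Set G)
  self : centralizer (Q : Set G) ≤ Q
  surj : Function.Surjective φ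
  ker : ∀ m, φ m = 1 ↔ (m : G) ∈ Q
  eq : ∀ m : centralizer ({z} : Set G), ρ (φ m) = D.ρ ⟨m, norm m.2, m.2⟩

namespace St

variable (S : St z Q φ D ρ) {m e : centralizer ({z} : Set G)} {x : X} {q : G}
include S

theorem nc (m : centralizer ({z} : Set G)) : (m : G) ∈ NC Q z := ⟨S.norm m.2, m.2⟩

theorem act (m : centralizer ({z} : Set G)) (hq : q ∈ Q) : D.p (m * q * (m : G)⁻¹) = ρ (φ m) (D.p q) := by
  rw [S.eq, D.act _ (S.nc m) q hq]

theorem rp : Rp ρ := by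
  refine ⟨(injective_iff_map_eq_one _).2 fun x e => ?_, ?_⟩
  · obtain ⟨m, rfl⟩ := S.surj x
    obtain ⟨q, hq, k⟩ := S.x3.inner (S.nc m) ((D.ρ_eq_one_iff (S.nc m)).1 (S.eq m ▸ e))
    refine (S.ker m).2 ((mul_mem_cancel_left (inv_mem hq)).1 (S.self fun b hb => ?_))
    calc _ = q⁻¹ * (q * b * q⁻¹) * m := by group
      _ = _ := by rw [← k b hb]; group
  · have := D.card_eq S.x3
    rw [S.card] at this; omega

theorem β (x : X) (v w : V) : D.β (ρ x v) (ρ x w) = D.β v w := by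
  obtain ⟨m, rfl⟩ := S.surj x
  rw [S.eq, D.β_ρ S.x3]

theorem cube (e : φ m = 1) : m ^ 3 = 1 := Subtype.ext (S.exp _ ((S.ker m).1 e))

theorem lift2 (e : x * x = 1) : ∃ m, φ m = x ∧ m * m = 1 := by
  obtain ⟨m, rfl⟩ := S.surj x
  exact ⟨m ^ 3, by rw [map_pow, pow_three', e, one_mul],
    by rw [← (Commute.refl m).mul_pow]; exact S.cube (by rw [map_mul, e])⟩

theorem cj2 (h1 : m * m = 1) (h2 : e * e = 1) (h3 : φ m = φ e) : ∃ q, φ q = 1 ∧ q * e * q⁻¹ = m := by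
  have e1 : φ (m * e) = 1 := by rw [map_mul, h3, ← map_mul, h2, map_one]
  have e2 := S.cube e1
  have e3 : m⁻¹ = m := inv_eq_of_mul_eq_one_right h1
  have e4 : e⁻¹ = e := inv_eq_of_mul_eq_one_right h2
  refine ⟨e * m, by rw [map_mul, h3, ← map_mul, h2, map_one], ?_⟩
  calc _ = m⁻¹ * (m * e) ^ 3 := by rw [mul_inv_rev, e4, pow_three']; nth_rw 1 [e3]; group
    _ = _ := by rw [e2, mul_one, e3]

theorem liftc (ee : e * e = 1) (h : Commute x (φ e)) : ∃ m, φ m = x ∧ Commute m e := by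
  obtain ⟨m, rfl⟩ := S.surj x
  obtain ⟨q, h1, h2⟩ := S.cj2 (m := m * e * m⁻¹) (by rw [conj_mul, ee, mul_one, mul_inv_cancel]) ee
    (by rw [map_mul, map_mul, map_inv, h.eq, mul_inv_cancel_right])
  refine ⟨q⁻¹ * m, by rw [map_mul, map_inv, h1, inv_one, one_mul], mul_inv_eq_iff_eq_mul.1 ?_⟩
  calc _ = q⁻¹ * (m * e * m⁻¹) * q := by group
    _ = _ := by rw [← h2]; group

theorem fix_iff (hq : q ∈ Q) : ρ (φ m) (D.p q) = D.p q ↔ m * q * (m : G)⁻¹ * q⁻¹ ∈ zpowers z := by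
  rw [S.eq]; exact D.ρ_fix_iff (S.nc m) hq

theorem neg_iff (hq : q ∈ Q) : ρ (φ m) (D.p q) = -D.p q ↔ m * q * (m : G)⁻¹ * q ∈ zpowers z := by
  rw [S.eq]; exact D.ρ_neg_iff (S.nc m) hq

theorem cen_eq (ee : e * e = 1) : Q ⊓ centralizer {(e : G)} = D.pre S.x3 (Ev ρ (φ e) 1) := by
  ext q
  rw [mem_inf, D.mem_pre, mem_Ev, one_smul, mem_centralizer_singleton_iff]
  refine and_congr_right fun hq => ?_
  rw [S.fix_iff hq]
  exact ⟨fun h => by rw [← h]; simp, fun h => (commute_of_coprime S.x3.ord (mem_centralizer_singleton_iff.1 e.2)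
    (cop2 (congrArg Subtype.val ee)) h).symm⟩

variable (h : Dd R t π a i j (φ e) ρ)
include h

theorem card_cen (ee : e * e = 1) : Nat.card ↥(Q ⊓ centralizer {(e : G)}) = 3 ^ 7 := by
  have ee' : (e : G) * e = 1 := congrArg Subtype.val ee
  have := S.x3.card_split (S.nc e) (X3.sq_triv z ee')
  rw [S.x3.Fx_eq_of_coprime (S.nc e) (cop2 ee'), D.Ng_eq S.x3 (S.nc e), D.card_pre, S.card, ← S.eq,
    show LinearMap.ker (ρ (φ e) + 1) = Ev ρ (φ e) (-1) by rw [Ev, neg_smul, one_smul, sub_neg_eq_add], h.Ev_neg,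
    h.toDec.card_W h.rp] at this
  omega

theorem in23 (ee : e * e = 1) : ∃ b t₀, In23 z Q (π.comp φ) b t₀ e := by
  obtain ⟨t₀, e1, e2⟩ := S.lift2 h.xs.zz
  choose b hb using fun k => S.surj (a k)
  have k : ∀ m m' : centralizer ({z} : Set G), φ m = φ m' → (m : G) * (m' : G)⁻¹ ∈ Q := fun m m' e =>
    (S.ker (m * m'⁻¹)).1 (by rw [map_mul, map_inv, e, mul_inv_cancel])
  have br : ∀ k, ∀ q ∈ Q, ⁅(b k : G), q⁆ ∈ Q ∧ D.p ⁅(b k : G), q⁆ =
      nn (fun k => ρ (i k)) (fun k => ρ (j k)) k (D.p q) := fun k q hq => by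
    have := p_br D ⟨b k, S.nc _⟩ hq
    rw [← S.eq, hb, LinearMap.sub_apply, h.toDec.ρ_a h.rp] at this
    exact ⟨this.1, this.2.trans (by simp)⟩
  refine ⟨b, t₀, S.x3, S.card, S.exp, S.norm, h.surj.comp S.surj, fun m hm => ?_, fun m hm => ?_,
    congrArg Subtype.val e2, mem_centralizer_singleton_iff.1 t₀.2, fun q hq => ?_, fun m hm => ?_, fun k => ?_,
    fun k => ?_, fun k l => ?_, fun k q hq => ?_, ?_, congrArg Subtype.val ee, mem_centralizer_singleton_iff.1 e.2,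
    k (e * b 0 * e⁻¹) _ ?_, k (e * b 2 * e⁻¹) _ ?_, S.card_cen h ee⟩
  · rw [MonoidHom.comp_apply, (S.ker m).2 hm, map_one]
  · exact (S.ker (m ^ 4)).1 (by rw [map_pow]; exact h.xs.pow_four (h.toDec.mem_R.2 hm))
  · exact (S.neg_iff hq).1 (by rw [e1, h.toDec.ρ_t h.rp])
  · exact (S.ker ⁅(⟨m, mem_centralizer_singleton_iff.2 hm⟩ : centralizer ({z} : Set G)), t₀⁆).1 (by
      rw [map_commutatorElement, e1]; exact (h.toDec.cen _).commutator_eq)
  · rw [MonoidHom.comp_apply, hb, h.πa]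
  · exact (S.ker (b k ^ 3)).1 (by rw [map_pow, hb, h.a3])
  · exact (S.ker ⁅b k, b l⁆).1 (by rw [map_commutatorElement, hb, hb]; exact (h.aa k l).commutator_eq)
  · exact (D.zero _ (br k _ (br k q hq).1).1).1 (by
      rw [(br k _ (br k q hq).1).2, (br k q hq).2, (h.toDec.cl h.rp).nn_nn])
  · haveI := h.rp.nontrivial
    obtain ⟨w, hw⟩ := (h.toDec.cl h.rp).cube
    obtain ⟨q, hq, rfl⟩ := D.onto w
    have k2 := br 2 q hq
    have k1 := br 1 _ k2.1
    have k0 := br 0 _ k1.1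
    exact ⟨q, hq, fun e => hw (by rw [← k2.2, ← k1.2, ← k0.2]; exact (D.zero _ k0.1).2 e)⟩
  · rw [map_mul, map_mul, map_inv, hb, hb, h.sa0]
  · rw [map_mul, map_mul, map_inv, hb, h.sa2.eq, mul_inv_cancel_right]

end St

end Cfsg.Agent.H60.F23
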