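import Cfsg.Agent.H73.GagDefs
import Cfsg.Agent.H52.FStar
import Cfsg.Agent.H63.Frob
import Cfsg.Agent.H67.Hall
import Cfsg.Agent.H8.Tate
import Cfsg.Agent.H92.ClassSize
import Cfsg.Agent.H3.Fitting
import Cfsg.Agent.S4037

/-! Project GAG, piece S1: elements of order three in a group with cyclic odd Sylow subgroups. -/

set_option autoImplicit false

namespace Cfsg.Agent.H60.GagS1

open Cfsg Subgroup Cfsg.Agent.H63 Cfsg.Agent.H67 Cfsg.Agent.H73.Gag
open scoped commutatorElement

universe u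

variable {X : Type u} [Group X] [Finite X]

omit [Finite X] in
theorem pg {r : ℕ} [Fact r.Prime] {a : X} (h : orderOf a = r) : IsPGroup r (zpowers a) :=
  IsPGroup.of_card (n := 1) (by rw [Nat.card_zpowers, h, pow_one])

omit [Finite X] in
/-- an element of order three centralises the cyclic odd subgroups it normalises -/
theorem le_cent (h : K0 2 X) {x : X} (hx : orderOf x = 3) {r : ℕ} (hr : r.Prime) (r2 : r ≠ 2)
    {R : Subgroup X} (hR : IsPGroup r R) (hn : x ∈ N[R]) : R ≤ C1[x] := by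
  obtain ⟨c, rfl⟩ := (Subgroup.isCyclic_iff_exists_zpowers_eq_top R).1 (h.cyc r hr r2 r2 R hR)
  exact zpowers_le.2 (mem_centralizer_singleton_iff.2 (h.com c x (hx ▸ Nat.prime_three)
    (by rw [hx]; decide) (not_dvd_orderOf_of_isPGroup Nat.prime_two hr r2 hR (mem_zpowers c))
    hn).symm)

theorem center_eq_bot (h : K0 2 X) (h2 : pCore 2 X = ⊥) {K : Subgroup X} (hK : IsComponent K) :
    center K = ⊥ := by
  by_contra hne
  obtain ⟨r, hr, hd⟩ := Nat.exists_prime_and_dvd (mt card_eq_one.1 hne)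
  have := Fact.mk hr
  obtain ⟨⟨z, hz⟩, oz⟩ := exists_prime_orderOf_dvd_card' r hd
  rw [← orderOf_coe] at oz
  have z1 : z ≠ 1 := fun e => hr.one_lt.ne (by rw [← oz]; simp [e])
  by_cases r2 : r = 2
  · subst r2
    have h1 : (z : X) ∈ fittingSubgroup X := H52.IsComponent.center_le_fitting hK
      ⟨z.2, fun y hy => congrArg Subtype.val (mem_center_iff.1 hz ⟨y, hy⟩)⟩
    have h3 := H3.le_pCore_of_le_fitting (pg ((orderOf_coe z).trans oz)) (zpowers_le.2 h1)
      (mem_zpowers _)
    rw [h2] at h3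
    exact z1 (Subtype.ext h3)
  obtain ⟨P, hP⟩ := (pg oz).exists_le_sylow
  have h3 := H8.center_inf_commutator_inf_sylow_le P
    ⟨⟨hz, hK.2.1.commutator_eq_top ▸ mem_top z⟩, hP (mem_zpowers z)⟩
  have := h.cyc r hr r2 r2 _ (P.isPGroup'.map K.subtype)
  have : IsCyclic P := (equivMapOfInjective _ _ K.subtype_injective).isCyclic.2 this
  rw [commutator_self_eq_bot_iff.2 inferInstance] at h3
  exact z1 h3

theorem normal (h : K0 2 X) (h2 : pCore 2 X = ⊥) {K : Subgroup X} (hK : IsComponent K) :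
    K.Normal := by
  rw [← normalizer_eq_top_iff, eq_top_iff]
  intro g _
  refine (H52.IsComponent.mem_normalizer_or_commutator_conj_eq_bot hK g).resolve_right fun hc => ?_
  have hc' : K ≤ C[cj g K] := commutator_eq_bot_iff_le_centralizer.1 hc
  obtain ⟨r, hr, hd, r2⟩ : ∃ r : ℕ, r.Prime ∧ r ∣ Nat.card K ∧ r ≠ 2 := by
    by_contra k
    exact H52.IsQuasisimple.not_isPGroup (p := 2) hK.2 (IsPGroup.of_card
      (Nat.eq_prime_pow_of_unique_prime_dvd Nat.card_pos.ne' fun {r} hr hd => by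
        by_contra e
        exact k ⟨r, hr, hd, e⟩))
  have := Fact.mk hr
  obtain ⟨⟨a, ha⟩, oa⟩ := exists_prime_orderOf_dvd_card' r hd
  rw [← orderOf_coe] at oa
  have ob : orderOf (g * a * g⁻¹) = r := (MulAut.conj g).orderOf_eq a |>.trans oa
  have hb : g * a * g⁻¹ ∈ cj g K := conj_mem_cj_iff.2 ha
  have h3 : IsPGroup r ↥(zpowers a ⊔ zpowers (g * a * g⁻¹)) :=
    (pg oa).to_sup_of_normal_right' (pg ob) (le_normalizer_of_le_centralizer
      ((zpowers_le.2 ha).trans (hc'.trans (centralizer_anti (zpowers_le.2 hb)))))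
  have h4 := eq_of_isCyclic_of_card_eq (h.cyc r hr r2 r2 _ h3) le_sup_left le_sup_right
    (by rw [Nat.card_zpowers, Nat.card_zpowers, oa, ob])
  have h5 : a ∈ cj g K := zpowers_le.2 hb (h4 ▸ mem_zpowers a)
  have h6 : (⟨a, ha⟩ : K) ∈ center K :=
    mem_center_iff.2 fun y => Subtype.ext (hc' y.2 a h5).symm
  rw [center_eq_bot h h2 hK] at h6
  rw [mem_bot.1 h6] at oa
  exact hr.one_lt.ne (by rw [← oa]; simp)

theorem comm_eq_bot (h : K0 2 X) {x : X} (hx : orderOf x = 3) {K : Subgroup X} [K.Normal]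
    (hK : IsComponent K) (h3 : ¬ 3 ∣ Nat.card K) : ⁅K, zpowers x⁆ = ⊥ := by
  have hi : ∃ k, (C1[x]).relIndex K = 2 ^ k :=
    ⟨_, Nat.eq_prime_pow_of_unique_prime_dvd (relIndex_ne_zero' _ _) fun {r} hr hd => by
      by_contra r2
      have := Fact.mk hr
      obtain ⟨R, hR, hn⟩ := coprime_syl_exists r (A := zpowers x) (K := K) le_normalizer_of_normal
        (by rw [Nat.card_zpowers, hx]; exact Nat.prime_three.coprime_iff_not_dvd.2 h3)
        (Or.inl inferInstance)
      exact hR.2.2 r hr rfl (hd.trans (relIndex_dvd_of_le_left _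
        (le_cent h hx hr r2 (syl_isPGroup hR) (hn (mem_zpowers x)))))⟩
  obtain ⟨k, hk⟩ := hi
  have xC : x ∈ C1[x] := mem_centralizer_singleton_iff.2 rfl
  set Y := K ⊔ C1[x] with hY
  let y : Y := ⟨x, mem_sup_right xC⟩
  have h1 : centralizer ({y} : Set Y) = (C1[x]).subgroupOf Y := by
    ext z
    simp only [mem_subgroupOf, mem_centralizer_singleton_iff, Subtype.ext_iff]
    rfl
  have h4 := S4037.result y Nat.prime_two k (by
    rw [H92.ncard_carrier, h1, ← hk]
    exact relIndex_sup_of_le_normalizer' (Or.inl le_normalizer_of_normal))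
  have h5 := H52.IsComponent.commutator_eq_bot_of_isSolvable hK
    (H := (normalClosure ({y} : Set Y)).map Y.subtype)
    (Group.isSolvable_of_surjective (MonoidHom.subgroupMap_surjective _ _))
    (fun g hg => mem_normalizer_of_cj_le (cj_le_iff.2 (by
      rintro _ ⟨s, hs, rfl⟩
      exact ⟨_, normalClosure_normal.conj_mem s hs ⟨g, mem_sup_left hg⟩, rfl⟩)))
  exact H52.commutator_eq_bot_mono h5 le_rfl
    (zpowers_le.2 ⟨y, subset_normalClosure rfl, rfl⟩)

theorem s1 : S1Stmt.{u} := by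
  intro X _ _ h h2 ih x hx
  have : Fact (Nat.Prime 3) := ⟨Nat.prime_three⟩
  by_cases hK : ∃ K : Subgroup X, IsComponent K ∧ 3 ∣ Nat.card K
  · obtain ⟨K, hK, h3⟩ := hK
    have hn := normal h h2 hK
    have hs := H52.IsQuasisimple.isSimpleGroup_of_center_eq_bot hK.2 (center_eq_bot h h2 hK)
    obtain ⟨⟨y, hy⟩, oy⟩ := exists_prime_orderOf_dvd_card' 3 h3
    rw [← orderOf_coe] at oy
    obtain ⟨P, hP⟩ := (pg hx).exists_le_sylow
    obtain ⟨Q, hQ⟩ := (pg oy).exists_le_sylow
    obtain ⟨g, rfl⟩ := MulAction.exists_smul_eq X Q P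
    have ob : orderOf (g * y * g⁻¹) = 3 := (MulAut.conj g).orderOf_eq y |>.trans oy
    have h4 := eq_of_isCyclic_of_card_eq (h.cyc 3 Nat.prime_three (by decide) (by decide) _
      (g • Q).isPGroup') hP (zpowers_le.2 (show g * y * g⁻¹ ∈ ((g • Q : Sylow 3 X) : Subgroup X)
        from ⟨y, hQ (mem_zpowers y), rfl⟩)) (by rw [Nat.card_zpowers, Nat.card_zpowers, hx, ob])
    have xK : x ∈ K := zpowers_le.2 (hn.conj_mem y hy g) (h4 ▸ mem_zpowers x)
    have h5 : normalClosure ({x} : Set X) ≤ K := normalClosure_le_normal (by simpa using xK)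
    have h6 : normalClosure ({x} : Set X) = K := by
      rcases hs.eq_bot_or_eq_top_of_normal ((normalClosure ({x} : Set X)).subgroupOf K)
        inferInstance with e | e
      · have : (⟨x, xK⟩ : K) ∈ (normalClosure ({x} : Set X)).subgroupOf K :=
          subset_normalClosure rfl
        rw [e] at this
        rw [show x = 1 from congrArg Subtype.val this] at hx
        simp at hx
      · exact le_antisymm h5 (subgroupOf_eq_top.1 e)
    exact Or.inr (h6 ▸ ih K hs (H52.IsQuasisimple.not_isMulCommutative hK.2) h3)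
  have h3 : zpowers x ≤ fittingSubgroup X := by
    refine H52.le_fitting_of_commutator_eq_bot (H52.commutator_eq_bot_symm
      (H52.commutator_layer_eq_bot_of_forall fun K hc => ?_)) (H52.commutator_eq_bot_symm ?_)
    · have := normal h h2 hc
      exact comm_eq_bot h hx hc fun e => hK ⟨K, hc, e⟩
    · rw [commutator_eq_bot_iff_le_centralizer, centralizer_zpowers, H3.fitting_eq_iSup_pCore]
      refine iSup_le fun r => ?_
      by_cases r2 : (r : ℕ) = 2
      · rw [r2, h2]
        exact bot_le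
      · exact le_cent h hx r.2 r2 (H3.pCore_isPGroup _ X) (le_normalizer_of_normal (mem_top x))
  have h4 := normalIn_of_isCyclic (X := ⊤) (h.cyc 3 Nat.prime_three (by decide) (by decide) _
    (H3.pCore_isPGroup 3 X)) (H3.le_pCore_of_le_fitting (pg hx) h3)
    ⟨le_top, le_normalizer_of_normal⟩
  exact Or.inl (normalizer_eq_top_iff.1 (eq_top_iff.2 h4.2))

end Cfsg.Agent.H60.GagS1
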