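import Cfsg.Agent.H76.K4Defs
import Cfsg.Agent.H8.K4Ar
import Cfsg.Agent.H3.K4L3

/-! Principal blocks with four ordinary and three modular irreducible characters. -/

set_option autoImplicit false

namespace Cfsg.Agent.H60.K4Card

open Cfsg Cfsg.Agent.H17 Cfsg.Agent.H23.SecT Cfsg.Agent.H23.KL Cfsg.Agent.H76.K4
open scoped Classical

universe u

theorem arith {p n : ℕ} (hp : p.Prime) (hn : n ≠ 0) {x y z : ℤ}
    (hq : ((p ^ n : ℕ) : ℤ) = 1 + x ^ 2 + y ^ 2 + z ^ 2)
    (h : ∀ w1 w2 w3 : ℤ, (x * w1 + (y * w2 + z * w3)) * (x * w1 + (y * w2 + z * w3) + 1) ≤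
      (p ^ n : ℕ) * (w1 ^ 2 + (w2 ^ 2 + w3 ^ 2))) :
    p ^ n = 2 ∨ p ^ n = 3 ∨ p ^ n = 4 ∨ p ^ n = 7 := by
  rcases hp.eq_two_or_odd' with rfl | ho
  · have h8 := H8.K4Ar.not_eight _ x y z hq
    rcases n with _ | _ | _ | n
    · exact absurd rfl hn
    · simp
    · simp
    · exact absurd ⟨2 ^ n, by push_cast; ring⟩ h8
  have h1 : p ^ n % 2 = 1 := Nat.odd_iff.1 ho.pow
  have h2 := Nat.one_lt_pow hn hp.one_lt
  have h3 : p ^ n ≠ 15 := fun e => by
    have k3 := (Nat.prime_dvd_prime_iff_eq Nat.prime_three hp).1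
      (Nat.prime_three.dvd_of_dvd_pow (n := n) (by rw [e]; norm_num))
    have k5 := (Nat.prime_dvd_prime_iff_eq Nat.prime_five hp).1
      (Nat.prime_five.dvd_of_dvd_pow (n := n) (by rw [e]; norm_num))
    omega
  generalize p ^ n = q at *
  have h4 := H8.K4Ar.ar q x y z hq (by omega) (by
    rintro a b c d ⟨w1, e1⟩ ⟨w2, e2⟩ ⟨w3, e3⟩
    obtain rfl : b = a * x + q * w1 := by linear_combination e1
    obtain rfl : c = a * y + q * w2 := by linear_combination e2
    obtain rfl : d = a * z + q * w3 := by linear_combination e3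
    have k1 := h (-w1) (-w2) (-w3)
    obtain ⟨s, hs⟩ : ∃ s, s = x * w1 + (y * w2 + z * w3) := ⟨_, rfl⟩
    have k2 : a + s ≤ (a + s) ^ 2 := Int.le_self_sq _
    have k3 : a ≤ a ^ 2 + 2 * a * s + q * (w1 ^ 2 + (w2 ^ 2 + w3 ^ 2)) := by
      have : s * (s - 1) ≤ q * (w1 ^ 2 + (w2 ^ 2 + w3 ^ 2)) := by rw [hs]; linear_combination k1
      linear_combination this + k2
    have k4 := mul_le_mul_of_nonneg_left k3 (Int.natCast_nonneg q)
    have k5 : a ^ 2 + (a * x + q * w1) ^ 2 + (a * y + q * w2) ^ 2 + (a * z + q * w3) ^ 2 =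
        q * (a ^ 2 + 2 * a * s + q * (w1 ^ 2 + (w2 ^ 2 + w3 ^ 2))) := by
      rw [hs]; linear_combination (-a ^ 2) * hq
    rw [k5]; exact k4)
  omega

theorem card4 (set : SetStmt.{u}) (small : SmallStmt.{u}) {G : Type u} [Group G] [Finite G] (p : ℕ)
    [Fact p.Prime] (M : Ideal AlgInt) (hM : IsPModular p M)
    (hk : Nat.card (principalBlock M G) = 4) (hl : blockRank p (principalBlock M G) = 3)
    (D : Sylow p G) : Nat.card (D : Subgroup G) = 4 := by
  let _ := Fintype.ofFinite G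
  have := H13.finite_irrCharacter (G := G)
  let _ := Fintype.ofFinite (IrrCharacter G)
  have hB : IsPBlock M (principalBlock M G) := H17.isPBlock_principalBlock
  have hD := H17.dg_principal hM D
  have h2 := H17.dg_card hM hB hD
  have hd : blockDefect p (principalBlock M G) ≠ 0 := fun h0 => by
    have := H21.card_eq_one_of_defect_zero hM hB h0
    omega
  have hD1 : (D : Subgroup G) ≠ ⊥ := fun e => by
    rw [e, Subgroup.card_bot] at h2
    exact hd ((Nat.pow_eq_one.mp h2.symm).resolve_left (Fact.out : p.Prime).one_lt.ne')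
  obtain ⟨v, a, m, ha, h1, -, -, -, h5⟩ := set G p M hM (by omega) D hD1
  have htr : H21.triv G ∈ fB (principalBlock M G) := mem_fB.mpr (H21.triv_mem_principal hM.2.1)
  have hc : (fB (principalBlock M G)).card = 4 := by
    rw [← hk, Nat.card_eq_fintype_card, Fintype.card_subtype]
  have hc2 : ((fB (principalBlock M G)).erase (H21.triv G)).card = 3 := by
    rw [Finset.card_erase_of_mem htr, hc]
  obtain ⟨χ, ψ, η, n1, n2, n3, he⟩ := Finset.card_eq_three.mp hc2
  have hsum : ∀ f : IrrCharacter G → ℤ,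
      ∑ ξ ∈ fB (principalBlock M G), f ξ = f (H21.triv G) + (f χ + (f ψ + f η)) := by
    intro f
    rw [← Finset.add_sum_erase _ _ htr, he, Finset.sum_insert (by simp [n1, n2]), Finset.sum_pair n3]
  have a1 : a (H21.triv G) = 1 := by
    have := ha (H21.triv G)
    rw [H21.triv_apply] at this
    exact_mod_cast this.symm
  have t1 : H21.triv G ≠ χ ∧ H21.triv G ≠ ψ ∧ H21.triv G ≠ η := by
    have := Finset.notMem_erase (H21.triv G) (fB (principalBlock M G))
    rw [he] at this
    simpa [not_or] using this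
  obtain ⟨s1, s2, s3⟩ := small G p M hM hk D
  rw [hsum, a1] at h1
  rw [h2] at h1 h5 s1 s2 s3 ⊢
  have := arith (Fact.out : p.Prime) hd (x := a χ) (y := a ψ) (z := a η)
    (by linear_combination -h1) fun w1 w2 w3 => by
      have h6 := h5 (fun ξ => if ξ = χ then w1 else if ξ = ψ then w2 else if ξ = η then w3 else 0)
        (by simp [t1.1, t1.2.1, t1.2.2])
      rw [hsum, hsum] at h6
      simpa [t1.1, t1.2.1, t1.2.2, n1.symm, n2.symm, n3.symm] using h6
  omega

theorem a16 (set : SetStmt.{u}) (small : SmallStmt.{u}) {G : Type u} [Group G] [Finite G] (p : ℕ)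
    [Fact p.Prime] (M : Ideal AlgInt) (hM : IsPModular p M)
    (hk : Nat.card (principalBlock M G) = 4) (hl : blockRank p (principalBlock M G) = 3)
    (D : Sylow p G) :
    p = 2 ∧ Nat.card (D : Subgroup G) = 4 ∧ Cfsg.IsElementaryAbelian 2 (D : Subgroup G) :=
  H3.K4L3.main p M hM hk hl D (.inl (card4 set small p M hM hk hl D))

end Cfsg.Agent.H60.K4Card
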