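import Cfsg.Agent.H44.K5Defs

set_option autoImplicit false

namespace Cfsg.Agent.H60.K5Nei

open Cfsg.Agent.H44.K5 Matrix

theorem even4 (w0 w1 w2 w3 w4 p : ℤ) (hp : p % 2 = 1) (h0 : w0 % 2 = 1)
    (h : w0 ^ 2 + w1 ^ 2 + w2 ^ 2 + w3 ^ 2 + w4 ^ 2 = p ^ 2) :
    w1 % 2 = 0 ∧ w2 % 2 = 0 ∧ w3 % 2 = 0 ∧ w4 % 2 = 0 := by
  have sq : ∀ a : ℤ, (a % 2 = 0 ∧ (a ^ 2 % 8 = 0 ∨ a ^ 2 % 8 = 4)) ∨ (a % 2 = 1 ∧ a ^ 2 % 8 = 1) := by
    intro a
    have h8 : a ^ 2 % 8 = (a % 8) ^ 2 % 8 := by simp [pow_two, Int.mul_emod]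
    have h9 : a % 8 = 0 ∨ a % 8 = 1 ∨ a % 8 = 2 ∨ a % 8 = 3 ∨ a % 8 = 4 ∨ a % 8 = 5 ∨ a % 8 = 6 ∨
        a % 8 = 7 := by omega
    rcases h9 with h | h | h | h | h | h | h | h <;> rw [h] at h8 <;> norm_num at h8 <;> omega
  have a0 := sq w0
  have a1 := sq w1
  have a2 := sq w2
  have a3 := sq w3
  have a4 := sq w4
  have a5 := sq p
  omega

theorem core (uni : UniStmt) (p : ℤ) (hp0 : p ≠ 0) (hp2 : p % 2 = 1) (x y z t c k s : ℤ)
    (hc : c * x = 1 + p * k) (hs : 1 + x ^ 2 + y ^ 2 + z ^ 2 + t ^ 2 = p ^ 2 * s) :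
    ∃ u0 u1 u2 u3 u4 : ℤ,
      (u0 * p ^ 2 + u1 * (c + p * k * x) + u2 * (-p * y) + u3 * (-p * z) + u4 * (-p * t)) % 2 = 1 ∧
      (u0 * p ^ 2 + u1 * (c + p * k * x) + u2 * (-p * y) + u3 * (-p * z) + u4 * (-p * t)) ^ 2 + u1 ^ 2 +
        (u1 * (c * y) + u2 * p) ^ 2 + (u1 * (c * z) + u3 * p) ^ 2 + (u1 * (c * t) + u4 * p) ^ 2 = p ^ 2 := by
  let B : Matrix (Fin 5) (Fin 5) ℤ := !![p ^ 2, 0, 0, 0, 0; c + p * k * x, 1, c * y, c * z, c * t;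
    -p * y, 0, p, 0, 0; -p * z, 0, 0, p, 0; -p * t, 0, 0, 0, p]
  let A : Matrix (Fin 5) (Fin 5) ℤ := !![p ^ 2, c + p * k * x, -p * y, -p * z, -p * t;
    c + p * k * x, c ^ 2 * s + k ^ 2 * (1 + x ^ 2), -k * x * y, -k * x * z, -k * x * t;
    -p * y, -k * x * y, y ^ 2 + 1, y * z, y * t; -p * z, -k * x * z, y * z, z ^ 2 + 1, z * t;
    -p * t, -k * x * t, y * t, z * t, t ^ 2 + 1]
  have hBB : B * Bᵀ = (p ^ 2 : ℤ) • A := by
    ext i j
    fin_cases i <;> fin_cases j <;> simp [B, A, Matrix.mul_apply, Fin.sum_univ_five] <;>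
      first | ring1 | linear_combination c ^ 2 * hs - (c * x - p * k + 1) * hc
  have hdB : B.det = p ^ 5 := by
    simp [B, Matrix.det_succ_row_zero, Fin.sum_univ_succ, Fin.succAbove]
    ring
  have hdB0 : B.det ≠ 0 := by rw [hdB]; exact pow_ne_zero _ hp0
  have hA : Aᵀ = A := by
    ext i j
    fin_cases i <;> fin_cases j <;> rfl
  have hdA : A.det = 1 := by
    have h1 := congrArg Matrix.det hBB
    rw [Matrix.det_mul, Matrix.det_transpose, hdB, Matrix.det_smul, Fintype.card_fin] at h1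
    have h2 : (p ^ 2) ^ 5 * (A.det - 1) = 0 := by linear_combination -h1
    have h3 := (mul_eq_zero.1 h2).resolve_left (pow_ne_zero _ (pow_ne_zero _ hp0))
    linarith
  have hpos : ∀ v : Fin 5 → ℤ, v ≠ 0 → 0 < v ⬝ᵥ A *ᵥ v := by
    intro v hv
    have h1 : p ^ 2 * (v ⬝ᵥ A *ᵥ v) = (v ᵥ* B) ⬝ᵥ (v ᵥ* B) := by
      have : v ⬝ᵥ (B * Bᵀ) *ᵥ v = (v ᵥ* B) ⬝ᵥ (v ᵥ* B) := by
        rw [← Matrix.mulVec_mulVec, Matrix.dotProduct_mulVec, Matrix.mulVec_transpose]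
      rw [← this, hBB, Matrix.smul_mulVec, dotProduct_smul, smul_eq_mul]
    have h2 : v ᵥ* B ≠ 0 := fun h => hv (Matrix.eq_zero_of_vecMul_eq_zero hdB0 h)
    have h3 : 0 < (v ᵥ* B) ⬝ᵥ (v ᵥ* B) := by
      refine lt_of_le_of_ne (Finset.sum_nonneg fun i _ => mul_self_nonneg _) ?_
      exact fun h => h2 (dotProduct_self_eq_zero.1 h.symm)
    rw [← h1] at h3
    exact (mul_pos_iff_of_pos_left (by positivity)).1 h3
  obtain ⟨U, hU⟩ := uni 5 le_rfl A hA hpos hdA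
  have hW : (Uᵀ * B) * (Uᵀ * B)ᵀ = (p ^ 2 : ℤ) • (1 : Matrix (Fin 5) (Fin 5) ℤ) := by
    rw [Matrix.transpose_mul, Matrix.transpose_transpose, Matrix.mul_assoc, ← Matrix.mul_assoc B, hBB,
      Matrix.smul_mul, Matrix.mul_smul, ← Matrix.mul_assoc, hU]
  have hW2 : (Uᵀ * B)ᵀ * (Uᵀ * B) = (p ^ 2 : ℤ) • (1 : Matrix (Fin 5) (Fin 5) ℤ) := by
    have hUU : U * Uᵀ * A = 1 := by
      have h1 : U * (Uᵀ * A) = 1 := mul_eq_one_comm.1 hU
      rw [Matrix.mul_assoc]; exact h1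
    have h2 : B * ((Uᵀ * B)ᵀ * (Uᵀ * B)) = B * ((p ^ 2 : ℤ) • (1 : Matrix (Fin 5) (Fin 5) ℤ)) := by
      have h3 : A * (U * Uᵀ) = 1 := mul_eq_one_comm.1 hUU
      rw [Matrix.transpose_mul, Matrix.transpose_transpose]
      calc B * (Bᵀ * U * (Uᵀ * B)) = (B * Bᵀ) * (U * Uᵀ) * B := by simp only [Matrix.mul_assoc]
        _ = _ := by rw [hBB, Matrix.smul_mul, h3, Matrix.smul_mul, Matrix.mul_smul, Matrix.one_mul,
          Matrix.mul_one]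
    exact (Matrix.isRegular_of_isLeftRegular_det (IsRegular.of_ne_zero hdB0).left).left h2
  have hcol := congrFun (congrFun hW2 0) 0
  have hex : ∃ i, (Uᵀ * B) i 0 % 2 = 1 := by
    by_contra hcon
    have he : ∀ i, (2 : ℤ) ∣ (Uᵀ * B) i 0 := fun i => by
      have : ¬ (Uᵀ * B) i 0 % 2 = 1 := fun h => hcon ⟨i, h⟩
      omega
    have h2 : (2 : ℤ) ∣ ((Uᵀ * B)ᵀ * (Uᵀ * B)) 0 0 := by
      rw [Matrix.mul_apply]
      exact Finset.dvd_sum fun i _ => Dvd.dvd.mul_left (he i) _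
    rw [hcol] at h2
    have h3 : (2 : ℤ) ∣ p ^ 2 := by simpa using h2
    have h4 := Int.prime_two.dvd_of_dvd_pow h3
    omega
  obtain ⟨i, hi⟩ := hex
  have hrow := congrFun (congrFun hW i) i
  refine ⟨U 0 i, U 1 i, U 2 i, U 3 i, U 4 i, ?_, ?_⟩
  · simpa [B, Matrix.mul_apply, Fin.sum_univ_five] using hi
  · simp [B, Matrix.mul_apply, Fin.sum_univ_five] at hrow
    linear_combination hrow

theorem nei (uni : UniStmt) : NeiStmt := by
  intro p hp h2 x y z t hx hv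
  have hP : Prime (p : ℤ) := Nat.prime_iff_prime_int.1 hp
  have hodd : (p : ℤ) % 2 = 1 := by
    have := hp.eq_two_or_odd.resolve_left h2
    omega
  have hc2 : ¬ (p : ℤ) ∣ 2 := fun h => h2 ((Nat.prime_dvd_prime_iff_eq hp Nat.prime_two).1 (by exact_mod_cast h))
  have h2x : ¬ (p : ℤ) ∣ 2 * x := fun h => (hP.dvd_or_dvd h).elim hc2 hx
  obtain ⟨r, hr⟩ := hv
  obtain ⟨α, β, hab⟩ := (hP.coprime_iff_not_dvd).2 h2x
  obtain ⟨u0, u1, u2, u3, u4, hw0, hw⟩ := core uni p hP.ne_zero hodd (x - p * (β * r)) y z t (2 * β)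
    (-α - 2 * β * (β * r)) (α * r + (β * r) ^ 2) (by linear_combination hab)
    (by linear_combination hr - p * r * hab)
  set w0 := u0 * (p : ℤ) ^ 2 + u1 * (2 * β + p * (-α - 2 * β * (β * r)) * (x - p * (β * r))) +
    u2 * (-p * y) + u3 * (-p * z) + u4 * (-p * t) with hw0d
  obtain ⟨e1, e2, e3, e4⟩ := even4 _ _ _ _ _ _ hodd hw0 hw
  obtain ⟨a, ha⟩ : (2 : ℤ) ∣ p + w0 := by omega
  obtain ⟨b, hb⟩ := Int.dvd_of_emod_eq_zero e1
  obtain ⟨c, hc⟩ := Int.dvd_of_emod_eq_zero e2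
  obtain ⟨d, hd⟩ := Int.dvd_of_emod_eq_zero e3
  obtain ⟨e, he⟩ := Int.dvd_of_emod_eq_zero e4
  obtain ⟨m, hm⟩ : (p : ℤ) ∣ w0 - u1 * (2 * β) :=
    ⟨u0 * p + u1 * ((-α - 2 * β * (β * r)) * (x - p * (β * r))) - u2 * y - u3 * z - u4 * t, by
      rw [hw0d]; ring⟩
  have half : ∀ q : ℤ, (p : ℤ) ∣ 2 * q → (p : ℤ) ∣ q := fun q h => (hP.dvd_or_dvd h).resolve_left hc2
  refine ⟨a, b, c, d, e, ?_, half _ ⟨u1 * α - x - m * x, ?_⟩, half _ ⟨u2 - y - m * y, ?_⟩,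
    half _ ⟨u3 - z - m * z, ?_⟩, half _ ⟨u4 - t - m * t, ?_⟩, ?_⟩
  · rintro ⟨n, hn⟩
    have hw' : w0 = p * (2 * n - 1) := by linear_combination ha + 2 * hn
    obtain ⟨v, hv⟩ : (p : ℤ) ∣ u1 := ⟨u1 * α + x * (2 * n - 1 - m), by
      linear_combination (-u1) * hab + x * hw' - x * hm⟩
    have h1 : (p : ℤ) ^ 2 * ((2 * n - 1) ^ 2 + v ^ 2 + (v * (2 * β * y) + u2) ^ 2 +
        (v * (2 * β * z) + u3) ^ 2 + (v * (2 * β * t) + u4) ^ 2 - 1) = 0 := by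
      rw [hw', hv] at hw
      linear_combination hw
    have h3 := (mul_eq_zero.1 h1).resolve_left (pow_ne_zero _ hP.ne_zero)
    have h4 : 1 ≤ (2 * n - 1) ^ 2 := by
      have : 2 * n - 1 ≠ 0 := by omega
      have h0 : 0 < (2 * n - 1) ^ 2 := by positivity
      omega
    have q1 := sq_nonneg v
    have q2 := sq_nonneg (v * (2 * β * y) + u2)
    have q3 := sq_nonneg (v * (2 * β * z) + u3)
    have q4 := sq_nonneg (v * (2 * β * t) + u4)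
    have v0 : v = 0 := pow_eq_zero_iff (two_ne_zero) |>.1 (by linarith)
    have z2 : v * (2 * β * y) + u2 = 0 := pow_eq_zero_iff (two_ne_zero) |>.1 (by linarith)
    have z3 : v * (2 * β * z) + u3 = 0 := pow_eq_zero_iff (two_ne_zero) |>.1 (by linarith)
    have z4 : v * (2 * β * t) + u4 = 0 := pow_eq_zero_iff (two_ne_zero) |>.1 (by linarith)
    have h5 : (2 * n - 1) ^ 2 = 1 := by linarith
    rw [v0] at z2 z3 z4 hv
    have y1 : u1 = 0 := by linarith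
    have y2 : u2 = 0 := by linarith
    have y3 : u3 = 0 := by linarith
    have y4 : u4 = 0 := by linarith
    rw [y1, y2, y3, y4] at hw0d
    have h6 : (p : ℤ) * (2 * n - 1 - u0 * p) = 0 := by linear_combination hw0d - hw'
    have h7 := (mul_eq_zero.1 h6).resolve_left hP.ne_zero
    exact hP.not_dvd_one ⟨u0 * (2 * n - 1), by linear_combination (2 * n - 1) * h7 - h5⟩
  · linear_combination -hb + x * ha - x * hm - u1 * hab
  · linear_combination -hc + y * ha - y * hm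
  · linear_combination -hd + z * ha - z * hm
  · linear_combination -he + t * ha - t * hm
  · have h9 : w0 = 2 * a - p := by linarith
    rw [hc, hd, he, h9, hb] at hw
    linarith

end Cfsg.Agent.H60.K5Nei
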