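import Cfsg.Agent.H93.LT2Defs
import Cfsg.Agent.H60.LTB
import Cfsg.Agent.H3.LTAl1
import Cfsg.Agent.H96.CritApi
import Cfsg.Agent.Eqn.Cfsg_Agent_H96_RelL

/-! Type X on both sides: the model of `S₁ = T₁⟨m⟩` of order `256`. -/

set_option autoImplicit false
set_option linter.unusedSectionVars false

namespace Cfsg.Agent.H60.LTX

open Subgroup H85 H93.LT H96
open H3.LTB (cn_comm comm_of_cn cn_mem mem_N_closure)

universe u

/-- the bits of a number are the exponents of `t, m, Y, y, b, a, z, f` -/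
def T : Pc where
  w := 8
  m := 255
  L := [(0x6f5e4d3c2b1a097847566534031221707f4e5d2c3b0a196857467524130231604f7e6d1c0b3a295867764514233201505f6e7d0c1b2a394877665504332211402f1e0d7c6b5a493807162574435261303f0e1d6c7b4a592817063564534271200f3e2d5c4b7a691827360554637241101f2e3d4c5b6a79083726154473625100, 0x6f5e4d3c2b1a097847566534031221707f4e5d2c3b0a196857467524130231604f7e6d1c0b3a295867764514233201505f6e7d0c1b2a394877665504332211402f1e0d7c6b5a493807162574435261303f0e1d6c7b4a592817063564534271200f3e2d5c4b7a691827360554637241101f2e3d4c5b6a79083726154473625100),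
    (0x36371c1d131219183e3f14151b1a111006072c2d232229280e0f24252b2a212016173c3d333239381e1f34353b3a313026270c0d030209082e2f04050b0a0100, 0x36371c1d131219183e3f14151b1a111006072c2d232229280e0f24252b2a212016173c3d333239381e1f34353b3a313026270c0d030209082e2f04050b0a0100),
    (0x70e050c131a11180f060d041b121910171e151c030a01081f161d140b020900, 0x70e050c131a11180f060d041b121910171e151c030a01081f161d140b020900),
    (0x30e010c070a05080b0609040f020d00, 0x30e010c070a05080b0609040f020d00),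
    (0x506070401020300, 0x506070401020300),
    (0x3020100, 0x3020100),
    (0x100, 0x100),
    (0x0, 0x0)]
  I := 0x7b1afdbc7f5ef978d332f53417b6b1b06f0e6d2c6b4a69e807e6a564c362e1e01b7a1d5c9fbe9918b35215d4f756d1d0cfaecd8c4b6a49c8a74605c4e342c1c0bbdabdfcbf9eb93813f2b574d776f1f0afce2d6cab8a29a8c726e52403a2a1a0dbba5d1c5f7ed95873925594379691900f6e8dcc8baa09886786458423828180fb9a7d3cffde79f853b275b497363130ef8eedacebcae968876625e443e261609bfa9ddc1f3e199833d2955477d651504f2e4d0ccbeac94827c6854463c241403b5a3d7c3f1e39b8937235f457f671702f4eadec2b0aa92847a665a4832221205b3add9cdffe59d8f312d514b71611108fee0d4c0b2a8908e706c504a3020100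

instance : T.OK := ⟨by decide +kernel⟩

abbrev Mo := T.G

def t0 : Mo := ⟨1, by decide⟩
def m0 : Mo := ⟨2, by decide⟩
def Y0 : Mo := ⟨4, by decide⟩
def y0 : Mo := ⟨8, by decide⟩
def b0 : Mo := ⟨16, by decide⟩
def a0 : Mo := ⟨32, by decide⟩
def z0 : Mo := ⟨64, by decide⟩
def f0 : Mo := ⟨128, by decide⟩

theorem rel_of {X : Type*} [Group X] {t m Y y b a z f : X}
    (h0 : t * t = 1)
    (h1 : m * t = t * (m * (a * f)))
    (h2 : Y * t = t * (Y * (z * f)))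
    (h3 : y * t = t * (y * f))
    (h4 : b * t = t * b)
    (h5 : a * t = t * a)
    (h6 : z * t = t * z)
    (h7 : f * t = t * f)
    (h8 : m * m = 1)
    (h9 : Y * m = m * Y)
    (h10 : y * m = m * (y * a))
    (h11 : b * m = m * (Y * b))
    (h12 : a * m = m * a)
    (h13 : z * m = m * (z * f))
    (h14 : f * m = m * f)
    (h15 : Y * Y = 1)
    (h16 : y * Y = Y * (y * z))
    (h17 : b * Y = Y * b)
    (h18 : a * Y = Y * (a * f))
    (h19 : z * Y = Y * z)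
    (h20 : f * Y = Y * f)
    (h21 : y * y = 1)
    (h22 : b * y = y * (b * (z * f)))
    (h23 : a * y = y * a)
    (h24 : z * y = y * z)
    (h25 : f * y = y * f)
    (h26 : b * b = 1)
    (h27 : a * b = b * (a * z))
    (h28 : z * b = b * z)
    (h29 : f * b = b * f)
    (h30 : a * a = 1)
    (h31 : z * a = a * z)
    (h32 : f * a = a * f)
    (h33 : z * z = 1)
    (h34 : f * z = z * f)
    (h35 : f * f = 1) :
    T.Rel [t, m, Y, y, b, a, z, f] := by
  simp only [Pc.Rel, T, RelL, List.length_cons, List.length_nil, Fin.forall_fin_succ,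
    IsEmpty.forall_iff, Fin.val_zero, Fin.val_succ, look, Nat.land_eq, Nat.shiftRight_eq,
    Nat.mul_eq, Nat.reduceAdd, Nat.reducePow, Nat.reduceMul, Nat.reduceShiftRight, Nat.reduceAnd,
    word, Nat.reduceMod, Nat.reduceDiv, Nat.zero_mod, Nat.zero_div, one_mul,
    mul_one, and_true, and_assoc, zero_add, pow_zero, mul_zero,
    Nat.shiftRight_zero, if_true, if_false, one_ne_zero]
  exact ⟨h0, h1, h2, h3, h4, h5, h6, h7, h8, h9, h10, h11, h12, h13, h14, h15, h16, h17, h18, h19, h20, h21, h22, h23, h24, h25, h26, h27, h28, h29, h30, h31, h32, h33, h34, h35⟩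

theorem par_aux (w m C D : ℕ) (L : List (ℕ × ℕ)) (a b : ℕ) :
    mulL w m ((C, D) :: L) a b % 2 = (a + b) % 2 := by
  rw [mulL_cons]; split_ifs <;> omega

theorem par (x y : Mo) : (x * y).val % 2 = (x.val + y.val) % 2 := by
  rw [Pc.val_mul, Pc.mul, show T.L = (_, _) :: _ from rfl]; exact par_aux ..

/-- `N = ⟨m, Y, y, b, a, z, f⟩` -/
def N0 : Subgroup Mo where
  carrier := {x | x.val % 2 = 0}
  mul_mem' := fun {x y} (h1 : _ = _) (h2 : _ = _) => (par x y).trans (by omega)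
  one_mem' := rfl
  inv_mem' := fun {x} (h1 : _ = _) => by
    have := par x⁻¹ x
    rw [inv_mul_cancel, Pc.val_one] at this
    change _ = _
    omega

instance : DecidablePred (· ∈ N0) := fun x => inferInstanceAs (Decidable (x.val % 2 = 0))

theorem cen0 : ∀ x : Mo, t0 * x = x * t0 → m0 * x = x * m0 → y0 * x = x * y0 → b0 * x = x * b0 →
    x = 1 ∨ x = f0 := by decide +kernel

theorem f0_cen : ∀ x : Mo, x * f0 = f0 * x := by decide +kernel

/-- conjugating elements -/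
def cov : List Mo := [0, 7, 25, 55, 11, 59, 101, 124].map T.el

theorem ev_inv : ∀ x ∈ N0, x * x = 1 → x = 1 ∨ ∃ r ∈ [z0, f0, a0, b0, y0, Y0, m0], ∃ g ∈ cov,
    x = g⁻¹ * r * g := by decide +kernel

/-- the number of solutions of `x² = 1` in the centraliser -/
noncomputable def cnt (u : Mo) : ℕ := (Finset.univ.filter fun x => x * x = 1 ∧ x * u = u * x).card

theorem od_inv : ∀ u ∉ N0, u * u = 1 → (∃ p, p * u = u * p ∧ p * p = f0) → cnt u = 24 →
    ∃ g ∈ cov, u = g⁻¹ * (t0 * b0) * g := by decide +kernel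

theorem cnt_tb : cnt (t0 * b0) = 24 := by decide +kernel

theorem card_tb : Nat.card (centralizer {t0 * b0}) = 32 := by
  rw [Nat.card_congr (Equiv.subtypeEquivRight fun x => mem_centralizer_singleton_iff),
    Nat.card_eq_fintype_card, Fintype.card_subtype]
  decide +kernel

theorem cM1 : ∀ x : Mo, a0 * x = x * a0 → Y0 * x = x * Y0 → z0 * x = x * z0 → m0 * x = x * m0 →
    (t0 * x = x * t0 → x = 1 ∨ x = f0) ∧ (x ∈ N0 → t0 * x = x * t0) := by decide +kernel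

variable {G : Type u} [Group G]

theorem sw {x g w : G} (e : cn x g = w) : x * g = g * w := by rw [← e]; simp [cn, mul_assoc]

theorem sw2 {x g v : G} (e : cn x g = x * v) (v2 : v * v = 1) : g * x = x * (g * v) := by
  rw [← mul_assoc, sw e, mul_assoc, mul_assoc, v2, mul_one]

theorem rel_aux (h : XX G) {Y : G} (tY : cn h.t Y = h.t * h.f * h.z) (Yf : Commute Y h.f)
    (Yz : Commute Y h.z) (Yb : Commute Y h.b) (aY : cn h.a Y = h.a * h.f) (YY : Y * Y = 1)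
    (yY : cn h.y Y = h.y * h.z) (mY : Commute h.m Y) (bm : cn h.b h.m = h.b * Y) :
    T.Rel [h.t, h.m, Y, h.y, h.b, h.a, h.z, h.f] := by
  have fz := LT.fz h.toPre
  exact rel_of h.tt
    (sw2 (by rw [h.tm, mul_assoc, h.fa.eq]) (by rw [h.fa.mul_mul_mul_comm, h.aa, h.ff, one_mul]))
    (sw2 (by rw [tY, mul_assoc, fz.eq]) (by rw [fz.mul_mul_mul_comm, h.zz, h.ff, one_mul]))
    (sw2 h.ty h.ff) h.tb.symm h.ta.symm (LT.tz h.toPre).symm h.tf.symm h.mm mY.symm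
    (sw (h.ym.trans h.ya.symm)) (sw (bm.trans Yb.symm)) h.ma.symm (sw h.zm) h.mf.symm YY (sw yY)
    Yb.symm (sw aY) Yz.symm Yf.symm h.yy (sw (by rw [h.by, mul_assoc, fz.eq])) h.ya.symm h.yz.symm
    h.yf.symm h.bb (sw h.ab) h.zb h.fb h.aa h.za h.fa h.zz fz h.ff

/-- `ψ` embeds the model onto `S₁` -/
structure Md (h : XX G) (ψ : Mo →* G) : Prop where
  inj : Function.Injective ψ
  t : ψ t0 = h.t
  m : ψ m0 = h.m
  Y : (ψ Y0 = h.Y ∧ cn h.b h.m = h.b * h.Y) ∨ (ψ Y0 = h.Y * h.f ∧ cn h.b h.m = h.f * h.b * h.Y)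
  y : ψ y0 = h.y
  b : ψ b0 = h.b
  a : ψ a0 = h.a
  z : ψ z0 = h.z
  f : ψ f0 = h.f
  ev : ∀ K : Subgroup G, h.m ∈ K → ψ Y0 ∈ K → h.y ∈ K → h.b ∈ K → h.a ∈ K → h.z ∈ K → h.f ∈ K →
    ∀ x ∈ N0, ψ x ∈ K

theorem md_of (h : XX G) {Y : G} (r : T.Rel [h.t, h.m, Y, h.y, h.b, h.a, h.z, h.f])
    (hY : (Y = h.Y ∧ cn h.b h.m = h.b * h.Y) ∨ (Y = h.Y * h.f ∧ cn h.b h.m = h.f * h.b * h.Y)) :
    Md h (Pc.lift _ r) := by
  have e : ∀ i : Fin 8, ∀ x : Mo, x.val = 2 ^ i.val →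
      Pc.lift _ r x = [h.t, h.m, Y, h.y, h.b, h.a, h.z, h.f][i.val] := fun i x hx => by
    rw [Pc.lift_apply, hx]; exact word_two_pow _ _ _
  refine ⟨Pc.lift_injective _ _ fun x x1 _ hx => ?_, e 0 _ rfl, e 1 _ rfl, ?_, e 3 _ rfl, e 4 _ rfl,
    e 5 _ rfl, e 6 _ rfl, e 7 _ rfl, fun K h1 h2 h3 h4 h5 h6 h7 x hx => ?_⟩
  · rw [(cen0 x (hx _) (hx _) (hx _) (hx _)).resolve_left x1]
    exact fun k => h.fL ((show h.f = 1 from (e 7 f0 rfl).symm.trans k) ▸ one_mem _)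
  · rw [show Pc.lift _ r Y0 = Y from e 2 _ rfl]; exact hY
  · rw [Pc.lift_apply, word, if_pos (show x.val % 2 = 0 from hx), one_mul]
    rw [show Pc.lift _ r Y0 = Y from e 2 _ rfl] at h2
    exact word_mem _ (by simp [*]) _

theorem exists_md (h : XX G) : ∃ ψ, Md h ψ := by
  have fz := LT.fz h.toPre
  have c : ∀ {x w : G}, cn x h.Y = w → Commute w h.f → cn x (h.Y * h.f) = w := fun e k => by
    rw [H3.LTB.cn_mul, e, cn_comm k]
  rcases h.bm with e | e
  · exact ⟨_, md_of h (rel_aux h h.tY h.Yf h.Yz h.Yb h.aY h.YY h.yY h.mY e) (Or.inl ⟨rfl, e⟩)⟩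
  · exact ⟨_, md_of h (rel_aux h (c h.tY ((h.tf.mul_left (Commute.refl _)).mul_left fz.symm))
      (h.Yf.mul_left (Commute.refl _)) (h.Yz.mul_left fz) (h.Yb.mul_left h.fb)
      (c h.aY (h.fa.symm.mul_left (Commute.refl _)))
      (by rw [h.Yf.symm.mul_mul_mul_comm, h.YY, h.ff, one_mul]) (c h.yY (h.yf.mul_left fz.symm))
      (h.mY.mul_right h.mf) (by rw [e, h.fb.eq, mul_assoc, h.Yf.eq])) (Or.inr ⟨rfl, e⟩)⟩

theorem cn_map (ψ : Mo →* G) (x g : Mo) : cn (ψ x) (ψ g) = ψ (g⁻¹ * x * g) := by simp [cn]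

theorem two_range (ψ : Mo →* G) : IsPGroup 2 ψ.range :=
  Pc.isPGroup.of_surjective _ ψ.rangeRestrict_surjective

/-- an element of a `2`-group over `T₀` that centralises `t` and `a` lies in `T₀` -/
theorem mem_T0_of [Finite G] {h : Hyp G} (K : Kit h) {S : Subgroup G} (hS : IsPGroup 2 S)
    (hT : h.T0 ≤ S) {c : G} (hc : c ∈ S) (ht : Commute h.t c) (ha : Commute h.a c) : c ∈ h.T0 := by
  have h5 : c ∈ S ⊓ centralizer {h.t} := ⟨hc, mem_centralizer_singleton_iff.2 ht.symm⟩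
  have h6 : h.T0 ≤ S ⊓ centralizer {h.t} := le_inf hT (H3.LTB.T0_ct h)
  have h7 : ∀ v ∈ h.T0, cn h.a v ≠ h.b := fun v hv e => by
    obtain ⟨w, rfl⟩ := (LT.mem_T0 h).1 hv
    rw [← LT.φ_a, ← LT.φ_b, cn, ← map_inv, ← map_mul, ← map_mul] at e
    exact (by decide : ∀ x : LT.M, x⁻¹ * LT.M.a * x ≠ LT.M.b) w (LT.φ_inj h e)
  rcases K.cT2 _ hS.to_inf_left h6 inf_le_right with e | ⟨-, e, d, hd, e1, -⟩
  · exact e ▸ h5
  · by_contra e2
    exact h7 _ (H3.LTB.mul_mem_of_card h6 (by rw [e, K.cT0]) h5 hd e2 fun e3 => h7 d e3 e1)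
      (by rw [← LT.cn_cn, cn_comm ha, e1])

namespace Md

variable {h : XX G} {ψ : Mo →* G} (M : Md h ψ)
include M

theorem T0_le : h.T0 ≤ ψ.range := (closure_le _).2 (by
  rintro _ (rfl | rfl | rfl | rfl)
  exacts [⟨_, M.t⟩, ⟨_, M.f⟩, ⟨_, M.a⟩, ⟨_, M.b⟩])

theorem mem_P {p : G} (hp : p ∈ h.P) : ∃ q ∈ [1, z0, f0, z0 * f0], ψ q = p := by
  rcases H3.LTB.mem_P h.toHyp hp with rfl | rfl | rfl | rfl
  exacts [⟨1, by simp, map_one ψ⟩, ⟨_, by simp, M.z⟩, ⟨_, by simp, M.f⟩,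
    ⟨z0 * f0, by simp, by rw [map_mul, M.z, M.f]⟩]

theorem exY : ∃ q ∈ [1, f0], ψ (Y0 * q) = h.Y := by
  rcases M.Y with ⟨e, -⟩ | ⟨e, -⟩
  · exact ⟨1, by simp, by rw [mul_one, e]⟩
  · exact ⟨f0, by simp, by rw [map_mul, e, M.f, mul_assoc, h.ff, mul_one]⟩

/-- every involution of `N` is conjugate to `z` -/
theorem conj_z {x : Mo} (hx : x ∈ N0) (h2 : x * x = 1) (h1 : x ≠ 1) : IsConj h.z (ψ x) := by
  have k : ∀ {x y : Mo}, (∃ g ∈ cov, y = g⁻¹ * x * g) → IsConj (ψ x) (ψ y) := by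
    rintro x _ ⟨g, -, rfl⟩
    exact cn_map ψ x g ▸ LT.isConj_cn _ _
  have za : IsConj h.z h.a := h.zr ▸ LT.isConj_cn _ _
  have zb : IsConj h.z h.b := h.zs ▸ LT.isConj_cn _ _
  have zy : IsConj h.z (ψ y0) := by
    obtain ⟨q, hq, e⟩ := M.mem_P h.an
    refine (za.trans (LT.isConj_cn _ h.n)).trans ?_
    rw [eq_inv_mul_iff_mul_eq.1 e |>.symm, ← M.a, ← M.y, ← map_mul, ← map_mul]
    exact (k ((by decide +kernel : ∀ q ∈ [1, z0, f0, z0 * f0], ∃ g ∈ cov,
      a0 * y0 * q = g⁻¹ * y0 * g) q hq)).symm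
  obtain ⟨p, hp, eY⟩ := M.exY
  have zY : IsConj h.z h.Y := by
    obtain ⟨q, hq, e⟩ := M.mem_P h.Yn
    refine zb.trans (IsConj.trans ?_ (LT.isConj_cn _ h.n).symm)
    rw [eq_inv_mul_iff_mul_eq.1 e |>.symm, ← M.b, ← eY, ← map_mul, ← map_mul]
    exact k ((by decide +kernel : ∀ p ∈ [1, f0], ∀ q ∈ [1, z0, f0, z0 * f0], ∃ g ∈ cov,
      b0 * (Y0 * p) * q = g⁻¹ * b0 * g) p hp q hq)
  obtain ⟨r, hr, e⟩ := (ev_inv x hx h2).resolve_left h1
  refine IsConj.trans ?_ (k e)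
  simp only [List.mem_cons, List.not_mem_nil, or_false] at hr
  rcases hr with rfl | rfl | rfl | rfl | rfl | rfl | rfl
  · rw [M.z]
  · rw [M.f, ← h.zn]; exact LT.isConj_cn _ _
  · rwa [M.a]
  · rwa [M.b]
  · exact zy
  · exact (eY ▸ zY).trans (k ((by decide +kernel : ∀ p ∈ [1, f0], ∃ g ∈ cov,
      Y0 * p = g⁻¹ * Y0 * g) p hp)).symm
  · rw [M.m]; exact zY.trans h.mY'

theorem not_D (K : Kit h.toHyp) {x : Mo} (hx : x ∈ N0) : ¬ IsConj h.t (ψ x) := fun c => by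
  obtain ⟨g, e⟩ := isConj_iff.1 c
  refine K.zD (c.trans (M.conj_z hx (M.inj ?_) fun e1 => h.t1 ?_).symm)
  · rw [map_mul, ← e, conj_mul, h.tt, map_one, mul_one, mul_inv_cancel]
  · rw [e1, map_one] at c; exact isConj_one_left.1 c

theorem tb_D : IsConj h.t (ψ (t0 * b0)) := by
  rw [show t0 * b0 = Y0⁻¹ * (t0 * f0 * z0 * b0) * Y0 by decide +kernel, ← cn_map, map_mul, map_mul,
    map_mul, M.t, M.f, M.z, M.b, ← h.tn]
  exact (LT.isConj_cn _ _).trans (LT.isConj_cn _ _)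

end Md

theorem exists_aut {ψ : Mo →* G} (inj : Function.Injective ψ) {g : G}
    (hg : g ∈ normalizer (ψ.range : Set G)) : ∃ α : Mo ≃* Mo, ∀ x, ψ (α x) = cn (ψ x) g := by
  choose α hα using fun x : Mo => (cn_mem hg ⟨x, rfl⟩ : cn (ψ x) g ∈ ψ.range)
  let β : Mo →* Mo := MonoidHom.mk' α fun x y => inj (by
    rw [map_mul, hα, hα, hα, map_mul, LT.cn_mul])
  exact ⟨MulEquiv.ofBijective β (Finite.injective_iff_bijective.1 fun x y e =>
    inj (H3.LTB.cn_inj (g := g) (by rw [← hα, ← hα]; exact congrArg ψ e))), hα⟩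

theorem xx2 (hk : KitStmt.{u}) : XX2Stmt.{u} := by
  intro G _ _ h tX e1
  have K := hk G h.toHyp
  obtain ⟨ψ, M⟩ := exists_md h
  have hT : h.T = h.T0 := (K.cT.resolve_right fun e => e.1 e1).2
  obtain ⟨S, hS, hR⟩ := exists_isSyl_ge (two_range ψ) le_top
  rcases hR.eq_or_lt with rfl | lt
  · refine (K.trT _ (N0.map ψ) hS (map_le_range _ _) ?_ ?_).1 tX
    · refine relIndex_eq_two_iff_exists_notMem_and'.2 ⟨ψ t0, ⟨_, rfl⟩, ?_, ?_⟩
      · rw [mem_map_iff_mem M.inj]; decide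
      · rintro _ ⟨x, rfl⟩
        rw [← map_mul, mem_map_iff_mem M.inj, mem_map_iff_mem M.inj]
        exact (by decide +kernel : ∀ x, t0 * x ∈ N0 ∨ x ∈ N0) x
    · rintro g - ⟨x, hx, e⟩
      exact M.not_D K hx (e ▸ LT.isConj_cn _ _)
  obtain ⟨g, ⟨gS, gN⟩, g1⟩ := SetLike.exists_of_lt (lt_inf_normalizer_of_lt hS.isPGroup lt)
  obtain ⟨α, hα⟩ := exists_aut M.inj gN
  have αf : α f0 = f0 := by
    have c : ∀ x, x * α f0 = α f0 * x := fun x => by
      rw [← α.apply_symm_apply x, ← map_mul, f0_cen, map_mul]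
    exact (cen0 _ (c _) (c _) (c _) (c _)).resolve_left (by rw [map_eq_one_iff _ α.injective]; decide)
  obtain ⟨s, -, hs⟩ := od_inv (α (t0 * b0))
    (fun e => M.not_D K e (hα _ ▸ M.tb_D.trans (LT.isConj_cn _ _)))
    (by rw [← map_mul, show t0 * b0 * (t0 * b0) = 1 by decide +kernel, map_one])
    ⟨α (y0 * b0 * a0), by rw [← map_mul, ← map_mul]; exact congrArg α (by decide +kernel), by
      rw [← map_mul, ← αf]; exact congrArg α (by decide +kernel)⟩
    (cnt_tb ▸ (Finset.card_equiv α.toEquiv fun x => by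
      simp only [Finset.mem_filter, Finset.mem_univ, true_and, MulEquiv.toEquiv_eq_coe,
        EquivLike.coe_coe, ← map_mul, α.injective.eq_iff, map_eq_one_iff _ α.injective]).symm)
  obtain ⟨k, -, hk⟩ := K.into _ (S ⊓ centralizer {ψ (t0 * b0)}) M.tb_D hS.isPGroup.to_inf_left
    inf_le_right
  have c1 : Nat.card (S ⊓ centralizer {ψ (t0 * b0)} : Subgroup G) ≤ 32 := by
    rw [← K.cT0, ← hT]
    exact Nat.card_le_card_of_injective (fun x => ⟨_, hk x.1 x.2⟩) fun x y e =>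
      Subtype.ext (H3.LTB.cn_inj (congrArg Subtype.val e))
  have c2 := eq_of_le_of_card_ge (H := (centralizer {t0 * b0}).map ψ)
    (K := S ⊓ centralizer {ψ (t0 * b0)}) (by
      rintro _ ⟨x, hx, rfl⟩
      refine ⟨hR ⟨x, rfl⟩, mem_centralizer_singleton_iff.2 ?_⟩
      rw [← map_mul, mem_centralizer_singleton_iff.1 hx, map_mul])
    (by rwa [card_map_of_injective M.inj, card_tb])
  refine g1 ((mul_mem_cancel_right (inv_mem ⟨s, rfl⟩ : (ψ s)⁻¹ ∈ ψ.range)).1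
    (map_le_range _ _ (c2.ge ⟨S.mul_mem gS (S.inv_mem (hR ⟨s, rfl⟩)),
      mem_centralizer_singleton_iff.2 (comm_of_cn ?_).symm⟩)))
  rw [← LT.cn_cn, ← hα, hs, ← cn_map, LT.cn_cn, mul_inv_cancel]
  simp [cn]

theorem xx1 (hk : KitStmt.{u}) : XX1Stmt.{u} := by
  intro G _ _ h
  have K := hk G h.toHyp
  obtain ⟨ψ, M⟩ := exists_md h
  by_contra tX
  have cX : ∀ x y z : Mo, x⁻¹ * y⁻¹ * x * y = z → ψ z ∈ h.X := by
    rintro x y _ rfl
    simpa using K.cmX (ψ x) (ψ y)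
  have fX : h.f ∈ h.X := M.f ▸ cX t0 y0 _ (by decide +kernel)
  have YX : ψ Y0 ∈ h.X := cX b0 m0 _ (by decide +kernel)
  have PX : h.P ≤ h.X := (closure_le _).2 (by rintro _ (rfl | rfl); exacts [K.aX.2.2, fX])
  have mX : h.m ∈ h.X := by
    obtain ⟨c, e⟩ := isConj_iff.1 h.mY'
    refine e ▸ h.Xn.conj_mem _ ?_ c
    rcases M.Y with ⟨e, -⟩ | ⟨e, -⟩
    exacts [e ▸ YX, (mul_mem_cancel_right fX).1 (e ▸ YX)]
  have yX : h.y ∈ h.X := (mul_mem_cancel_left K.aX.1).1 (inv_mem_iff.1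
    ((mul_mem_cancel_right (h.Xn.conj_mem' _ K.aX.1 h.n)).1 (PX h.an)))
  have NX := M.ev h.X mX YX yX K.aX.2.1 K.aX.1 K.aX.2.2 fX
  obtain ⟨S, hS, hR⟩ := exists_isSyl_ge (two_range ψ) le_top
  have mS : ∀ x, ψ x ∈ S := fun x => hR ⟨x, rfl⟩
  let C := S ⊓ h.X ⊓ centralizer {ψ a0, ψ Y0, ψ z0, ψ m0}
  have mC : ∀ c, c ∈ C ↔ (c ∈ S ∧ c ∈ h.X) ∧ Commute (ψ a0) c ∧ Commute (ψ Y0) c ∧
      Commute (ψ z0) c ∧ Commute (ψ m0) c := fun c => by
    simp [C, mem_centralizer_iff, commute_iff_eq]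
  have cf : ∀ c ∈ C, Commute (ψ f0) c := fun c hc => by
    obtain ⟨-, h1, h2, -⟩ := (mC c).1 hc
    rw [show f0 = a0 * Y0 * a0 * Y0 by decide +kernel, map_mul, map_mul, map_mul]
    exact ((h1.mul_left h2).mul_left h1).mul_left h2
  have pull : ∀ {x y : Mo}, Commute (ψ x) (ψ y) → x * y = y * x := fun e =>
    M.inj (by rw [map_mul, map_mul, e.eq])
  have rg : ∀ c ∈ S, Commute h.t c → Commute (ψ a0) c → c ∈ ψ.range := fun c h1 h2 h3 =>
    M.T0_le (mem_T0_of K hS.isPGroup (M.T0_le.trans hR) h1 h2 (M.a ▸ h3))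
  have st : ∀ c ∈ C, cn h.t c = h.t ∨ cn h.t c = h.t * h.f → c = 1 ∨ c = h.f := fun c hc e => by
    obtain ⟨⟨h1, h2⟩, h3, h4, h5, h6⟩ := (mC c).1 hc
    obtain ⟨x, rfl⟩ : c ∈ ψ.range := by
      rcases e with e | e
      · exact rg c h1 (comm_of_cn e) h3
      · refine (mul_mem_cancel_right (⟨_, M.y⟩ : h.y ∈ ψ.range)).1 (rg _ (mul_mem h1 (M.y ▸ mS _))
          (comm_of_cn ?_) (h3.mul_right (M.a ▸ h.ya.symm)))
        rw [← LT.cn_cn, e, LT.cn_mul, h.ty, cn_comm h.yf.symm, mul_assoc, h.ff, mul_one]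
    obtain ⟨k1, k2⟩ := cM1 x (pull h3) (pull h4) (pull h5) (pull h6)
    rcases (by decide +kernel : ∀ x, t0 * x ∈ N0 ∨ x ∈ N0) x with k | k
    · exact absurd ((mul_mem_cancel_right h2).1 (M.t ▸ map_mul ψ t0 x ▸ NX _ k)) tX
    · exact (k1 (k2 k)).imp (fun e => by rw [e, map_one]) fun e => by rw [e, M.f]
  have tN : h.t ∈ normalizer (C : Set G) := H3.LTB.mem_N fun c hc => by
    obtain ⟨⟨h1, h2⟩, h3, h4, h5, h6⟩ := (mC c).1 hc
    have k : ∀ x y : Mo, t0⁻¹ * x * t0 = y → Commute (ψ x) c → Commute (ψ y) (cn c h.t) := by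
      rintro x _ rfl e
      rw [← cn_map, M.t]; exact H3.LTB.comm_cn e _
    exact (mC _).2 ⟨⟨mul_mem (mul_mem (inv_mem (M.t ▸ mS _)) h1) (M.t ▸ mS _),
      h.Xn.conj_mem' _ h2 _⟩, k a0 _ (by decide +kernel) h3,
      k (Y0 * z0 * f0) _ (by decide +kernel) (by
        rw [map_mul, map_mul]; exact (h4.mul_left h5).mul_left (cf c hc)),
      k z0 _ (by decide +kernel) h5, k (m0 * a0 * f0) _ (by decide +kernel) (by
        rw [map_mul, map_mul]; exact (h6.mul_left h3).mul_left (cf c hc))⟩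
  have fC : h.f ∈ C := by
    have k : ∀ x, Commute (ψ x) h.f := fun x => by
      rw [← M.f, commute_iff_eq, ← map_mul, f0_cen, map_mul]
    exact (mC _).2 ⟨⟨M.f ▸ mS _, fX⟩, k _, k _, k _, k _⟩
  have mQ : ∀ u ∈ closure {h.t, h.f}, u ∈ h.X ∨ u = h.t ∨ u = h.t * h.f := fun u hu => by
    have := H3.LTB.cases_closure (K := zpowers h.f) (a := h.t) (centralizer_le_normalizer _ (by
      rintro _ ⟨n, rfl⟩; exact (h.tf.symm.zpow_left n).eq)) h.tt (s := {h.t, h.f}) (by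
        rintro x (rfl | rfl); exacts [Or.inr rfl, Or.inl (mem_zpowers _)]) hu
    refine this.imp (fun k => zpowers_le.2 fX k) fun k => ?_
    have ti := inv_eq_of_mul_eq_one_right h.tt
    obtain ⟨n, e⟩ := k
    rcases Int.even_or_odd' n with ⟨j, rfl | rfl⟩
    · exact Or.inl ((eq_inv_of_mul_eq_one_left (by simpa [zpow_mul, sq, h.ff] using e.symm)).trans ti)
    · exact Or.inr (by rw [eq_mul_inv_of_mul_eq (show u * h.t = h.f by
        simpa [zpow_add, zpow_mul, sq, h.ff] using e.symm), ti, h.tf.eq])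
  have st2 : ∀ c ∈ C, c = 1 ∨ c = h.f := by
    have tQ : h.t ∈ closure {h.t, h.f} := subset_closure (by simp)
    have fQ : h.f ∈ closure {h.t, h.f} := subset_closure (by simp)
    have k : ∀ c ∈ C, c ∈ normalizer (closure {h.t, h.f} : Set G) → c = 1 ∨ c = h.f :=
      fun c hc hn => st c hc ((mQ _ (cn_mem hn tQ)).resolve_left fun e =>
        tX (by simpa [cn, mul_assoc] using h.Xn.conj_mem _ e c))
    have le : closure {h.t, h.f} ≤ closure (insert h.t C) := closure_mono (by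
      rintro _ (rfl | rfl); exacts [Or.inl rfl, Or.inr fC])
    rcases le.eq_or_lt with e | lt
    · exact fun c hc => k c hc (le_normalizer (e.ge (subset_closure (Or.inr hc))))
    · obtain ⟨g, ⟨g1, g2⟩, g3⟩ := SetLike.exists_of_lt (lt_inf_normalizer_of_lt
        (hS.isPGroup.to_le ((closure_le _).2 (by
          rintro _ (rfl | k); exacts [M.t ▸ mS _, k.1.1]))) lt)
      rcases H3.LTB.cases_closure tN h.tt (fun x hx => Or.symm hx) g1 with e | e
      · exact absurd (by rcases k g e g2 with rfl | rfl; exacts [one_mem _, fQ]) g3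
      · refine absurd ((mul_mem_cancel_right tQ).1 ?_) g3
        rcases k _ e (mul_mem g2 (le_normalizer tQ)) with e | e <;> rw [e]
        exacts [one_mem _, fQ]
  have mX' : ∀ x ∈ N0, ψ x ∈ S ⊓ h.X := fun x hx => ⟨mS x, NX x hx⟩
  have push : ∀ {x y : Mo}, x = y → ψ x = ψ y := congrArg ψ
  have sec := LT.sec_dd (G := ↥(S ⊓ h.X)) hS.isPGroup.to_inf_left
    (z := ⟨_, mX' f0 (by decide)⟩) (a := ⟨_, mX' a0 (by decide)⟩) (b := ⟨_, mX' Y0 (by decide)⟩)
    (c := ⟨_, mX' z0 (by decide)⟩) (d := ⟨_, mX' m0 (by decide)⟩)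
    (fun e => absurd (M.inj ((congrArg Subtype.val e).trans (map_one ψ).symm)) (by decide))
    ?_ ?_ ?_ ?_ ?_ ?_ ?_ ?_ ?_ ?_ ?_ ?_ ?_ ?_ ?_ fun c h1 h2 h3 h4 =>
      (st2 c ((mC c).2 ⟨c.2, congrArg Subtype.val h1, congrArg Subtype.val h2,
        congrArg Subtype.val h3, congrArg Subtype.val h4⟩)).imp Subtype.ext
        fun e => Subtype.ext (e.trans M.f.symm)
  · exact h.X5 (H2.Sec.sectional (k := 4) (H2.Sec.of_sylow (K.sylX S hS).toSylow
      (sec.inj (subgroupOfEquivOfLe (K.sylX S hS).le).toMonoidHom (MulEquiv.injective _))))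
  all_goals
    refine Subtype.ext ?_
    simp only [coe_mul, coe_one, ← map_mul, ← map_one ψ]
    exact push (by decide +kernel)

end Cfsg.Agent.H60.LTX
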