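import Cfsg.Agent.H98.MlCj

/-!
# Transvections in a group without nice offenders
-/

set_option autoImplicit false
set_option linter.unusedSectionVars false

namespace Cfsg.Agent.H60.ML

open Subgroup Cfsg.Agent.H83 Cfsg.Agent.H1.ML Cfsg.Agent.H98.ML
open scoped commutatorElement

variable {G M : Type*} [Group G] [AddCommGroup M] [DistribMulAction G M]

/-- elements that fix the axis of `a` and act trivially modulo its `2`-torsion -/
def Ax (M : Type*) [AddCommGroup M] [DistribMulAction G M] (a : G) : Subgroup G where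
  carrier := {g | ∀ d : M, (a • d = d → g • d = d) ∧ a • (g • d - d) = g • d - d ∧
    (g • d - d) + (g • d - d) = 0}
  one_mem' d := by simp
  mul_mem' {g k} h1 h2 d := by
    have e : (g * k) • d - d = (k • d - d) + (g • d - d) := by
      rw [← (h1 _).1 (h2 d).2.1, smul_sub, mul_smul]; abel
    refine ⟨fun x => by rw [mul_smul, (h2 d).1 x, (h1 d).1 x], ?_, ?_⟩
    · rw [e, smul_add, (h2 d).2.1, (h1 d).2.1]
    · rw [e, add_add_add_comm, (h2 d).2.2, (h1 d).2.2, add_zero]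
  inv_mem' {g} h d := by
    have e : g⁻¹ • d - d = -(g • g⁻¹ • d - g⁻¹ • d) := by rw [smul_inv_smul, neg_sub]
    refine ⟨fun x => by rw [inv_smul_eq_iff, (h d).1 x], ?_, ?_⟩
    · rw [e, smul_neg, (h _).2.1]
    · rw [e, ← neg_add, (h _).2.2, neg_zero]

theorem Ax_mul {a g k : G} (h1 : g ∈ Ax M a) (h2 : k ∈ Ax M a) (d : M) :
    (g * k) • d = d + ((k • d - d) + (g • d - d)) := by
  rw [← (h1 _).1 (h2 d).2.1, smul_sub, mul_smul]; abel

variable {a a' b : G} {v w : M} {N T P : Subgroup G}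

theorem tv_ne_one (h : Tv a v) : a ≠ 1 := fun e =>
  let ⟨d, hd⟩ := h.ex
  hd (by rw [e, one_smul])

theorem tv_mem_Ax (hb : Tv b w) (h : ∀ d : M, a • d = d → b • d = d) (h' : a • w = w) :
    b ∈ Ax M a := fun d => ⟨h d, by
  rcases hb.alt d with x | x <;> simp [x, h', tv_two hb]⟩

/-- a transvection that moves `d` adds its vector -/
theorem tv_add (h : Tv a v) {d : M} (e : a • d ≠ d) : a • d = d + v := (h.alt d).resolve_left e

theorem tv_pg (ff : Ff M G) (h : Tv a v) : IsPGroup 2 (zpowers a) :=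
  isPGroup_zpowers (k := 1) (by rw [pow_one, sq, tv_sq ff h])

variable [Finite G]

/-- an element that conjugates the transvections of `T` into `T` normalises `J(T)` -/
theorem JJ_norm {g : G} (h : ∀ c ∈ T, ∀ u : M, Tv c u → g * c * g⁻¹ ∈ T) :
    g ∈ normalizer (JJ (Tz M) T : Set G) :=
  cj_eq_self_iff.1 (eq_of_le_of_card_ge (map_le_iff_le_comap.2 (sSup_le (by
    rintro _ ⟨h1, c, u, hc, rfl⟩
    exact zpowers_le.2 (tv_mem_JJ (tv_cj hc g) (h c (h1 (mem_zpowers c)) u hc))))) (card_cj _ _).ge)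

theorem le_norm_JJ : T ≤ normalizer (JJ (Tz M) T : Set G) := fun _ hg =>
  JJ_norm fun _ hc _ _ => mul_mem (mul_mem hg hc) (inv_mem hg)

omit [Finite G] in
theorem JJ_le_of {K : Subgroup G} (h : ∀ c ∈ T, ∀ u : M, Tv c u → c ∈ K) : JJ (Tz M) T ≤ K :=
  sSup_le (by
    rintro _ ⟨h1, c, u, hc, rfl⟩
    exact zpowers_le.2 (h c (h1 (mem_zpowers c)) u hc))

theorem nn_of_syl (hT : IsSylowIn 2 T N) (nn : ∀ A ≤ T, ¬ Nice M 2 A) : ∀ A ≤ N, ¬ Nice M 2 A :=
  fun _ hA h =>
    let ⟨g, _, e⟩ := hT.exists_conj_le hA h.1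
    nn _ e (nice_cj h g)

variable [Finite M] (ff : Ff M G) (nn : ∀ A ≤ N, ¬ Nice M 2 A)
include ff nn

/-- K1: a transvection is determined by its axis -/
theorem k1 (ha : Tv a v) (hb : Tv b w) (aN : a ∈ N) (bN : b ∈ N)
    (h : ∀ d : M, a • d = d ↔ b • d = d) : a = b := by
  by_contra ne
  have aA : a ∈ N ⊓ Ax M a := ⟨aN, tv_mem_Ax ha (fun _ => id) ha.fix⟩
  have bA : b ∈ N ⊓ Ax M a := ⟨bN, tv_mem_Ax hb (fun d => (h d).1) ((h w).2 hb.fix)⟩
  have ax : ∀ y ∈ N ⊓ Ax M a, y ≠ 1 → ∀ d : M, y • d = d → a • d = d := fun y hy y1 d e => by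
    by_contra x
    refine y1 (ff y fun d' => by_contra fun x' => x' ?_)
    have := (hy.2 (d' - d)).1 (by
      rw [smul_sub, tv_add ha x, tv_add ha fun k => x' ((hy.2 d').1 k), add_sub_add_right_eq_sub])
    rwa [smul_sub, e, sub_left_inj] at this
  refine nn (N ⊓ Ax M a) inf_le_left ⟨isPGroup_iff.2 fun x hx => ⟨1, ff _ fun d => ?_⟩,
    fun e => tv_ne_one ha (mem_bot.1 (e ▸ aA)), ⟨fun x hx y hy => ?_, fun B hB _ => ?_⟩,
    fun B hB hi u hu h2 x hx _ => ?_⟩
  · rw [pow_one, sq, Ax_mul hx.2 hx.2, (hx.2 d).2.2, add_zero]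
  · rw [commutatorElement_eq_one_iff_mul_comm.2 (mul_inv_eq_one.1 (ff _ fun d => ?_))]
    · exact one_mem _
    · obtain ⟨d, rfl⟩ := (MulAction.toPerm (y * x)).surjective d
      rw [MulAction.toPerm_apply, mul_smul, inv_smul_smul, Ax_mul hx.2 hy.2, Ax_mul hy.2 hx.2,
        add_comm (y • d - d)]
  · rcases hB.eq_or_lt with rfl | lt
    · rw [relIndex_self, one_mul]
    have h1 : 2 ≤ B.relIndex (N ⊓ Ax M a) := by
      have h0 : B.relIndex (N ⊓ Ax M a) ≠ 0 := index_ne_zero_of_finite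
      have h1 : B.relIndex (N ⊓ Ax M a) ≠ 1 := fun e => lt.not_ge (relIndex_eq_one.1 e)
      omega
    have h2 := (tv_bo ha).2 ⊥ bot_le fun x hx => mem_bot.2 (ff x fun d => hx.2 d trivial)
    rw [relIndex_bot_left, Nat.card_zpowers, orderOf_eq_prime (by rw [sq, tv_sq ff ha])
      (tv_ne_one ha)] at h2
    calc _ ≤ _ := AddSubgroup.card_le_of_le (inf_le_inf_left _ fun d _ x hx => by
          rw [mem_bot.1 hx, one_smul])
      _ ≤ _ := h2
      _ ≤ _ := Nat.mul_le_mul h1 (AddSubgroup.card_le_of_le (inf_le_inf_left _ fun d hd =>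
          mem_fx.2 fun x hx => (hx.2 d).1 (hd a (mem_zpowers a))))
  · have : a • u = u := by
      by_cases h3 : a ∈ B
      · exact hu a h3
      by_cases h4 : b ∈ B
      · exact (h u).2 (hu b h4)
      have h5 : a * b ∈ B := (mul_mem_iff_of_index_two (H := B.subgroupOf (N ⊓ Ax M a)) hi
        (a := ⟨a, aA⟩) (b := ⟨b, bA⟩)).2 (iff_of_false h3 h4)
      exact ax _ (hB h5) (fun e => ne (by
        rw [← tv_inv ff ha, inv_eq_of_mul_eq_one_right e])) u (hu _ h5)
    rw [Finset.sum_range_succ, Finset.sum_range_one, pow_zero, one_smul, pow_one, (hx.2 u).1 this,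
      ← two_nsmul, h2]

/-- K2 -/
theorem k2 (ha : Tv a v) (hb : Tv b w) (aN : a ∈ N) (bN : b ∈ N) (h : a • w = w) : b • v = v := by
  refine tv_comm ha (mul_inv_eq_iff_eq_mul.1 (k1 ff nn (tv_cj ha b) ha
    (mul_mem (mul_mem bN aN) (inv_mem bN)) aN fun d => ?_))
  rw [mul_smul, mul_smul, ← eq_inv_smul_iff, tv_inv ff hb]
  rcases hb.alt d with x | x <;> rw [x]
  rw [smul_add, h, add_left_inj]

/-- K3 -/
theorem k3 (ha : Tv a v) (hb : Tv b w) (aN : a ∈ N) (bN : b ∈ N) (h : a • w = w) :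
    a * b = b * a := by
  have h' := k2 ff nn ha hb aN bN h
  refine mul_inv_eq_one.1 (ff _ fun d => ?_)
  obtain ⟨d, rfl⟩ := (MulAction.toPerm (b * a)).surjective d
  rw [MulAction.toPerm_apply, mul_smul, inv_smul_smul]
  rcases ha.alt d with x | x <;> rcases hb.alt d with y | y <;>
    simp only [mul_smul, smul_add, x, y, h, h', add_right_comm]

/-- K7 -/
theorem k7 (ha : Tv a v) (hb : Tv b w) (aN : a ∈ N) (bN : b ∈ N) (h : a • w ≠ w) :
    a * b * a = b * a * b := tv_braid ff ha hb (fun e => h (k2 ff nn hb ha bN aN e)) h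

/-- K5: the transvections of a `2`-subgroup fix each other's vectors -/
theorem k5 (hP : IsPGroup 2 P) (PN : P ≤ N) (ha : Tv a v) (hb : Tv b w) (aP : a ∈ P) (bP : b ∈ P) :
    a • w = w := by
  by_contra h
  obtain ⟨k, hk⟩ := isPGroup_iff.1 hP _ (mul_mem aP bP)
  have h3 : (a * b) ^ 3 = 1 := by
    have : (a * b) ^ 3 = a * b * a * (b * a * b) := by simp [pow_succ, mul_assoc]
    rw [this, k7 ff nn ha hb (PN aP) (PN bP) h]
    simp only [mul_assoc]
    rw [← mul_assoc b b, tv_sq ff hb, one_mul, ← mul_assoc a a, tv_sq ff ha, one_mul, tv_sq ff hb]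
  have := pow_gcd_eq_one.2 ⟨hk, h3⟩
  rw [Nat.Coprime.gcd_eq_one (Nat.Coprime.pow_left k (by decide)), pow_one] at this
  exact h (by rw [← tv_inv ff ha, inv_eq_of_mul_eq_one_right this, hb.fix])

theorem k5c (hP : IsPGroup 2 P) (PN : P ≤ N) (ha : Tv a v) (hb : Tv b w) (aP : a ∈ P)
    (bP : b ∈ P) : a * b = b * a := k3 ff nn ha hb (PN aP) (PN bP) (k5 ff nn hP PN ha hb aP bP)

/-- K6: two transvections with the same vector have no joined partner -/
theorem k6 (ha : Tv a v) (ha' : Tv a' v) (hb : Tv b w) (aN : a ∈ N) (aN' : a' ∈ N) (bN : b ∈ N)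
    (h : b • v ≠ v) : a = a' := by
  by_contra ne
  refine h (k2 ff nn (a := a * a') ⟨fun d => ?_, by_contra fun x => ne ?_, ?_⟩ hb (mul_mem aN aN')
    bN ?_)
  · rcases ha.alt d with x | x <;> rcases ha'.alt d with y | y <;>
      simp [mul_smul, x, y, ha.fix, add_assoc, tv_two ha]
  · rw [← tv_inv ff ha, inv_eq_of_mul_eq_one_right (ff _ (by simpa using x))]
  · rw [mul_smul, ha'.fix, ha.fix]
  · rw [mul_smul, tv_add ha' fun e => h (k2 ff nn ha' hb aN' bN e), smul_add, ha.fix,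
      tv_add ha fun e => h (k2 ff nn ha hb aN bN e), add_assoc, tv_two ha, add_zero]

/-- a transvection that commutes with all transvections of a Sylow subgroup lies in it -/
theorem kmax (hT : IsSylowIn 2 T N) (ha : Tv a v) (aN : a ∈ N)
    (h : ∀ c ∈ T, ∀ u : M, Tv c u → a * c = c * a) : a ∈ T := by
  obtain ⟨g, -, e⟩ := hT.exists_conj_le (P := zpowers a ⊔ JJ (Tz M) T)
    (sup_le (zpowers_le.2 aN) ((JJ_le _ _).trans hT.le))
    (isPGroup_sup (tv_pg ff ha) (hT.isPGroup.to_le (JJ_le _ _)) (zpowers_le.2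
      (JJ_norm fun c hc u hu => by rwa [h c hc u hu, mul_inv_cancel_right])))
  have hg : g ∈ normalizer (JJ (Tz M) T : Set G) :=
    JJ_norm fun c hc u hu => e (conj_mem_cj (mem_sup_right (tv_mem_JJ hu hc)))
  exact JJ_le _ _ ((mem_normalizer_iff.1 hg a).2
    (tv_mem_JJ (tv_cj ha g) (e (conj_mem_cj (mem_sup_left (mem_zpowers a))))))

end Cfsg.Agent.H60.ML
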