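import Mathlib
import Cfsg.Agent.H1.Nilp

/-!
The group-theoretic half of O'Nan's characterisation of `PSL(n, q)`: a doubly transitive group
with an abelian normal subgroup of the point stabiliser that is not semiregular acts on a linear
space in which that subgroup is a transitive group of elations.
-/

set_option autoImplicit false

namespace Cfsg.Agent.H60

open MulAction
open scoped Pointwise

variable {G X : Type*} [Group G] [MulAction G X]

/-- The hypotheses of O'Nan's theorem, for the family of all conjugates. -/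
structure ONan (p : ℕ) (N : X → Subgroup G) : Prop where
  prime : p.Prime
  faithful : ∀ g : G, (∀ x : X, g • x = x) → g = 1
  two : ∀ a b c d : X, a ≠ b → c ≠ d → ∃ g : G, g • a = c ∧ g • b = d
  conj : ∀ (g : G) (x : X), ∀ n ∈ N x, g * n * g⁻¹ ∈ N (g • x)
  fix : ∀ x : X, ∀ n ∈ N x, n • x = x
  comm : ∀ x : X, ∀ a ∈ N x, ∀ b ∈ N x, a * b = b * a
  pgrp : ∀ x : X, IsPGroup p (N x)
  nsr : ∃ x y : X, x ≠ y ∧ ∃ n ∈ N x, n ≠ 1 ∧ n • y = y

/-- The line through `x` and `y`: the fixed points of the stabiliser of `y` in `N x`. -/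
def oLine (N : X → Subgroup G) (x y : X) : Set X := {z | ∀ l ∈ N x, l • y = y → l • z = z}

/-- The smallest set containing `x` and `y` that is invariant under `N u` for each of its points. -/
def oSpan (N : X → Subgroup G) (x y : X) : Set X :=
  {z | ∀ S : Set X, (∀ u ∈ S, ∀ n ∈ N u, ∀ w ∈ S, n • w ∈ S) → x ∈ S → y ∈ S → z ∈ S}

namespace ONan

variable {p : ℕ} {N : X → Subgroup G} (h : ONan p N)
include h

theorem conj_iff (g : G) {x : X} {n : G} : g * n * g⁻¹ ∈ N (g • x) ↔ n ∈ N x :=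
  ⟨fun hn => by simpa [mul_assoc] using h.conj g⁻¹ _ _ hn, h.conj g x n⟩

theorem conj_of_fix {g : G} {x : X} (hg : g • x = x) {n : G} (hn : n ∈ N x) : g * n * g⁻¹ ∈ N x :=
  hg ▸ h.conj g x n hn

theorem card_inf_smul (g : G) (x y : X) :
    Nat.card (N (g • x) ⊓ stabilizer G (g • y) : Subgroup G) =
      Nat.card (N x ⊓ stabilizer G y : Subgroup G) := by
  symm
  refine Nat.card_congr (Equiv.subtypeEquiv (MulAut.conj g).toEquiv fun n => ?_)
  simp only [Subgroup.mem_inf, MulEquiv.toEquiv_eq_coe, EquivLike.coe_coe, MulAut.conj_apply,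
    h.conj_iff, mem_stabilizer_iff, mul_smul, inv_smul_smul, smul_left_cancel_iff]

theorem card_inf_eq {x y u w : X} (hxy : x ≠ y) (huw : u ≠ w) :
    Nat.card (N x ⊓ stabilizer G y : Subgroup G) = Nat.card (N u ⊓ stabilizer G w : Subgroup G) := by
  obtain ⟨g, rfl, rfl⟩ := h.two x y u w hxy huw
  exact (h.card_inf_smul g x y).symm

theorem exists_ne_one {x y : X} (hxy : x ≠ y) : ∃ n ∈ N x, n ≠ 1 ∧ n • y = y := by
  obtain ⟨a, b, hab, n, hn, hn1, hnb⟩ := h.nsr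
  obtain ⟨g, rfl, rfl⟩ := h.two a b x y hab hxy
  exact ⟨_, h.conj g a n hn, by simpa using hn1, by rw [mul_smul, inv_smul_smul, mul_smul, hnb]⟩

theorem exists_smul_ne {x y : X} (hxy : x ≠ y) : ∃ n ∈ N x, n • y ≠ y := by
  by_contra hh
  push Not at hh
  obtain ⟨n, hn, hn1, -⟩ := h.exists_ne_one hxy
  refine hn1 (h.faithful n fun z => ?_)
  by_cases hz : x = z
  · exact hz ▸ h.fix x n hn
  obtain ⟨g, h1, rfl⟩ := h.two x y x z hxy hz
  have := hh (g⁻¹ * n * g) (by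
    simpa using h.conj_of_fix (g := g⁻¹) (by rw [inv_smul_eq_iff, h1]) hn)
  rwa [mul_smul, mul_smul, inv_smul_eq_iff] at this

theorem smul_mem_oSpan (g : G) {x y z : X} (hz : z ∈ oSpan N x y) :
    g • z ∈ oSpan N (g • x) (g • y) := fun S hS hx hy =>
  hz {w | g • w ∈ S} (fun u hu n hn w hw => by
    have := hS _ hu _ (h.conj g u n hn) _ hw
    rwa [mul_smul, inv_smul_smul, mul_smul] at this) hx hy

omit h in
theorem oSpan_closed {x y u w : X} (hu : u ∈ oSpan N x y) (hw : w ∈ oSpan N x y) {n : G}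
    (hn : n ∈ N u) : n • w ∈ oSpan N x y := fun S hS hx hy =>
  hS u (hu S hS hx hy) n hn w (hw S hS hx hy)

theorem oSpan_eq [Finite X] {x y u w : X} (hxy : x ≠ y) (hu : u ∈ oSpan N x y)
    (hw : w ∈ oSpan N x y) (huw : u ≠ w) : oSpan N u w = oSpan N x y := by
  refine Set.eq_of_subset_of_ncard_le
    (fun z hz => hz _ (fun _ h1 _ h2 _ h3 => oSpan_closed h1 h3 h2) hu hw) ?_
  obtain ⟨g, rfl, rfl⟩ := h.two x y u w hxy huw
  exact Set.ncard_le_ncard_of_injOn (g • ·) (fun z hz => h.smul_mem_oSpan g hz)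
    (MulAction.injective g).injOn

/-- The conjugates intersect trivially. -/
theorem eq_one_of_mem [Finite X] {x y : X} (hxy : x ≠ y) {d : G} (hx : d ∈ N x) (hy : d ∈ N y) :
    d = 1 := by
  refine h.faithful d fun z => ?_
  by_contra hz
  have l : ∀ a b : X, a ∈ oSpan N a b := fun a b S _ ha _ => ha
  have r : ∀ a b : X, b ∈ oSpan N a b := fun a b S _ _ hb => hb
  have h1 : z ∉ oSpan N x y := fun h1 => hz (h.fix z d (h1 {u | d ∈ N u} (fun u hu n hn w hw => by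
    have := h.conj n w d hw
    rwa [h.comm u n hn d hu, mul_inv_cancel_right] at this) hx hy))
  have hxz : x ≠ z := fun e => h1 (e ▸ l x y)
  have hyz : y ≠ z := fun e => h1 (e ▸ r x y)
  have h2 := h.oSpan_eq hxz (r x z) (oSpan_closed (l x z) (r x z) hx) (Ne.symm hz)
  have h3 := h.oSpan_eq hyz (r y z) (oSpan_closed (l y z) (r y z) hy) (Ne.symm hz)
  rw [h.oSpan_eq hxz (l x z) (h2 ▸ h3 ▸ l y z) hxy] at h1
  exact h1 (r x z)

theorem smul_eq_of_commute [Finite X] {y : X} {f c : G} (hf : f ∈ N y) (hf1 : f ≠ 1)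
    (hc : c * f = f * c) : c • y = y := by
  by_contra hy
  have := h.conj c y f hf
  rw [hc, mul_inv_cancel_right] at this
  exact hf1 (h.eq_one_of_mem hy this hf)

theorem commute_of_fix [Finite X] {x y : X} (hxy : x ≠ y) {l f : G} (hl : l ∈ N x) (hly : l • y = y)
    (hf : f ∈ N y) (hfx : f • x = x) : l * f = f * l := by
  rw [← mul_inv_eq_one, mul_inv_rev, ← mul_assoc]
  refine h.eq_one_of_mem hxy ?_ ((N y).mul_mem (h.conj_of_fix hly hf) ((N y).inv_mem hf))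
  rw [mul_assoc, mul_assoc, ← mul_assoc f]
  exact (N x).mul_mem hl (h.conj_of_fix hfx ((N x).inv_mem hl))

theorem left_mem (x y : X) : x ∈ oLine N x y := fun l hl _ => h.fix x l hl

omit h in
theorem right_mem (x y : X) : y ∈ oLine N x y := fun _ _ hl => hl

theorem smul_mem_of_mem {x y z : X} (hz : z ∈ oLine N x y) {n : G} (hn : n ∈ N x) :
    n • z ∈ oLine N x y := fun l hl hly => by
  rw [← mul_smul, h.comm x l hl n hn, mul_smul, hz l hl hly]

theorem smul_mem_oLine_iff (g : G) {x y z : X} :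
    g • z ∈ oLine N (g • x) (g • y) ↔ z ∈ oLine N x y := by
  refine ⟨fun hz l hl hly => ?_, fun hz l hl hly => ?_⟩
  · have := hz _ (h.conj g x l hl) (by rw [mul_smul, inv_smul_smul, mul_smul, hly])
    rwa [mul_smul, inv_smul_smul, mul_smul, smul_left_cancel_iff] at this
  · have := hz (g⁻¹ * l * g) (by simpa using h.conj g⁻¹ _ l hl)
      (by rw [mul_smul, mul_smul, hly, inv_smul_smul])
    rwa [mul_smul, mul_smul, inv_smul_eq_iff] at this

variable [Finite G] [Finite X]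

theorem exists_fix_of_mem {x y z : X} (hxy : x ≠ y) (hz : z ∈ oLine N x y) (hyz : y ≠ z) :
    ∃ f ∈ N y, f ≠ 1 ∧ f • x = x ∧ f • z = z := by
  have := Fact.mk h.prime
  have h1 := H1.inf_centralizer_ne_bot_of_isPGroup (N := N y ⊓ stabilizer G z)
    (P := N x ⊓ stabilizer G y) (h.pgrp y).to_inf_left (h.pgrp x).to_inf_left (by
      rintro l ⟨hl, hly⟩
      refine Subgroup.mem_normalizer_fintype ?_
      rintro f ⟨hf, hfz⟩
      refine ⟨h.conj_of_fix hly hf, ?_⟩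
      have h2 := hz l hl hly
      change (l * f * l⁻¹) • z = z
      rw [mul_smul, mul_smul, inv_smul_eq_iff.2 h2.symm, show f • z = z from hfz, h2]) (by
      obtain ⟨n, hn, hn1, hnz⟩ := h.exists_ne_one hyz
      exact fun e => hn1 (Subgroup.mem_bot.1 (e ▸ ⟨hn, hnz⟩)))
  obtain ⟨⟨f, ⟨hf, hfz⟩, hfc⟩, hf1⟩ := Subgroup.ne_bot_iff_exists_ne_one.1 h1
  obtain ⟨l, hl, hl1, hly⟩ := h.exists_ne_one hxy
  exact ⟨f, hf, fun e => hf1 (Subtype.ext e),
    h.smul_eq_of_commute hl hl1 (Subgroup.mem_centralizer_iff.1 hfc l ⟨hl, hly⟩).symm, hfz⟩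

/-- The stabiliser of `x` in `N y` fixes the `N x`-orbit of `y`. -/
theorem smul_smul_eq {x y : X} (hxy : x ≠ y) {n g : G} (hn : n ∈ N x) (hg : g ∈ N y)
    (hgx : g • x = x) : g • n • y = n • y := by
  by_cases hy : y = n • y
  · rw [← hy, h.fix y g hg]
  obtain ⟨f, hf, hf1, hfx, hfz⟩ := h.exists_fix_of_mem hxy (h.smul_mem_of_mem (right_mem x y) hn) hy
  have h1 : n⁻¹ * (f * n * f⁻¹) ∈ N x := (N x).mul_mem ((N x).inv_mem hn) (h.conj_of_fix hfx hn)
  have h2 : (n⁻¹ * (f * n * f⁻¹)) • y = y := by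
    rw [mul_smul, mul_smul, mul_smul, h.fix y _ ((N y).inv_mem hf), hfz, inv_smul_smul]
  have h3 : n⁻¹ * (g * n * g⁻¹) ∈ N x := (N x).mul_mem ((N x).inv_mem hn) (h.conj_of_fix hgx hn)
  have h4 := h.commute_of_fix hxy h1 h2 hg hgx
  have h5 := h.comm y f hf g hg
  have h6 := h.comm x _ h1 _ h3
  have h7 : n⁻¹ * (g * n * g⁻¹) * f = f * (n⁻¹ * (g * n * g⁻¹)) := by
    generalize hc : n⁻¹ * (f * n * f⁻¹) = c at h4 h6
    have h8 : f * n * f⁻¹ = n * c := by rw [← hc]; group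
    symm
    rw [← mul_inv_eq_iff_eq_mul]
    calc f * (n⁻¹ * (g * n * g⁻¹)) * f⁻¹
        = f * n⁻¹ * f⁻¹ * (f * g) * n * (f * g)⁻¹ := by group
      _ = f * n⁻¹ * f⁻¹ * (g * f) * n * (g * f)⁻¹ := by rw [h5]
      _ = (f * n * f⁻¹)⁻¹ * g * (f * n * f⁻¹) * g⁻¹ := by group
      _ = c⁻¹ * (n⁻¹ * (g * n * g⁻¹)) * (g * c) * g⁻¹ := by rw [h8]; group
      _ = c⁻¹ * (n⁻¹ * (g * n * g⁻¹) * c) := by rw [← h4]; group
      _ = _ := by rw [← h6]; group
  have h9 := h.smul_eq_of_commute hf hf1 h7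
  rwa [mul_smul, mul_smul, mul_smul, h.fix y _ ((N y).inv_mem hg), inv_smul_eq_iff] at h9

/-- Commutation with an element of `N x` moving `y` maps `(N y)_x` onto `(N x)_y`. -/
theorem exists_commutator_eq {x y : X} (hxy : x ≠ y) {n l : G} (hn : n ∈ N x) (hny : n • y ≠ y)
    (hl : l ∈ N x) (hly : l • y = y) : ∃ g ∈ N y, g • x = x ∧ n⁻¹ * (g * n * g⁻¹) = l := by
  let φ : (N y ⊓ stabilizer G x : Subgroup G) → (N x ⊓ stabilizer G y : Subgroup G) := fun g =>
    ⟨n⁻¹ * (g * n * (g : G)⁻¹), (N x).mul_mem ((N x).inv_mem hn) (h.conj_of_fix g.2.2 hn), by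
      change (n⁻¹ * (g * n * (g : G)⁻¹)) • y = y
      rw [mul_smul, mul_smul, mul_smul, h.fix y _ ((N y).inv_mem g.2.1),
        h.smul_smul_eq hxy hn g.2.1 g.2.2, inv_smul_smul]⟩
  have h1 : Function.Injective φ := by
    intro g g' e
    have h2 : (g : G) * n * (g : G)⁻¹ = g' * n * (g' : G)⁻¹ := mul_left_cancel (Subtype.mk.inj e)
    by_contra hne
    refine hny (h.smul_eq_of_commute (f := (g' : G)⁻¹ * g) (g'⁻¹ * g).2.1
      (fun e => hne (Subtype.ext (inv_mul_eq_one.1 e).symm)) ?_)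
    calc n * ((g' : G)⁻¹ * g) = (g' : G)⁻¹ * (g' * n * (g' : G)⁻¹) * g := by group
      _ = _ := by rw [← h2]; group
  obtain ⟨g, hg⟩ := (h1.bijective_of_nat_card_le (h.card_inf_eq hxy hxy.symm).le).2 ⟨l, hl, hly⟩
  exact ⟨g, g.2.1, g.2.2, Subtype.mk.inj hg⟩

theorem fix_of_fix {x y u w : X} (hxy : x ≠ y) (huw : u ≠ w)
    (hle : ∀ l ∈ N x, l • y = y → l ∈ N u ∧ l • w = w) :
    ∀ l ∈ N u, l • w = w → l ∈ N x ∧ l • y = y := by
  have : N x ⊓ stabilizer G y = N u ⊓ stabilizer G w :=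
    Subgroup.eq_of_le_of_card_ge (fun l hl => hle l hl.1 hl.2) (h.card_inf_eq huw hxy).le
  intro l hl hlw
  exact (this ▸ ⟨hl, hlw⟩ : l ∈ N x ⊓ stabilizer G y)

theorem oLine_subset_symm {x y : X} (hxy : x ≠ y) : oLine N x y ⊆ oLine N y x := by
  intro z hz f hf hfx
  by_cases hyz : y = z
  · exact hyz ▸ h.fix y f hf
  by_cases hK : ∀ n ∈ N y, n • z = z → n • x = x
  · exact (h.fix_of_fix hyz hxy.symm (fun l hl hlz => ⟨hl, hK l hl hlz⟩) f hf hfx).2
  push Not at hK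
  obtain ⟨n, hn, hnz, hnx⟩ := hK
  obtain ⟨l, hl, hly, rfl⟩ := h.exists_commutator_eq hxy.symm hn hnx hf hfx
  have h1 := hz l hl hly
  rw [mul_smul, mul_smul, mul_smul, inv_smul_eq_iff.2 h1.symm, hnz, h1, inv_smul_eq_iff, hnz]

theorem oLine_symm {x y : X} (hxy : x ≠ y) : oLine N x y = oLine N y x :=
  (h.oLine_subset_symm hxy).antisymm (h.oLine_subset_symm hxy.symm)

theorem oLine_eq_left {x y z : X} (hxy : x ≠ y) (hz : z ∈ oLine N x y) (hxz : x ≠ z) :
    oLine N x z = oLine N x y :=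
  Set.ext fun _ => ⟨fun hw l hl hly => hw l hl (hz l hl hly), fun hw l hl hlz => hw l hl
    (h.fix_of_fix hxy hxz (fun l hl hly => ⟨hl, hz l hl hly⟩) l hl hlz).2⟩

/-- Two points lie on a unique line. -/
theorem oLine_eq {x y u w : X} (hxy : x ≠ y) (hu : u ∈ oLine N x y) (hw : w ∈ oLine N x y)
    (huw : u ≠ w) : oLine N u w = oLine N x y := by
  by_cases hxu : x = u
  · subst hxu
    exact h.oLine_eq_left hxy hw huw
  have h1 : oLine N u x = oLine N x y := by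
    rw [h.oLine_symm (Ne.symm hxu), h.oLine_eq_left hxy hu hxu]
  rw [← h1] at hw ⊢
  exact h.oLine_eq_left (Ne.symm hxu) hw huw

theorem exists_notMem {x y : X} (hxy : x ≠ y) : ∃ z, z ∉ oLine N x y := by
  obtain ⟨n, hn, hn1, hny⟩ := h.exists_ne_one hxy
  by_contra hh
  push Not at hh
  exact hn1 (h.faithful n fun z => hh z n hn hny)

/-- Two lines through a point `z` off the line `xy` meet that line in different points. -/
theorem eq_of_mem_of_mem {x y z u w : X} (hxy : x ≠ y) (hz : z ∉ oLine N x y)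
    (hu : u ∈ oLine N x y) (hw : w ∈ oLine N x y) (hw' : w ∈ oLine N z u) : w = u := by
  by_contra hne
  have hzu : z ≠ u := fun e => hz (e ▸ hu)
  rw [← h.oLine_eq hxy hw hu hne, h.oLine_eq hzu hw' (right_mem z u) hne] at hz
  exact hz (h.left_mem z u)

/-- An element of `N z` fixing two points of a line off `z` fixes that line pointwise. -/
theorem fix_of_fix_two {x y z w : X} (hxy : x ≠ y) (hz : z ∉ oLine N x y) {d : G} (hd : d ∈ N z)
    (hx : d • x = x) (hy : d • y = y) (hw : w ∈ oLine N x y) : d • w = w := by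
  refine h.eq_of_mem_of_mem hxy hz hw ?_ (h.smul_mem_of_mem (right_mem z w) hd)
  rwa [← h.smul_mem_oLine_iff d, hx, hy] at hw

theorem ncard_orbit_eq {x y z : X} (hxy : x ≠ y) (hxz : x ≠ z) :
    (orbit (N x) y).ncard = (orbit (N x) z).ncard := by
  have key : ∀ y z : X, x ≠ y → x ≠ z → (orbit (N x) y).ncard ≤ (orbit (N x) z).ncard := by
    intro y z hxy hxz
    obtain ⟨g, h1, rfl⟩ := h.two x y x z hxy hxz
    refine Set.ncard_le_ncard_of_injOn (g • ·) ?_ (MulAction.injective g).injOn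
    rintro _ ⟨n, rfl⟩
    exact ⟨⟨_, h.conj_of_fix h1 n.2⟩, by simp [Subgroup.smul_def, mul_smul]⟩
  exact le_antisymm (key y z hxy hxz) (key z y hxz hxy)

/-- The stabiliser of `y` in `N x` is transitive on the `N x`-orbit of a point off the line `xy`. -/
theorem exists_fix_smul_eq {x y z : X} (hxy : x ≠ y) (hz : z ∉ oLine N x y) {n : G}
    (hn : n ∈ N x) : ∃ l ∈ N x, l • y = y ∧ l • z = n • z := by
  have hxz : x ≠ z := fun e => hz (e ▸ h.left_mem x y)
  have hyz : y ≠ z := fun e => hz (e ▸ right_mem x y)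
  obtain ⟨f, hf, hfx, hfz⟩ : ∃ f ∈ N y, f • x = x ∧ f • z ≠ z := by
    rw [h.oLine_symm hxy] at hz
    by_contra hh
    push Not at hh
    exact hz hh
  have hc : ∀ m ∈ N x, m⁻¹ * (f * m * f⁻¹) ∈ N x ∧ (m⁻¹ * (f * m * f⁻¹)) • y = y := fun m hm =>
    ⟨(N x).mul_mem ((N x).inv_mem hm) (h.conj_of_fix hfx hm), by
      rw [mul_smul, mul_smul, mul_smul, h.fix y _ ((N y).inv_mem hf), h.smul_smul_eq hxy hm hf hfx,
        inv_smul_smul]⟩
  have hker : ∀ m ∈ N x, (m⁻¹ * (f * m * f⁻¹)) • z = z → m • y = y := by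
    intro m hm hmz
    have h1 : m⁻¹ * f * m ∈ N (m⁻¹ • y) := by simpa using h.conj m⁻¹ y f hf
    have h2 : m⁻¹ • y ∈ oLine N x y := h.smul_mem_of_mem (right_mem x y) ((N x).inv_mem hm)
    have h3 : f⁻¹ • z ≠ z := fun e => hfz (inv_smul_eq_iff.1 e).symm
    have h4 : f⁻¹ • z ∈ oLine N (m⁻¹ • y) z := by
      have := h.smul_mem_of_mem (right_mem (m⁻¹ • y) z) ((N _).inv_mem h1)
      rwa [show (m⁻¹ * f * m)⁻¹ • z = f⁻¹ • z by
        rw [inv_smul_eq_iff, ← mul_smul]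
        simpa only [mul_assoc] using hmz.symm] at this
    have h5 := h.oLine_eq (x := m⁻¹ • y) (y := z) (fun e => hz (e ▸ h2)) (right_mem _ z) h4 h3.symm
    have h6 := h.oLine_eq hyz (right_mem y z)
      (h.smul_mem_of_mem (right_mem y z) ((N y).inv_mem hf)) h3.symm
    have h7 : m⁻¹ • y ∈ oLine N z y := by
      rw [h.oLine_symm hyz.symm, ← h6, h5]
      exact h.left_mem _ _
    exact (inv_smul_eq_iff.1 (h.eq_of_mem_of_mem hxy hz (right_mem x y) h2 h7)).symm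
  have h1 : {w | ∃ l ∈ N x, l • y = y ∧ l • z = w} = orbit (N x) z := by
    refine Set.eq_of_subset_of_ncard_le (fun w ⟨l, hl, _, e⟩ => ⟨⟨l, hl⟩, e⟩) ?_
    rw [← h.ncard_orbit_eq hxy hxz]
    have h2 : ∀ w : X, w ∈ orbit (N x) y → ∃ m ∈ N x, m • y = w := fun w ⟨m, e⟩ => ⟨m, m.2, e⟩
    choose! μ hμ hμ' using h2
    refine Set.ncard_le_ncard_of_injOn (fun w => ((μ w)⁻¹ * (f * μ w * f⁻¹)) • z)
      (fun w hw => ⟨_, (hc _ (hμ w hw)).1, (hc _ (hμ w hw)).2, rfl⟩) fun w hw w' hw' e => ?_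
    have h3 := hker ((μ w')⁻¹ * μ w) ((N x).mul_mem ((N x).inv_mem (hμ w' hw')) (hμ w hw)) (by
      have h4 := h.comm x _ ((N x).mul_mem ((N x).inv_mem (hμ w hw)) (hμ w' hw')) _
        ((N x).inv_mem (h.conj_of_fix hfx (hμ w' hw')))
      have h5 := h.comm x _ (hμ w' hw') _ ((N x).inv_mem (hμ w hw))
      have h6 : ((μ w')⁻¹ * μ w)⁻¹ * (f * ((μ w')⁻¹ * μ w) * f⁻¹) =
          ((μ w')⁻¹ * (f * μ w' * f⁻¹))⁻¹ * ((μ w)⁻¹ * (f * μ w * f⁻¹)) := by
        calc _ = ((μ w)⁻¹ * μ w' * (f * μ w' * f⁻¹)⁻¹) * (f * μ w * f⁻¹) := by group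
          _ = (f * μ w' * f⁻¹)⁻¹ * (μ w' * (μ w)⁻¹) * (f * μ w * f⁻¹) := by rw [h4, h5]
          _ = _ := by group
      simp only at e
      rw [h6, mul_smul, e, inv_smul_smul])
    rw [mul_smul, inv_smul_eq_iff, hμ' w hw, hμ' w' hw'] at h3
    exact h3
  exact (h1 ▸ ⟨⟨n, hn⟩, rfl⟩ : n • z ∈ {w | ∃ l ∈ N x, l • y = y ∧ l • z = w})

theorem line_aux {x y z x' : X} (hxy : x ≠ y) (hz : z ∉ oLine N x y) (hx' : x' ∈ orbit (N z) x)
    (hne : x' ≠ x) : (∀ w ∈ oLine N x y, w ≠ x → ∃ n ∈ N x, n • y = w) ∧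
      ∀ y' ∈ orbit (N z) y, ∃ u ∈ oLine N x y, ∃ l ∈ N z, l • u = u ∧ l • x = x' ∧ l • y = y' := by
  have hzx : z ≠ x := fun e => hz (e ▸ h.left_mem x y)
  have hzy : z ≠ y := fun e => hz (e.symm ▸ right_mem x y)
  obtain ⟨⟨n, hn⟩, rfl⟩ := hx'
  have h1 : ∀ u, u ∈ oLine N x y \ {x} → ∃ l ∈ N z, l • u = u ∧ l • x = n • x := by
    rintro u ⟨hu, hux⟩
    exact h.exists_fix_smul_eq (x := z) (y := u) (fun e => hz (e ▸ hu))
      (fun e => hux (h.eq_of_mem_of_mem hxy hz hu (h.left_mem x y) e).symm) hn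
  choose! lam h1 h2 h3 using h1
  have hinj : Set.InjOn (fun u => lam u • y) (oLine N x y \ {x}) := by
    intro u hu u' hu' e
    by_contra huu
    have h4 : ((lam u)⁻¹ * lam u') • u' = u' :=
      h.fix_of_fix_two hxy hz ((N z).mul_mem ((N z).inv_mem (h1 u hu)) (h1 u' hu'))
        (by rw [mul_smul, h3 u' hu', ← h3 u hu, inv_smul_smul])
        (by rw [mul_smul, inv_smul_eq_iff]; exact e.symm) hu'.1
    rw [mul_smul, h2 u' hu', inv_smul_eq_iff] at h4
    have h5 := h.oLine_eq hxy hu.1 hu'.1 huu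
    have h6 := h.fix_of_fix_two huu (h5 ▸ hz) (h1 u hu) (h2 u hu) h4.symm (h5 ▸ h.left_mem x y)
    exact hne ((h3 u hu).symm.trans h6)
  have hmaps : ∀ u ∈ oLine N x y \ {x}, lam u • y ∈ orbit (N z) y :=
    fun u hu => ⟨⟨_, h1 u hu⟩, rfl⟩
  have hsub : orbit (N x) y ⊆ oLine N x y \ {x} := by
    rintro _ ⟨m, rfl⟩
    exact ⟨h.smul_mem_of_mem (right_mem x y) m.2,
      fun e => hxy (smul_left_cancel (m : G) ((h.fix x m m.2).trans (Set.mem_singleton_iff.1 e).symm))⟩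
  have hq : (orbit (N z) y).ncard = (orbit (N x) y).ncard := by
    obtain ⟨g, rfl, h4⟩ := h.two x y z y hxy hzy
    symm
    refine Set.ncard_congr (fun w _ => g • w) ?_ (fun _ _ _ _ e => smul_left_cancel g e) ?_
    · rintro _ ⟨m, rfl⟩
      exact ⟨⟨_, h.conj g x m m.2⟩, by
        simp only [Subgroup.smul_def, mul_smul]
        rw [inv_smul_eq_iff.2 h4.symm]⟩
    · rintro _ ⟨m, rfl⟩
      exact ⟨_, ⟨⟨g⁻¹ * m * g, by simpa using h.conj g⁻¹ _ m m.2⟩, rfl⟩, by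
        simp [Subgroup.smul_def, mul_smul, h4]⟩
  have hle := Set.ncard_le_ncard_of_injOn _ hmaps hinj
  refine ⟨fun w hw hwx => ?_, fun y' hy' => ?_⟩
  · obtain ⟨m, hm⟩ : w ∈ orbit (N x) y :=
      Set.eq_of_subset_of_ncard_le hsub (hle.trans hq.le) ▸ ⟨hw, hwx⟩
    exact ⟨m, m.2, hm⟩
  · obtain ⟨u, hu, e⟩ := Set.surj_on_of_inj_on_of_ncard_le (fun u _ => lam u • y) hmaps
      (fun _ _ h1 h2 e => hinj h1 h2 e) (hq.le.trans (Set.ncard_le_ncard hsub))
      (Set.toFinite _) y' hy'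
    exact ⟨u, hu.1, _, h1 u hu, h2 u hu, h3 u hu, e.symm⟩

/-- `N x` is transitive on the points other than `x` of a line through `x`. -/
theorem exists_smul_eq_of_mem {x y w : X} (hxy : x ≠ y) (hw : w ∈ oLine N x y) (hwx : w ≠ x) :
    ∃ n ∈ N x, n • y = w := by
  obtain ⟨z, hz⟩ := h.exists_notMem hxy
  obtain ⟨n, hn, hnx⟩ := h.exists_smul_ne (x := z) (y := x) fun e => hz (e ▸ h.left_mem x y)
  exact (h.line_aux hxy hz ⟨⟨n, hn⟩, rfl⟩ hnx).1 w hw hwx

/-- Every element of `N z` fixes a point on every line. -/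
theorem exists_fixed_on_line {x y : X} (hxy : x ≠ y) {z : X} {f : G} (hf : f ∈ N z) :
    ∃ u ∈ oLine N x y, f • u = u := by
  by_cases hz : z ∈ oLine N x y
  · exact ⟨z, hz, h.fix z f hf⟩
  by_cases hx : f • x = x
  · exact ⟨x, h.left_mem x y, hx⟩
  obtain ⟨u, hu, l, hl, h1, h2, h3⟩ := (h.line_aux hxy hz ⟨⟨f, hf⟩, rfl⟩ hx).2 _ ⟨⟨f, hf⟩, rfl⟩
  refine ⟨u, hu, ?_⟩
  have h4 := h.fix_of_fix_two hxy hz ((N z).mul_mem ((N z).inv_mem hf) hl)
    (by rw [mul_smul, h2]; exact inv_smul_smul f x) (by rw [mul_smul, h3]; exact inv_smul_smul f y) hu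
  rw [mul_smul, h1, inv_smul_eq_iff] at h4
  exact h4.symm

/-- `N x` is transitive on pairs of points on two different lines through `x`. -/
theorem exists_smul_eq_pair {x y z u w : X} (hxy : x ≠ y) (hz : z ∉ oLine N x y)
    (hu : u ∈ oLine N x y) (hux : u ≠ x) (hw : w ∈ oLine N x z) (hwx : w ≠ x) :
    ∃ f ∈ N x, f • y = u ∧ f • z = w := by
  have hxz : x ≠ z := fun e => hz (e ▸ h.left_mem x y)
  obtain ⟨n, hn, rfl⟩ := h.exists_smul_eq_of_mem hxy hu hux
  obtain ⟨m, hm, rfl⟩ := h.exists_smul_eq_of_mem hxz hw hwx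
  obtain ⟨l, hl, h1, h2⟩ := h.exists_fix_smul_eq hxy hz ((N x).mul_mem ((N x).inv_mem hn) hm)
  exact ⟨n * l, (N x).mul_mem hn hl, by rw [mul_smul, h1], by
    rw [mul_smul, h2, mul_smul, smul_inv_smul]⟩

/-- The Veblen-Young axiom. -/
theorem veblen {x y z u w : X} (hxy : x ≠ y) (hz : z ∉ oLine N x y)
    (hu : u ∈ oLine N x y) (hux : u ≠ x) (hw : w ∈ oLine N x z) (hwx : w ≠ x) :
    ∃ t, t ∈ oLine N y z ∧ t ∈ oLine N u w := by
  obtain ⟨f, hf, rfl, rfl⟩ := h.exists_smul_eq_pair hxy hz hu hux hw hwx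
  obtain ⟨t, ht, hft⟩ := h.exists_fixed_on_line (x := y) (y := z)
    (fun e => hz (e ▸ right_mem x y)) hf
  exact ⟨t, ht, hft ▸ (h.smul_mem_oLine_iff f).2 ht⟩

/-- Every line has at least three points. -/
theorem exists_third {x y : X} (hxy : x ≠ y) : ∃ z ∈ oLine N x y, z ≠ x ∧ z ≠ y := by
  obtain ⟨n, hn, hny⟩ := h.exists_smul_ne hxy
  exact ⟨_, h.smul_mem_of_mem (right_mem x y) hn,
    fun e => hxy (smul_left_cancel n ((h.fix x n hn).trans e.symm)), hny⟩

omit [Finite G] [Finite X] in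
theorem normal_iSup : (⨆ x, N x).Normal := by
  refine ⟨fun n hn g => ?_⟩
  induction hn using Subgroup.iSup_induction' with
  | hp x n hn => exact Subgroup.mem_iSup_of_mem _ (h.conj g x n hn)
  | h1 => simp
  | hmul a b _ _ ha hb => rw [← conj_mul]; exact Subgroup.mul_mem _ ha hb

omit [Finite G] [Finite X] in
theorem centralizer_iSup : Subgroup.centralizer ((⨆ x, N x : Subgroup G) : Set G) = ⊥ := by
  rw [eq_bot_iff]
  intro c hc
  refine Subgroup.mem_bot.2 (h.faithful c fun x => ?_)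
  by_contra hx
  obtain ⟨n, hn, hnx⟩ := h.exists_smul_ne (Ne.symm hx)
  rw [← mul_smul, Subgroup.mem_centralizer_iff.1 hc n (Subgroup.mem_iSup_of_mem x hn), mul_smul,
    h.fix x n hn] at hnx
  exact hnx rfl

end ONan

/-- The data of O'Nan's theorem from an abelian normal subgroup of a point stabiliser. -/
theorem exists_oNan [Finite G] [FaithfulSMul G X] (h2 : IsMultiplyPretransitive G X 2) (x : X)
    (A : Subgroup G) (hle : A ≤ stabilizer G x)
    (hnorm : ∀ g ∈ stabilizer G x, ∀ n ∈ A, g * n * g⁻¹ ∈ A)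
    (hab : ∀ a ∈ A, ∀ b ∈ A, a * b = b * a) (hnsr : ∃ n ∈ A, n ≠ 1 ∧ ∃ y : X, y ≠ x ∧ n • y = y) :
    ∃ (p : ℕ) (N : X → Subgroup G), ONan p N ∧ N x ≤ A := by
  obtain ⟨n, hn, hn1, y, hyx, hny⟩ := hnsr
  obtain ⟨p, hp, hpn⟩ := Nat.exists_prime_and_dvd (mt orderOf_eq_one_iff.1 hn1)
  have two : ∀ {a b c d : X}, a ≠ b → c ≠ d → ∃ g : G, g • a = c ∧ g • b = d :=
    is_two_pretransitive_iff.1 h2
  have one : ∀ z : X, ∃ g : G, g • x = z := fun z => by
    by_cases hz : x = z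
    · exact ⟨1, by rw [one_smul, hz]⟩
    · exact (two hz (Ne.symm hz)).imp fun _ => And.left
  let N : X → Subgroup G := fun z =>
    { carrier := {m | m ^ p = 1 ∧ ∀ g : G, g • x = z → g⁻¹ * m * g ∈ A}
      one_mem' := ⟨one_pow p, fun g _ => by simp⟩
      inv_mem' := fun {m} hm => ⟨by rw [inv_pow, hm.1, inv_one], fun g hg => by
        simpa [mul_assoc] using A.inv_mem (hm.2 g hg)⟩
      mul_mem' := fun {a b} ha hb => ⟨by
        obtain ⟨g, hg⟩ := one z
        have h1 : a * b = b * a := by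
          have := hab _ (ha.2 g hg) _ (hb.2 g hg)
          simp only [mul_assoc, mul_inv_cancel_left, mul_right_inj] at this
          simpa only [← mul_assoc, mul_left_inj] using this
        rw [(show Commute a b from h1).mul_pow, ha.1, hb.1, one_mul], fun g hg => by
        simpa [mul_assoc] using A.mul_mem (ha.2 g hg) (hb.2 g hg)⟩ }
  refine ⟨p, N, ⟨hp, fun g hg => eq_of_smul_eq_smul (α := X) fun z => by rw [hg, one_smul],
    fun a b c d => two, fun g z m hm => ⟨by rw [conj_pow, hm.1]; simp, fun k hk => ?_⟩,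
    fun z m hm => ?_, fun z a ha b hb => ?_, fun z m => ⟨1, Subtype.ext (by simpa using m.2.1)⟩,
    x, y, hyx.symm, n ^ (orderOf n / p), ⟨?_, fun g hg => ?_⟩, ?_, ?_⟩,
    fun m hm => by simpa using hm.2 1 (one_smul _ _)⟩
  · simpa [mul_assoc] using hm.2 (g⁻¹ * k) (by rw [mul_smul, hk, inv_smul_smul])
  · obtain ⟨g, rfl⟩ := one z
    have := hle (hm.2 g rfl)
    rwa [mem_stabilizer_iff, mul_smul, mul_smul, inv_smul_eq_iff] at this
  · obtain ⟨g, hg⟩ := one z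
    have := hab _ (ha.2 g hg) _ (hb.2 g hg)
    simp only [mul_assoc, mul_inv_cancel_left, mul_right_inj] at this
    simpa only [← mul_assoc, mul_left_inj] using this
  · rw [← pow_mul, Nat.div_mul_cancel hpn, pow_orderOf_eq_one]
  · simpa using hnorm g⁻¹ ((stabilizer G x).inv_mem hg) _ (A.pow_mem hn _)
  · exact pow_ne_one_of_lt_orderOf
      (Nat.div_pos (Nat.le_of_dvd (orderOf_pos n) hpn) hp.pos).ne'
      (Nat.div_lt_self (orderOf_pos n) hp.one_lt)
  · exact (stabilizer G y).pow_mem hny _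

end Cfsg.Agent.H60
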