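import Mathlib
import Cfsg.Agent.H89.OlDefs

/-! Odd automorphism groups of small abelian 2-groups with a normal subgroup of order five or seven. -/

set_option autoImplicit false

namespace Cfsg.Agent.H89.Ol.H60Ga7

open Subgroup Cfsg.Agent.H26.K64

universe u

theorem five_le {A : Type*} [Group A] [Finite A] {σ : MulAut A} (hσ : orderOf σ = 5 ∨ orderOf σ = 7)
    {D : Subgroup A} (hD : ∀ a ∈ D, σ a ∈ D) {w : A} (hw : w ∈ D) (h : σ w ≠ w) :
    5 ≤ Nat.card D := by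
  have h1 : ∀ n : ℕ, (σ ^ n) w ∈ D := fun n => by
    induction n with
    | zero => simpa using hw
    | succ n ih => rw [pow_succ', MulAut.mul_apply]; exact hD _ ih
  have h2 : ∀ i k : ℕ, 0 < k → k < 5 → (σ ^ (i + k)) w ≠ (σ ^ i) w := fun i k h0 h5 e => by
    rw [pow_add, MulAut.mul_apply] at e
    have h3 : zpowers (σ ^ k) ≤ MulAction.stabilizer (MulAut A) w :=
      zpowers_le.2 ((σ ^ i).injective e)
    refine h (h3 (mem_zpowers_pow_iff.2 ?_))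
    rcases hσ with e | e <;> rw [e] <;> interval_cases k <;> rfl
  refine le_trans (by simp) (Nat.card_le_card_of_injective
    (fun i : Fin 5 => (⟨_, h1 i⟩ : D)) fun i k e => ?_)
  have e := congrArg Subtype.val e
  by_contra hn
  rcases lt_or_gt_of_ne hn with h3 | h3
  · exact h2 i (k - i) (by omega) (by omega) (by rw [show (i : ℕ) + (k - i) = k by omega]; exact e.symm)
  · exact h2 k (i - k) (by omega) (by omega) (by rw [show (k : ℕ) + (i - k) = i by omega]; exact e)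

theorem ga7 (gai : GAIStmt.{u}) : GA7Stmt.{u} := by
  intro A _ _ I σ hA hc h32 hI hσI hσ hn
  have hodd : ∀ τ ∈ I, ¬ 2 ∣ orderOf τ := fun τ hτ h => hI (h.trans (orderOf_dvd_natCard I hτ))
  obtain ⟨j, hj0, hj, hjr⟩ := gai A σ _ hA (by rcases hσ with e | e <;> rw [e] <;> norm_num)
    (by omega) rfl
  have hC0 := Nat.card_pos (α := fx σ)
  have hj5 : j ≤ 5 := by
    by_contra h
    have := Nat.pow_le_pow_right two_pos (show 6 ≤ j by omega)
    nlinarith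
  have hj34 : orderOf σ = 5 ∧ j = 4 ∨ orderOf σ = 7 ∧ j = 3 := by
    rcases hσ with e | e <;> rw [e] at hjr ⊢ <;> interval_cases j <;> simp at hjr ⊢
  let f : A →* A := MonoidHom.mk' (fun x => x⁻¹ * σ x) fun x y => by
    rw [map_mul, mul_inv_rev, hc y⁻¹, mul_assoc, mul_assoc, ← mul_assoc y⁻¹, hc y⁻¹ (σ x),
      mul_assoc]
  have hker : f.ker = fx σ := by
    ext a
    exact inv_mul_eq_one.trans eq_comm
  have hW : Nat.card f.range = 2 ^ j := by
    have := f.ker.card_mul_index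
    rw [index_ker, hker, ← hj] at this
    exact Nat.eq_of_mul_eq_mul_left hC0 this
  have hWC : ∀ a ∈ f.range, a ∈ fx σ → a = 1 := by
    rintro _ ⟨a, rfl⟩ h
    exact inv_mul_eq_one.2 (fix_of_comm hA (hodd σ hσI) h).symm
  have hN : ∀ τ ∈ I, ∀ x ∈ zpowers σ, τ * x * τ⁻¹ ∈ zpowers σ := by
    rintro τ hτ _ ⟨n, rfl⟩
    rw [← conj_zpow]
    exact zpow_mem (hn τ hτ) n
  have hN' : I ≤ normalizer (zpowers σ : Set (MulAut A)) := fun τ hτ => mem_normalizer_iff.2 fun x =>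
    ⟨hN τ hτ x, fun hx => by simpa [mul_assoc] using hN τ⁻¹ (inv_mem hτ) _ hx⟩
  have hIC : ∀ τ ∈ I, ∀ a ∈ fx σ, τ a ∈ fx σ := fun τ hτ a ha => by
    have h1 : zpowers σ ≤ MulAction.stabilizer (MulAut A) a := zpowers_le.2 ha
    have h2 : (τ⁻¹ * σ * τ⁻¹⁻¹) a = a := h1 (hn _ (inv_mem hτ))
    rw [mem_fx]
    conv_rhs => rw [← h2]
    simp
  have hIW : ∀ τ ∈ I, ∀ a ∈ f.range, τ a ∈ f.range := by
    rintro τ hτ _ ⟨a, rfl⟩
    have h1 : ∀ (b : A) (k : ℕ), b⁻¹ * (σ ^ k) b ∈ f.range := fun b k => by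
      induction k with
      | zero => simp
      | succ k ih =>
        have := mul_mem ih (⟨(σ ^ k) b, rfl⟩ : ((σ ^ k) b)⁻¹ * σ ((σ ^ k) b) ∈ f.range)
        rwa [mul_assoc, mul_inv_cancel_left, ← MulAut.mul_apply, ← pow_succ'] at this
    obtain ⟨k, hk⟩ := mem_powers_iff_mem_zpowers.2 (hn τ hτ)
    have h2 := h1 (τ a) k
    rw [show σ ^ k = τ * σ * τ⁻¹ from hk] at h2
    simpa [f] using h2
  obtain ⟨w, hw, hw1⟩ : ∃ w ∈ f.range, w ≠ 1 := by
    by_contra! h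
    rw [(eq_bot_iff_forall _).2 h, card_bot] at hW
    rcases hj34 with ⟨-, rfl⟩ | ⟨-, rfl⟩ <;> omega
  have hwC : w ∉ fx σ := fun h => hw1 (hWC w hw h)
  obtain ⟨c, hcC, hc2⟩ : ∃ c ∈ fx σ, Nat.card (fx σ) ≤ 2 * Nat.card (zpowers c) := by
    by_cases h : ∃ c ∈ fx σ, c ≠ 1
    · obtain ⟨c, h1, h2⟩ := h
      have := card_le_half (bot_lt_iff_ne_bot.2 (zpowers_ne_bot.2 h2))
      rw [card_bot] at this
      refine ⟨c, h1, ?_⟩
      rcases hj34 with ⟨-, rfl⟩ | ⟨-, rfl⟩ <;> omega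
    · push Not at h
      exact ⟨1, one_mem _, by rw [(eq_bot_iff_forall _).2 h]; simp⟩
  have key : ∀ τ ∈ I, τ (w * c) = w * c → τ w = w ∧ fx σ ≤ fx τ := fun τ hτ h => by
    have h1 : w⁻¹ * τ w = c * (τ c)⁻¹ := by
      rw [inv_mul_eq_iff_eq_mul, ← mul_assoc, ← h, map_mul, mul_inv_cancel_right]
    have h2 := hWC _ (mul_mem (inv_mem hw) (hIW τ hτ w hw))
      (h1 ▸ mul_mem hcC (inv_mem (hIC τ hτ c hcC)))
    refine ⟨(inv_mul_eq_one.1 h2).symm, fix_of_card_le hA (hodd τ hτ) (zpowers_le.2 hcC)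
      (hIC τ hτ) (fun k hk => ?_) hc2⟩
    exact zpowers_le.2 (show c ∈ fx τ from (mul_inv_eq_one.1 (h1 ▸ h2)).symm) hk
  have key2 : ∀ τ ∈ I, τ (w * c) = w * c → τ * σ = σ * τ → τ = 1 := fun τ hτ h e => by
    obtain ⟨h1, h2⟩ := key τ hτ h
    have e' : ∀ a, τ (σ a) = σ (τ a) := fun a => by rw [← MulAut.mul_apply, e, MulAut.mul_apply]
    have h3 := five_le hσ (D := f.range ⊓ fx τ)
      (fun a ha => ⟨hIW σ hσI a ha.1, (e' a).trans (congrArg σ ha.2)⟩) ⟨hw, h1⟩ hwC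
    obtain ⟨n, h4⟩ := (hA.to_subgroup (f.range ⊓ fx τ)).exists_card_eq
    have h5 : 8 ≤ Nat.card (f.range ⊓ fx τ : Subgroup A) := by
      rw [h4] at h3 ⊢
      have : 3 ≤ n := by by_contra h; interval_cases n <;> simp at h3 h
      exact (Nat.pow_le_pow_right two_pos this : 2 ^ 3 ≤ 2 ^ n)
    have h6 := fix_of_card_le hA (hodd τ hτ) (inf_le_left : f.range ⊓ fx τ ≤ _) (hIW τ hτ)
      (fun _ hk => hk.2) (by rcases hj34 with ⟨-, rfl⟩ | ⟨-, rfl⟩ <;> omega)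
    ext a
    refine fix_of_comm hA (hodd τ hτ) (h2 ?_)
    have h7 : τ (a⁻¹ * σ a) = a⁻¹ * σ a := h6 _ ⟨a, rfl⟩
    rw [map_mul, map_inv, e', inv_mul_eq_iff_eq_mul] at h7
    rw [mem_fx, map_mul, map_inv, h7, hc, mul_assoc, mul_inv_cancel_right, hc]
  let J := I ⊓ MulAction.stabilizer (MulAut A) (w * c)
  have h1 := card_dvd_of_injective ((zpowers σ).normalizerMonoidHom.comp
    (inclusion ((inf_le_left : J ≤ I).trans hN'))) ((injective_iff_map_eq_one _).2 fun τ h =>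
      Subtype.ext (key2 τ τ.2.1 τ.2.2 (mul_inv_eq_iff_eq_mul.1
        (congrArg (fun g : MulAut (zpowers σ) => (g ⟨σ, mem_zpowers σ⟩).1) h))))
  rw [IsCyclic.card_mulAut, Nat.card_zpowers] at h1
  have h2 : ¬ 2 ∣ Nat.card J := fun h => hI (h.trans (card_dvd_of_le inf_le_left))
  refine ⟨w * c, ?_⟩
  by_cases h3 : Nat.card J = 1
  · refine Or.inl fun τ hτ h => ?_
    have h4 : τ ∈ J := ⟨hτ, h⟩
    rwa [card_eq_one.1 h3, mem_bot] at h4
  have h4 : Nat.card J = 3 ∧ j = 3 := by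
    rcases hj34 with ⟨e, rfl⟩ | ⟨e, rfl⟩ <;> rw [e, Nat.totient_prime (by norm_num)] at h1 <;>
      have := Nat.le_of_dvd (by norm_num) h1 <;> generalize Nat.card J = m at * <;>
      interval_cases m <;> simp at h1 h2 h3 ⊢
  obtain ⟨h4, rfl⟩ := h4
  have : Fact (Nat.Prime 3) := ⟨Nat.prime_three⟩
  obtain ⟨⟨τ, hτ⟩, h5⟩ := exists_prime_orderOf_dvd_card' (G := J) 3 h4.symm.dvd
  have h6 : orderOf τ = 3 := (orderOf_mk τ hτ).symm.trans h5
  have h7 : τ ≠ 1 := by rintro rfl; simp at h6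
  refine Or.inr (Or.inl ⟨τ, hτ.1, hτ.2, h7, by rw [← h6, pow_orderOf_eq_one], fun ρ hρ h => ?_, ?_⟩)
  · obtain ⟨i, hi⟩ := mem_powers_of_prime_card (G := J) h4 (g := ⟨τ, hτ⟩) (g' := ⟨ρ, hρ, h⟩)
      fun e => h7 (congrArg Subtype.val e)
    exact ⟨i, (congrArg Subtype.val hi).symm⟩
  · obtain ⟨i, hi0, hi, hi3⟩ := gai A τ 3 hA Nat.prime_three (by norm_num) h6
    obtain ⟨h8, h9⟩ := key τ hτ.1 hτ.2
    have h10 := card_le_half (lt_of_le_of_ne h9 fun e => hwC (e ▸ h8))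
    have h11 : i ≤ 2 := by
      by_contra h
      have := Nat.pow_le_pow_right two_pos (show 3 ≤ i by omega)
      nlinarith
    interval_cases i <;> omega

end Cfsg.Agent.H89.Ol.H60Ga7
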