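import Cfsg.Agent.H60.Q3E
import Cfsg.Agent.H72.NG0a

/-! The global argument. -/

set_option autoImplicit false
set_option linter.unusedSectionVars false
set_option linter.unusedVariables false

namespace Cfsg.Agent.H60.Q3

open Cfsg Subgroup H28 H49 H84.U6 H98

universe u

variable {G : Type u} [Group G] [Finite G] {z z' t s x : G} {R W J R' W' J' : Subgroup G}

theorem Mod.cj {r : G → Gam} {κ : G → V} (m : Mod z t R W J r κ) (g : G) :
    Mod (g * z * g⁻¹) (g * t * g⁻¹) (cj R g) (cj W g) (cj J g) (fun a => r (g⁻¹ * a * g))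
      fun a => κ (g⁻¹ * a * g) where
  mul := fun h1 h2 h3 h4 => by
    rw [← m.mul (comm_back h1) (comm_back h2) (comm_back h3) (comm_back h4)]; congr 1; group
  ker := fun h1 h2 => by rw [m.ker (comm_back h1) (comm_back h2), mem_cj]
  surj := fun x => let ⟨a, h1, h2, e⟩ := m.surj x
    ⟨g * a * g⁻¹, comm_conj h1 g, comm_conj h2 g, by rw [← e]; congr 1; group⟩
  lin := fun {a} h1 h2 => (m.lin (comm_back h1) (comm_back h2)).trans
    ⟨by rintro e _ ⟨v, hv, rfl⟩; simpa [mul_assoc] using comm_conj (e v hv) g,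
      fun e v hv => comm_back (e _ (conj_mem_cj g hv))⟩
  add := fun ha hb => by rw [← m.add (mem_cj.1 ha) (mem_cj.1 hb)]; congr 1; group
  zero := fun ha => by rw [m.zero (mem_cj.1 ha), mem_cj]
  ksurj := fun v => let ⟨a, h1, e⟩ := m.ksurj v
    ⟨_, conj_mem_cj g h1, by rw [← e]; congr 1; group⟩
  act := fun h1 h2 ha => by
    rw [← m.act (comm_back h1) (comm_back h2) (mem_cj.1 ha)]; congr 1; group
  sq_iff := fun {a} ha => by
    rw [← m.sq_iff (mem_cj.1 ha), show g⁻¹ * a * g * (g⁻¹ * a * g) = g⁻¹ * (a * a) * g⁻¹⁻¹ by group,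
      conj_eq_one_iff]
  comm_iff := fun ha hb => by
    rw [← m.comm_iff (mem_cj.1 ha) (mem_cj.1 hb), ← conj_comm_iff g⁻¹, inv_inv]

theorem Bs.cj (h : Bs z R W J) (g : G) : Bs (g * z * g⁻¹) (cj R g) (cj W g) (cj J g) where
  toB0 := h.toB0.cj g
  mod := by
    rintro _ ⟨t, ht, rfl⟩ t1
    obtain ⟨r, κ, m⟩ := h.mod t ht fun e => t1 (by simp [e])
    exact ⟨_, _, m.cj g⟩
  cM := fun a ha k => mem_cj.2 (h.cM _ (comm_back ha) fun q hq => by
    convert mem_cj.1 (k _ (conj_mem_cj g hq)) using 1; group)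

/-- the configuration -/
structure Cf (z : G) (R W J : Subgroup G) : Prop extends Bs z R W J where
  d1 : ∀ t ∈ R, t ≠ 1 → Isl z (centralizer {z * t})

theorem Cf.cj (h : Cf z R W J) (g : G) : Cf (g * z * g⁻¹) (cj R g) (cj W g) (cj J g) :=
  ⟨h.toBs.cj g, by
    rintro _ ⟨t, ht, rfl⟩ t1
    have := (h.d1 t ht fun e => t1 (by simp [e])).cj g
    rwa [cj_centralizer_singleton, ← conj_mul] at this⟩

/-- conjugate pairs -/
def Cp (z : G) (R : Subgroup G) (z' : G) (R' : Subgroup G) : Prop :=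
  ∃ g, z' = g * z * g⁻¹ ∧ R' = cj R g

theorem Cp.symm (p : Cp z R z' R') : Cp z' R' z R := by
  obtain ⟨g, rfl, rfl⟩ := p
  exact ⟨g⁻¹, by group, (cj_inv_cj R g).symm⟩

theorem Cp.trans {z'' : G} {R'' : Subgroup G} (p : Cp z R z' R') (q : Cp z' R' z'' R'') :
    Cp z R z'' R'' := by
  obtain ⟨g, rfl, rfl⟩ := p
  obtain ⟨k, rfl, rfl⟩ := q
  exact ⟨k * g, by group, (cj_mul R k g).symm⟩

theorem Cp.fz (p : Cp z R z' R') : IsConj z z' := let ⟨g, e, _⟩ := p; isConj_iff.2 ⟨g, e.symm⟩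

theorem Cp.fr (p : Cp z R z' R') (h : Bs z R W J) (hx : x ∈ R') (e : x ∈ W) : x ∈ R := by
  obtain ⟨g, -, rfl⟩ := p
  exact h.fusR (mem_cj.1 hx) e (isConj_iff.2 ⟨g, by group⟩)

theorem Cp.eq (p : Cp z R z R') (h : Bs z R W J) : R' = R := by
  obtain ⟨g, e, rfl⟩ := p
  exact cj_eq_iff.2 (mem_normalizer_of_conj_mem (h.nR g (mul_inv_eq_iff_eq_mul.1 e.symm)))

theorem Bs.inter (h : Bs z R W J) (hx : x ∈ W) (x1 : x ≠ 1) (xz : x ≠ z)
    (hi : Isl z' (centralizer {x})) (c1 : z' * x = x * z') (c2 : z' * z = z * z')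
    (e : IsConj z z') : z' = z := by
  have b := h.toB0
  obtain ⟨g, rfl⟩ := isConj_iff.1 e
  obtain ⟨t, ht, t1, c⟩ : ∃ t ∈ R, t ≠ 1 ∧ g * z * g⁻¹ * t = t * (g * z * g⁻¹) := by
    rcases (h.memW x).1 hx with k | k
    exacts [⟨x, k, x1, c1⟩, ⟨_, k, fun e => xz (by rw [← b.cz x, e, one_mul]),
      (Commute.mul_right c1 c2).eq⟩]
  refine h.fusZ (h.f8 ht t1 c2 c fun a a1 a2 => ?_) e
  rw [b.u1 (b.Jz (h.WJ hx)) (b.sqW hx) hi c1 (b.cj g).z1 (b.cj g).zz c2 (b.cW a1 a2 hx) a1]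
  simp

theorem comm_of_norm (i : ∀ x ∈ R', x ∈ R → x = 1) {u v : G} (hu : u ∈ R) (hv : v ∈ R')
    (h1 : v * u * v⁻¹ ∈ R) (h2 : u * v⁻¹ * u⁻¹ ∈ R') : v * u = u * v :=
  mul_inv_eq_iff_eq_mul.1 (mul_inv_eq_one.1
    (i _ (by simpa [mul_assoc] using mul_mem hv h2) (mul_mem h1 (inv_mem hu))))

section pair

variable (h : Cf z R W J) (h' : Cf z' R' W' J') (p : Cp z R z' R')
include h h' p

theorem pairD (n : z' ≠ z) (cz : z' * z = z * z') (c1 : ∀ v ∈ R, v * z' = z' * v)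
    (c2 : ∀ v ∈ R', v * z = z * v) (c3 : ∀ v ∈ R', ∀ u ∈ R, v * u = u * v)
    (i : ∀ x ∈ R', x ∈ R → x = 1)
    (h2 : ∀ x ∈ R', x ≠ 1 → ∀ y, y * z = z * y → y * x = x * y → ∀ v ∈ R', y * v * y⁻¹ ∈ R') :
    False := by
  have b := h.toB0
  have b' := h'.toB0
  have c4 : ∀ x ∈ R', z' * (z' * x) = z' * x * z' := fun x hx => by
    rw [mul_assoc, b'.Rz hx]
  refine h.pair h'.kl h'.zz cz (fun v hv => (c1 v hv).symm) (fun x hx => (b'.Rz hx).symm) c2 c3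
    (fun x hx x1 e => x1 (i x hx (p.fr h.toBs hx e))) (fun x hx e => n ?_)
    (fun y _ => b'.nR y) (fun x hx x1 y y1 y2 => b.u1 (comm_mul cz (c2 x hx))
      (b'.sqW (mul_mem b'.zW (b'.RW hx))) (h'.d1 x hx x1) (c4 x hx) h'.z1 h'.zz cz y2 y1) h2
  by_cases x1 : x = 1
  · exact h.fusZ (by simpa [x1] using e) p.fz
  · exact h.inter e (fun e => h'.zR (by rw [eq_inv_of_mul_eq_one_left e]; exact inv_mem hx))
      (fun e => x1 (by simpa using e.trans (h'.fusZ (e ▸ mul_mem b'.zW (b'.RW hx)) p.symm.fz)))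
      (h'.d1 x hx x1) (c4 x hx) cz p.fz

omit p in
theorem cen1 (t1 : ∀ t ∈ R, t ≠ 1 → Isl z (centralizer {t})) (cz : z' * z = z * z') :
    ∀ v ∈ R', v * z = z * v := fun v hv => by
  have b := h.toB0
  have b' := h'.toB0
  obtain ⟨t, ht, n1, c, -⟩ := h.kl.fix2 (h.nR z' cz) (h.nR z' cz) h'.zz h'.zz rfl
  obtain ⟨u, hu, u1, c1, c2⟩ := h'.kl.fix2 (h'.nR z cz.symm) (h'.nR t c.symm) h.zz (h.kl.sq t ht)
    (b.Rz ht).symm
  rcases h'.kl.ker2 hu u1 (h'.nR z cz.symm) (h'.nR t c.symm) c1 c2 with e | e | e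
  · exact (e v hv).symm
  · exact b'.u1 c.symm (h.kl.sq t ht) (t1 t ht n1) (b.Rz ht).symm h.z1 h.zz cz.symm (e v hv).symm
      (b'.Rz hv)
  · exact b'.u1 (comm_mul cz.symm c.symm) (b.sqW (mul_mem b.zW (b.RW ht))) (h.d1 t ht n1)
      (by rw [mul_assoc, b.Rz ht]) h.z1 h.zz cz.symm (e v hv).symm (b'.Rz hv)

theorem isol (t1 : ∀ t ∈ R, t ≠ 1 → Isl z (centralizer {t}))
    (t1' : ∀ t ∈ R', t ≠ 1 → Isl z' (centralizer {t})) (cz : z' * z = z * z') : z' = z := by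
  by_contra n
  have b := h.toB0
  have b' := h'.toB0
  have c1 := cen1 h' h t1' cz.symm
  have c2 := cen1 h h' t1 cz
  have i : ∀ x ∈ R', x ∈ R → x = 1 := fun x hx e => by_contra fun x1 => n (h.inter (b.RW e) x1
    (fun e' => h.zR (e' ▸ e)) (t1' x hx x1) (b'.Rz hx).symm cz p.fz)
  exact pairD h h' p n cz c1 c2 (fun v hv u hu => comm_of_norm i hu hv (h.nR v (c2 v hv) u hu)
    (h'.nR u (c1 u hu) _ (inv_mem hv))) i fun x hx x1 y y1 y2 => h'.nR y (b.u1 (c2 x hx)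
      (h'.kl.sq x hx) (t1' x hx x1) (b'.Rz hx).symm h'.z1 h'.zz cz y2 y1)

end pair

/-- the centralizers of the involutions of `R` normalize `R` -/
def NT (R : Subgroup G) : Prop := ∀ t ∈ R, t ≠ 1 → centralizer {t} ≤ normalizer (R : Set G)

theorem NT.cj (h : NT R) (g : G) : NT (cj R g) := by
  rintro _ ⟨t, ht, rfl⟩ t1 a ha
  refine mem_normalizer_of_conj_mem fun v hv => mem_cj.2 ?_
  convert conj_mem_of_mem_normalizer (h t ht (fun e => t1 (by simp [e]))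
    (mem_c.2 (comm_back (mem_c.1 ha)))) (mem_cj.1 hv) using 1
  group

theorem NT.conj (h : NT R) (ht : t ∈ R) (t1 : t ≠ 1) {a : G} (e : a * t = t * a) :
    ∀ v ∈ R, a * v * a⁻¹ ∈ R := fun _ => conj_mem_of_mem_normalizer (h t ht t1 (mem_c.2 e))

theorem Bs.HN (h : Bs z R W J) : centralizer {z} ≤ normalizer (R : Set G) := fun a ha =>
  mem_normalizer_of_conj_mem (h.nR a (mem_c.1 ha))

theorem Cf.nw (h : Cf z R W J) (nt : NT R) (hx : x ∈ W) (x1 : x ≠ 1) :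
    centralizer {x} ≤ normalizer (R : Set G) := by
  have b := h.toB0
  rcases (h.memW x).1 hx with k | k
  · exact nt x k x1
  by_cases t1 : x * z = 1
  · exact (show z = x by rw [← b.cz x, t1, one_mul]) ▸ h.HN
  obtain ⟨t, rfl⟩ : ∃ t, x = z * t := ⟨z * x, (b.zc x).symm⟩
  rw [b.Jz (h.WJ hx), b.zc] at k t1
  obtain ⟨O, h1, h2, h3, h4⟩ := (h.d1 t k t1).core (mem_c.2 (b.Jz (h.WJ hx)).symm) h.z1 h.zz
  obtain ⟨s, hs, s1, n⟩ := h.kl.other t
  have I : H72.Inv2 z s := ⟨h.zz, h.kl.sq s hs, h.z1, s1, fun e => h.zR (e ▸ hs), (b.Rz hs).symm⟩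
  have := I.klein
  have := I.ea.1
  have k1 : ∀ w ∈ W, w ∈ normalizer (O : Set G) := fun w hw =>
    mem_normalizer_of_conj_mem (h3 w (mem_c.2 (h.cenW _ hx w (h.WJ hw))))
  have k2 : O ≤ normalizer (R : Set G) := H4.le_of_centralizer_singleton_le (A := H72.four z s)
    IsKleinFour.not_isCyclic (H72.four_le (k1 z b.zW) (k1 s (b.RW hs)))
    (by rw [I.card]; exact (Nat.coprime_two_left.2 h2).pow_left 2) fun c hc c1 => by
      rcases (I.mem_iff c).1 hc with rfl | rfl | rfl | rfl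
      · exact absurd rfl c1
      · exact inf_le_right.trans h.HN
      · exact inf_le_right.trans (nt c hs s1)
      · refine fun o ho => nt _ (mul_mem k hs) (h.kl.mul_ne hs n) (mem_c.2 ?_)
        have := (Commute.mul_right (mem_c.1 (h1 ho.1)) (mem_c.1 ho.2)).eq
        rwa [mul_assoc z, ← mul_assoc t, b.Rz k, mul_assoc z, b.zc] at this
  intro a ha
  obtain ⟨o, ho, c, hc, rfl⟩ := h4 a ha
  exact mul_mem (k2 ho) (h.HN (mem_c.2 hc))

theorem Bs.sy (h : Bs z R W J) (ht : t ∈ R) (t1 : t ≠ 1) {P : Subgroup G} (hP : IsPGroup 2 P)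
    (le : P ≤ normalizer (R : Set G)) : ∃ n ∈ normalizer (R : Set G), ∀ p ∈ P,
      p * (n * z * n⁻¹) = n * z * n⁻¹ * p ∧ p * (n * t * n⁻¹) = n * t * n⁻¹ * p := by
  have : Fact (Nat.Prime 2) := ⟨Nat.prime_two⟩
  obtain ⟨S, h1, h2, h3, -⟩ := h.syl ht t1
  obtain ⟨n, hn, k⟩ := (h3.mono (h2.trans (inf_le_left.trans h.HN)) le_top).exists_conj_le le hP
  refine ⟨n⁻¹, inv_mem hn, fun p hp => ?_⟩
  have := h2 (k (conj_mem_cj n hp))
  exact ⟨by simpa [mul_assoc] using comm_conj (mem_c.1 this.1) n⁻¹,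
    by simpa [mul_assoc] using comm_conj (mem_c.1 this.2) n⁻¹⟩

theorem two_of_sq {P : Subgroup G} (h : ∀ x ∈ P, x * x = 1) : IsPGroup 2 P := fun x =>
  ⟨1, Subtype.ext (by simpa [pow_two] using h x x.2)⟩

section two

variable (h : Cf z R W J) (h' : Cf z' R' W' J') (p : Cp z R z' R') (nt : NT R) (nt' : NT R')
include h h' p nt nt'

omit nt in
theorem stepA (hx : x ∈ R) (hx' : x ∈ R') (x1 : x ≠ 1) : R' ≤ R := fun y hy => by
  have b := h.toB0
  by_cases y1 : y = 1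
  · exact y1 ▸ one_mem R
  by_cases n : y = x
  · exact n ▸ hx
  have k : ∀ a, a * x = x * a → a * y * a⁻¹ = y ∨ a * y * a⁻¹ = x * y := fun a e =>
    h'.kl.swap hx' x1 hy y1 n (nt'.conj hx' x1 e y hy) e
  have c : y * z = z * y := by
    rcases k z (b.Rz hx).symm with e | e
    · exact (mul_inv_eq_iff_eq_mul.1 e).symm
    · refine absurd (h.fusZ (mul_mem (b.RW hx) b.zW) (isConj_iff.2 ⟨y⁻¹, ?_⟩)) (by simpa using x1)
      calc _ = y⁻¹ * (z * y * z⁻¹) * z := by group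
        _ = x * z := by rw [e, h'.kl.comm hx' hy]; group
  refine p.fr h.toBs hy (h.f8 hx x1 c (h'.kl.comm hy hx') fun a _ a2 => ?_)
  rcases k a (a2 x hx) with e | e <;> rw [e]
  · simp
  · simpa using b.RW hx

omit p in
theorem stepB1 (hx : x ∈ R') (x1 : x ≠ 1) (e : x ∈ normalizer (R : Set G)) :
    R' ≤ normalizer (R : Set G) := fun v hv => by
  have b := h.toB0
  obtain ⟨t, ht, t1, -⟩ := h.kl.other 1
  obtain ⟨n, hn, k⟩ := h.sy ht t1 (P := zpowers x) (two_of_sq fun y hy => h'.kl.sq y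
    (zpowers_le.2 hx hy)) (zpowers_le.2 e)
  obtain ⟨k1, k2⟩ := k x (mem_zpowers x)
  have k3 : ∀ w ∈ W, w ≠ 1 → n * w * n⁻¹ * v = v * (n * w * n⁻¹) → v ∈ normalizer (R : Set G) :=
    fun w hw w1 e => (mul_mem_cancel_left (inv_mem hn)).1 ((mul_mem_cancel_right hn).1
      (h.nw nt hw w1 (mem_c.2 (comm_back e.symm))))
  rcases h'.kl.ker2 hx x1 (nt'.conj hx x1 k1.symm) (nt'.conj hx x1 k2.symm) k1.symm k2.symm with
    e | e | e
  exacts [k3 z b.zW h.z1 (e v hv), k3 t (b.RW ht) t1 (e v hv), k3 _ (mul_mem b.zW (b.RW ht))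
    (fun e => h.zR (by rw [eq_inv_of_mul_eq_one_left e]; exact inv_mem ht))
    (by rw [← conj_mul]; exact e v hv)]

omit nt in
theorem stepB2 (i : ∀ x ∈ R', x ∈ R → x = 1) (l1 : R' ≤ normalizer (R : Set G))
    (l2 : R ≤ normalizer (R' : Set G)) : False := by
  have c3 : ∀ v ∈ R', ∀ u ∈ R, v * u = u * v := fun v hv u hu => comm_of_norm i hu hv
    (conj_mem_of_mem_normalizer (l1 hv) hu) (conj_mem_of_mem_normalizer (l2 hu) (inv_mem hv))
  obtain ⟨t, ht, t1, -⟩ := h.kl.other 1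
  obtain ⟨u, hu, u1, -⟩ := h'.kl.other 1
  obtain ⟨n, hn, k⟩ := h.sy ht t1 (two_of_sq h'.kl.sq) l1
  have h1 := h.cj n
  have p1 : Cp z R (n * z * n⁻¹) R := ⟨n, rfl, (cj_eq_iff.2 hn).symm⟩
  rw [cj_eq_iff.2 hn] at h1
  have b := h1.toB0
  obtain ⟨m, hm, k'⟩ := h'.sy hu u1 (two_of_sq fun _ => b.sqW) fun w hw => nt' u hu u1
    (mem_c.2 (b.cW (k u hu).1 (c3 u hu) hw).symm)
  have h2 := h'.cj m
  have p2 : Cp z' R' (m * z' * m⁻¹) R' := ⟨m, rfl, (cj_eq_iff.2 hm).symm⟩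
  rw [cj_eq_iff.2 hm] at h2
  have q := (p1.symm.trans p).trans p2
  exact pairD h1 h2 q (fun e => u1 (i u hu ((e ▸ q).eq h1.toBs ▸ hu))) (k' _ b.zW).1.symm
    (fun v hv => (k' v (b.RW hv)).1) (fun v hv => (k v hv).1) c3 i
    fun x hx x1 y _ => nt'.conj hx x1

theorem stepB (hx : x ∈ R') (e : x ∈ normalizer (R : Set G)) : x ∈ R := by
  by_contra n
  have x1 : x ≠ 1 := fun e => n (e ▸ one_mem R)
  have k := fun v (hv : v ∈ R) => conj_mem_of_mem_normalizer e hv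
  obtain ⟨t, ht, t1, c, -⟩ := h.kl.fix2 k k (h'.kl.sq x hx) (h'.kl.sq x hx) rfl
  exact stepB2 h h' p nt' (fun y hy' hy => by_contra fun y1 => n (stepA h h' p nt' hy hy' y1 hx))
    (stepB1 h h' nt nt' hx x1 e) (stepB1 h' h nt' nt ht t1 (nt' x hx x1 (mem_c.2 c.symm)))

end two

theorem Cf.key (h : Cf z R W J) (nt : NT R) (hx : x ∈ R) {y : G} (e : IsConj x y)
    (hy : y ∈ normalizer (R : Set G)) : y ∈ R := by
  obtain ⟨g, rfl⟩ := isConj_iff.1 e
  exact stepB h (h.cj g) ⟨g, rfl, rfl⟩ nt (nt.cj g) (conj_mem_cj g hx) hy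

theorem Cf.normal (h : Cf z R W J) (nt : NT R) : R.Normal := ⟨fun v hv g => by
  have b := h.toB0
  by_cases v1 : v = 1
  · simp [v1]
  have h' := h.cj g
  have nt' := nt.cj g
  have hx := conj_mem_cj g hv
  have e : IsConj v (g * v * g⁻¹) := isConj_iff.2 ⟨g, rfl⟩
  have x1 : g * v * g⁻¹ ≠ 1 := mt conj_eq_one_iff.1 v1
  generalize g * v * g⁻¹ = x at *
  obtain ⟨u, u1, uu, c1, c2, -, k, hk, e1 | e1⟩ := exists_central_invol (h'.kl.sq x hx) h.zz
    fun e' => h.zR (h.fusZ (b.RW hv) (e.trans e').symm ▸ hv)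
  · have k1 := (mul_mem_cancel_right hx).1 (h'.key nt' hx (isConj_iff.2 ⟨k, e1.symm⟩)
      (nt' x hx x1 (mem_c.2 (comm_mul c1 rfl))))
    exact stepA h h' ⟨g, rfl, rfl⟩ nt' (stepB h h' ⟨g, rfl, rfl⟩ nt nt' k1 (h.HN (mem_c.2 c2)))
      k1 u1 hx
  · have c : k * u = u * k := mem_c.1 ((closure_le (centralizer {u})).2 (by
      rintro _ (rfl | rfl); exacts [mem_c.2 c1.symm, mem_c.2 c2.symm]) hk)
    have k1 := h.key nt hv (y := u * z) (e.trans (isConj_iff.2 ⟨k⁻¹, by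
      calc _ = k⁻¹ * (u * (u * x)) * k⁻¹⁻¹ := by rw [← mul_assoc u, uu, one_mul]
        _ = k⁻¹ * (u * k) * z := by rw [e1]; group
        _ = _ := by rw [← c, inv_mul_cancel_left]⟩)) (h.HN (mem_c.2 (comm_mul c2 rfl)))
    exact h.key nt hv e (h.nw nt ((h.memW u).2 (Or.inr k1)) u1 (mem_c.2 c1.symm))⟩

theorem Sec.exists_aut {Y : Type*} [Group Y] {f : G → Y} {X N : Subgroup G} (h : Sec X N f)
    [hX : X.Normal] [hN : N.Normal] :
    ∃ ψ : G →* MulAut Y, ∀ g, ∀ a ∈ X, ψ g (f a) = f (g * a * g⁻¹) := by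
  choose σ s1 s2 using h.surj
  have e : ∀ g, ∀ a ∈ X, f (g * σ (f a) * g⁻¹) = f (g * a * g⁻¹) := fun g a ha =>
    (h.eq_iff (hX.conj_mem _ (s1 _) g) (hX.conj_mem _ ha g)).2 (by
      convert hN.conj_mem _ ((h.eq_iff (s1 _) ha).1 (s2 _)) g using 1; group)
  have m : ∀ g k y, f (g * σ (f (k * σ y * k⁻¹)) * g⁻¹) = f (g * k * σ y * (g * k)⁻¹) :=
    fun g k y => by rw [e g _ (hX.conj_mem _ (s1 _) k)]; congr 1; group
  refine ⟨MonoidHom.mk' (fun g => ⟨⟨fun y => f (g * σ y * g⁻¹), fun y => f (g⁻¹ * σ y * g⁻¹⁻¹),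
    fun y => by simp only [m]; simp [s2], fun y => by simp only [m]; simp [s2]⟩, fun x y => ?_⟩)
    fun g k => MulEquiv.ext fun y => (m g k y).symm, e⟩
  change f (g * σ (x * y) * g⁻¹) = f (g * σ x * g⁻¹) * f (g * σ y * g⁻¹)
  rw [← h.mul (hX.conj_mem _ (s1 _) g) (hX.conj_mem _ (s1 _) g), conj_mul,
    ← e g _ (mul_mem (s1 x) (s1 y)), h.mul (s1 x) (s1 y), s2, s2]

theorem Bs.aut (h : Bs z R W J) [hR : R.Normal] (ht : t ∈ R) (t1 : t ≠ 1) (hs : s ∈ R) (s1 : s ≠ 1)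
    (n : s ≠ t) {T : Subgroup G} {f : G → PSU 6 K4 2} (k : U2 t s T R f) :
    Nonempty ((G ⧸ R) ≃* MulAut (PSU 6 K4 2)) := by
  have b := h.toB0
  have mT : ∀ {a}, a ∈ T ↔ ∀ v ∈ R, a * v = v * a := by
    obtain ⟨a, -, a2, a3⟩ := h.swap ht t1 hs s1 n
    have k1 := two_mul_card_le (A := centralizer {t} ⊓ centralizer {s}) inf_le_left (mem_c.2 a2)
      fun e => t1 (by simpa [mem_c.1 e.2] using a3)
    rw [eq_of_le_of_card_ge k.le (by rw [k.card] at k1; omega)]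
    exact fun {_} => ⟨fun e => h.kl.cen ht t1 hs s1 n (mem_c.1 e.1) (mem_c.1 e.2),
      fun e => ⟨mem_c.2 (e t ht), mem_c.2 (e s hs)⟩⟩
  have : T.Normal := ⟨fun a ha g => mT.2 fun v hv => by
    simpa [mul_assoc] using comm_conj (mT.1 ha _ (hR.conj_mem' v hv g)) g⟩
  obtain ⟨ψ, hψ⟩ := k.sec.exists_aut
  have JT : J ≤ T := fun q hq => mT.2 fun v => b.JR hq
  have ker : ψ.ker = R := by
    refine le_antisymm (fun g hg => ?_) fun g hg => MulEquiv.ext fun y => ?_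
    · have c : ∀ a ∈ T, g * a * g⁻¹ * a⁻¹ ∈ R := fun a ha =>
        (k.sec.eq_iff (this.conj_mem a ha g) ha).1 (by rw [← hψ g a ha, hg]; rfl)
      have gz : g * z = z * g := mul_inv_eq_iff_eq_mul.1 (h.fusZ ((mul_mem_cancel_right
        (inv_mem b.zW)).1 (b.RW (c z (JT b.zJ)))) (isConj_iff.2 ⟨g, rfl⟩))
      have gJ := h.cM g gz fun q hq => b.RW (c q (JT hq))
      refine ((h.memW g).1 (h.f8 ht t1 gz (b.JR gJ ht) fun a _ a2 => by
        simpa [mul_assoc] using inv_mem (b.RW (c a (mT.2 a2))))).resolve_right fun e => ?_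
      have e1 : f g = f z := (k.sec.eq_iff (JT gJ) (JT b.zJ)).2 (by rwa [b.iz])
      have e2 : f z ∈ center _ := mem_center_iff.2 fun y => by
        obtain ⟨a, ha, rfl⟩ := k.sec.surj y
        exact e1 ▸ ((k.sec.comm_iff (JT gJ) ha).2 (c a ha)).symm
      have := simple_U6
      rcases (inferInstance : (center (PSU 6 K4 2)).Normal).eq_bot_or_eq_top with e3 | e3
      · exact h.zR ((k.sec.ker (JT b.zJ)).1 (mem_bot.1 (e3 ▸ e2)))
      · obtain ⟨p, hp, q, hq, c⟩ := h.nonab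
        have := (k.sec.comm_iff (JT hp) (JT hq)).1 (mem_center_iff.1 (e3 ▸ mem_top (f q)) (f p))
        rw [(b.conjJ hp hq).resolve_left (mt mul_inv_eq_iff_eq_mul.1 c), b.Jz hq,
          mul_inv_cancel_right] at this
        exact h.zR this
    · obtain ⟨a, ha, rfl⟩ := k.sec.surj y
      rw [hψ g a ha, ← mT.1 ha g hg, mul_inv_cancel_right]; rfl
  have c1 : 3 ≤ (centralizer {t}).index := by
    rw [← H58.ncard_conj_eq_index, ← Set.ncard_eq_three.2 ⟨t, s, t * s, n.symm, by simpa using s1,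
      by simpa using t1, rfl⟩]
    have k0 : ∀ s ∈ R, s ≠ 1 → IsConj t s := fun s hs s1 =>
      let ⟨a, _, e⟩ := h.tr t ht t1 s hs s1; isConj_iff.2 ⟨a, e⟩
    refine Set.ncard_le_ncard ?_
    rintro _ (rfl | rfl | rfl)
    exacts [IsConj.refl _, k0 _ hs s1, k0 _ (mul_mem ht hs) (h.kl.mul_ne hs n)]
  have c2 := card_mul_index (centralizer ({t} : Set G))
  have c3 := card_eq_card_quotient_mul_card_subgroup R
  have c4 := S0815.result (F := K4) 2 1 le_rfl (q := 2) rfl card_K4 6 (by norm_num) (by norm_num)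
  rw [k.card, ← k.sec.card, card_psu6, h.kl.card] at c2
  rw [h.kl.card] at c3
  rw [card_psu6] at c4
  exact ⟨MulEquiv.ofBijective ((QuotientGroup.kerLift ψ).comp
    (QuotientGroup.quotientMulEquivOfEq ker.symm).toMonoidHom)
    (((QuotientGroup.kerLift_injective ψ).comp (MulEquiv.injective _)).bijective_of_nat_card_le
      (by rw [c4]; norm_num; omega))⟩

theorem Bs.main (h : Bs z R W J) : centralizer {z} ⊔ oddCore G = ⊤ ∨ Spor.IsoFi23 G ∨
    ∃ _ : R.Normal, Nonempty ((G ⧸ R) ≃* MulAut (PSU 6 K4 2)) := by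
  refine or_left_comm.1 (or_iff_not_imp_left.2 fun n23 => ?_)
  have c : Cf z R W J := ⟨h, fun t ht t1 => let ⟨_, hs, s1, n⟩ := h.kl.other t
    (h.outD ht t1 hs s1 n).resolve_right n23⟩
  obtain ⟨t, ht, t1, -⟩ := h.kl.other 1
  obtain ⟨s, hs, s1, n⟩ := h.kl.other t
  refine (h.outT ht t1 hs s1 n (c.d1 s hs s1)).imp (fun k => ?_) fun ⟨T, f, k⟩ => ?_
  · have k1 : ∀ u ∈ R, u ≠ 1 → Isl z (centralizer {u}) := fun u hu u1 => by
      obtain ⟨a, a1, rfl⟩ := h.tr t ht t1 u hu u1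
      have := k.cj a
      rwa [cj_centralizer_singleton, a1, mul_inv_cancel_right] at this
    refine H81.cent_sup_core_of_isolated ⟨orderOf_two_iff.2 ⟨h.z1, h.zz⟩, fun g e =>
      isol c (c.cj g) ⟨g, rfl, rfl⟩ k1 ?_ e.symm⟩
    rintro _ ⟨u, hu, rfl⟩ u1
    have := (k1 u hu fun e => u1 (by simp [e])).cj g
    rwa [cj_centralizer_singleton] at this
  · have k1 : centralizer {t} ≤ normalizer (R : Set G) := fun g hg =>
      mem_normalizer_of_conj_mem fun v hv => by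
        have e1 : g * t * g⁻¹ ∈ R := by rwa [mem_c.1 hg, mul_inv_cancel_right]
        have e2 : g * s * g⁻¹ ∈ R := (k.nw g (mem_c.1 hg)).elim (fun e => e.symm ▸ hs)
          fun e => e.symm ▸ mul_mem ht hs
        rcases h.kl.elems ht t1 hs s1 n hv with rfl | rfl | rfl | rfl
        exacts [by simp, e1, e2, by rw [← conj_mul]; exact mul_mem e1 e2]
    have := c.normal fun u hu u1 g hg => by
      obtain ⟨a, a1, rfl⟩ := h.tr t ht t1 u hu u1
      have a2 := h.HN (mem_c.2 a1)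
      exact (mul_mem_cancel_left (inv_mem a2)).1 ((mul_mem_cancel_right a2).1
        (k1 (mem_c.2 (comm_back (mem_c.1 hg)))))
    exact ⟨this, h.aut ht t1 hs s1 n k⟩

end Cfsg.Agent.H60.Q3
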