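import Cfsg.Agent.H96.VbDefs

/-! Commutator formulas in `U T`. -/

set_option autoImplicit false
set_option linter.unusedSimpArgs false
set_option linter.unnecessarySeqFocus false

namespace Cfsg.Agent.H60.VB

open Cfsg.Agent.H39 Cfsg.Agent.H15.O8 Cfsg.Agent.H96.VB Subgroup
open scoped commutatorElement

universe u

theorem flip {G : Type*} [Group G] {X : Subgroup G} {g x : G} (h : ⁅g, x⁆ ∈ X) : ⁅x, g⁆ ∈ X :=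
  commutatorElement_inv g x ▸ inv_mem h

variable {K : Type u} [Field K] {T : Tits K}

theorem u7 (g x : U T) : ⁅g, x⁆ ∈ Z7 T := by
  rw [mem_Z7]; o8s; constructor <;> o8ring T

theorem u6 (g : U T) {x : U T} (h : x ∈ Z7 T) : ⁅g, x⁆ ∈ J0 T := by
  obtain ⟨h1, h2⟩ := h
  rw [mem_J0]; o8s; simp only [h1, h2]; refine ⟨?_, ?_, ?_, ?_⟩ <;> o8ring T

theorem u5 (g : U T) {x : U T} (h : x ∈ J0 T) : ⁅g, x⁆ ∈ Z5 T := by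
  obtain ⟨h1, h2, h3, h4⟩ := mem_J0.1 h
  rw [mem_Z5]; o8s; simp only [h1, h2, h3, h4]; refine ⟨?_, ?_, ?_, ?_, ?_, ?_⟩ <;> o8ring T

theorem u4 (g : U T) {x : U T} (h : x ∈ Z5 T) : ⁅g, x⁆ ∈ Z4 T := by
  obtain ⟨h1, h2, h3, h4, h5, h6⟩ := h
  rw [mem_Z4]; o8s; simp only [h1, h2, h3, h4, h5, h6]
  refine ⟨?_, ?_, ?_, ?_, ?_, ?_, ?_, ?_⟩ <;> o8ring T

theorem u3 (g : U T) {x : U T} (h : x ∈ Z4 T) : ⁅g, x⁆ ∈ R T := by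
  obtain ⟨h1, h2, h3, h4, h5, h6, h7, h8⟩ := mem_Z4.1 h
  o8s; simp only [h1, h2, h3, h4, h5, h6, h7, h8]
  refine ⟨?_, ?_, ?_, ?_, ?_, ?_, ?_, ?_, ?_⟩ <;> o8ring T

theorem commR (g : U T) {x : U T} (h : x ∈ R T) :
    ⁅x, g⁆ = x4 T (x.a5 * g.b2 + x.a6 * g.a1 + x.a5 * g.a1 * g.b8) * x6 T (x.a5 * g.b8) := by
  obtain ⟨h1, h2, h3, h4, h5, h6, h7, h8, h9⟩ := h
  rw [commutatorElement_def, mul_inv_eq_iff_eq_mul, mul_inv_eq_iff_eq_mul, mul_assoc _ g]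
  ext <;> o8s <;> (try simp only [h1, h2, h3, h4, h5, h6, h7, h8, h9]) <;> o8ring T

theorem u2 (g : U T) {x : U T} (h : x ∈ R T) : ⁅g, x⁆ ∈ W T := flip (by rw [commR g h]; o8s)

theorem u1 (g : U T) {x : U T} (h : x ∈ W T) : ⁅g, x⁆ ∈ Z T := flip ((z2 x).1 h g)

theorem u0 (g : U T) {x : U T} (h : x ∈ Z T) : ⁅g, x⁆ = 1 :=
  commutatorElement_eq_one_iff_mul_comm.2 (cZ x h g)

theorem comm_b6 {g p : U T} (hg : g.b8 = 0) (hp : p.b8 = 0) :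
    ⁅g, p⁆.b6 = g.a1 * p.a8 + g.a8 * p.a1 := by
  o8s; simp only [hg, hp]; o8ring T

theorem commY {g p : U T} (hg : g ∈ Y T) (hp : p.b8 = 0) :
    ⁅g, p⁆.a2 = 0 ∧ ⁅g, p⁆.a3 = g.a7 * T.θ p.a1 := by
  obtain ⟨h1, h2, h3, h4, h5, h6, h7⟩ := hg
  o8s; simp only [h1, h2, h3, h4, h5, h6, h7, hp]; constructor <;> o8ring T

theorem commV {g p : U T} (hg : g ∈ V T) (hp : p.b8 = 0) :
    ⁅g, p⁆ = x4 T (g.a2 * p.a7 + g.a3 * p.b6 + g.a5 * p.b2 + g.a6 * p.a1 + T.θ g.a2 * p.a8 +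
      g.a2 * p.a8 * p.b2 + g.a3 * p.a1 * p.a8 + g.a2 * p.a1 * T.θ p.a8) * x5 T (g.a2 * p.a8) *
      x6 T (g.a3 * p.a8 + g.a2 * T.θ p.a8) := by
  obtain ⟨h1, h2, h3, h4, h5, h6, h7⟩ := hg
  rw [commutatorElement_def, mul_inv_eq_iff_eq_mul, mul_inv_eq_iff_eq_mul, mul_assoc _ p]
  ext <;> o8s <;> (try simp only [h1, h2, h3, h4, h5, h6, h7, hp]) <;> o8ring T

theorem commJ0 {g p : U T} (hg : g ∈ J0 T) (hp : p.b8 = 0) : ⁅g, p⁆ ∈ V T := by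
  obtain ⟨h1, h2, h3, h4⟩ := mem_J0.1 hg
  o8s; simp only [h1, h2, h3, h4, hp]; refine ⟨?_, ?_, ?_, ?_, ?_, ?_, ?_⟩ <;> o8ring T

theorem commYJ {g p : U T} (hg : g ∈ Y T) (hp : p ∈ J0 T) :
    ⁅g, p⁆ = x4 T (g.a3 * p.b6 + g.a7 * p.a2) * x6 T (g.a7 * p.b4) := by
  obtain ⟨h1, h2, h3, h4, h5, h6, h7⟩ := hg
  obtain ⟨k1, k2, k3, k4⟩ := mem_J0.1 hp
  rw [commutatorElement_def, mul_inv_eq_iff_eq_mul, mul_inv_eq_iff_eq_mul, mul_assoc _ p]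
  ext <;> o8s <;> (try simp only [h1, h2, h3, h4, h5, h6, h7, k1, k2, k3, k4]) <;> o8ring T

theorem W_le {H : Subgroup (U T)} (h4 : ∀ t, x4 T t ∈ H) (h6 : ∀ t, x6 T t ∈ H) : W T ≤ H := by
  rintro g ⟨h1, h2, h3, h4', h5, h6', h7, h8, h9, h10⟩
  rw [show g = x4 T g.a4 * x6 T g.a6 by ext <;> o8s <;> assumption]
  exact mul_mem (h4 _) (h6 _)

theorem Z_le {H : Subgroup (U T)} (h4 : ∀ t, x4 T t ∈ H) : Z T ≤ H := by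
  rintro g ⟨h1, h2, h3, h4', h5, h6', h7, h8, h9, h10, h11⟩
  rw [show g = x4 T g.a4 by ext <;> o8s <;> assumption]
  exact h4 _

theorem R_le {H : Subgroup (U T)} (h4 : ∀ t, x4 T t ∈ H) (h5 : ∀ t, x5 T t ∈ H)
    (h6 : ∀ t, x6 T t ∈ H) : R T ≤ H := by
  rintro g ⟨h1, h2, h3, h4', h5', h6', h7, h8, h9⟩
  rw [show g = x4 T g.a4 * x5 T g.a5 * x6 T g.a6 by ext <;> o8s <;> assumption]
  exact mul_mem (mul_mem (h4 _) (h5 _)) (h6 _)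

end Cfsg.Agent.H60.VB
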