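import Cfsg.Agent.H60.VbK

/-! A critical subgroup with `b8 = 0` lies in `Q` or in `E`. -/

set_option autoImplicit false
set_option linter.unusedSimpArgs false
set_option linter.unnecessarySeqFocus false

namespace Cfsg.Agent.H60.VB

open Cfsg.Agent.H39 Cfsg.Agent.H15.O8 Cfsg.Agent.H96.VB Subgroup
open scoped commutatorElement

universe u

/-- the elements of `P` whose commutators with `P` lie in `Ω₁(Z(P))` -/
def cz {G : Type u} [Group G] (P : Subgroup G) : Subgroup G where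
  carrier := {g | g ∈ P ∧ ∀ p ∈ P, ⁅g, p⁆ ∈ z0 P}
  one_mem' := ⟨one_mem _, fun _ _ => by simp⟩
  mul_mem' := fun {g k} h1 h2 => ⟨mul_mem h1.1 h2.1, fun p hp => by
    rw [show ⁅g * k, p⁆ = g * ⁅k, p⁆ * g⁻¹ * ⁅g, p⁆ by group, ← (h2.2 p hp).2.2 g h1.1,
      mul_inv_cancel_right]
    exact mul_mem (h2.2 p hp) (h1.2 p hp)⟩
  inv_mem' := fun {g} h => ⟨inv_mem h.1, fun p hp => by
    rw [show ⁅g⁻¹, p⁆ = g⁻¹ * (⁅g, p⁆⁻¹ * g) by group, (inv_mem (h.2 p hp)).2.2 g h.1,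
      inv_mul_cancel_left]
    exact inv_mem (h.2 p hp)⟩

variable {K : Type u} [Field K] {T : Tits K}

theorem commVV {g x : U T} (hg : g ∈ V T) (hx : x ∈ V T) : ⁅g, x⁆ = 1 := by
  obtain ⟨h1, h2, h3, h4, h5, h6, h7⟩ := hx
  rw [commV hg h6]; simp only [h1, h2, h4, h5, h7]; o8s

theorem R_V : R T ≤ V T := fun _ h => by o8s at h ⊢; tauto
theorem Z_R : Z T ≤ R T := fun _ h => by o8s at h ⊢; tauto
theorem V_J0 : V T ≤ J0 T := fun _ h => mem_J0.2 (by o8s at h; tauto)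
theorem Y_J0 : Y T ≤ J0 T := fun _ h => mem_J0.2 (by o8s at h; tauto)

theorem invJ0 {g : U T} (h : g ∈ J0 T) (h2 : g * g = 1) : g ∈ V T ∨ g ∈ Y T :=
  invQ g (mem_J0.1 h).1 (mem_inf.1 h).2 h2

/-- the last steps: `Z₅, Z₄, Y, W` are characteristic as soon as `J₀` and `V` are -/
theorem ch_low {P : Subgroup (U T)} (cJ : Ch P (J0 T)) (cV : Ch P (V T)) :
    Ch P (Z5 T) ∧ Ch P (Y T) ∧ Ch P (W T) := by
  have cY : Ch P (Y T) := Ch.of_gen ((IvS.inv.inter cJ.ivs).inter cV.ivs.compl)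
    (fun g _ e => (invJ0 e.1.2 e.1.1).resolve_left e.2) fun H e g hg => by
      have k : ∀ g ∈ Y T, g.a7 ≠ 0 → g ∈ H := fun g hg h7 =>
        e g (cJ.le (Y_J0 hg)) ⟨⟨sqY g hg, Y_J0 hg⟩, fun v => h7 v.2.2.2.2.1⟩
      by_cases h7 : g.a7 = 0
      · have h1 : x7 T 1 ∈ Y T := by o8s
        refine (mul_mem_cancel_right (k _ h1 one_ne_zero)).1 (k _ (mul_mem hg h1) ?_)
        o8s; rw [h7, add_zero]; exact one_ne_zero
      · exact k g hg h7
  refine ⟨?_, cY, ?_⟩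
  · rw [show Z5 T = V T ⊔ Y T from le_antisymm (fun g ⟨h1, h2, h3, h4, h5, h6⟩ => ?_)
      (sup_le (fun _ h => mem_Z5.2 (by o8s at h; tauto)) fun _ h => mem_Z5.2 (by o8s at h; tauto))]
    · exact cV.sup cY
    · refine (mul_mem_cancel_right (mem_sup_right (show x7 T g.a7 ∈ Y T by o8s))).1
        (mem_sup_left ?_)
      o8s; simp only [h1, h2, h3, h4, h5, h6]; o8ring T
  · rw [show W T = ⁅Y T, J0 T⁆ from le_antisymm (W_le (fun t => ?_) fun t => ?_)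
      (commutator_le.2 fun g hg p hp => by rw [commYJ hg hp]; o8s)]
    · exact cY.commutator cJ
    · have := commutator_mem_commutator (show x7 T t ∈ Y T by o8s)
        (show x2 T 1 ∈ J0 T by rw [mem_J0]; o8s)
      rwa [show ⁅x7 T t, x2 T 1⁆ = x4 T t by o8s; o8ring T] at this
    · have := commutator_mem_commutator (show x7 T t ∈ Y T by o8s)
        (show y4 T 1 ∈ J0 T by rw [mem_J0]; o8s)
      rwa [show ⁅x7 T t, y4 T 1⁆ = x6 T t by o8s; o8ring T] at this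

theorem m1 : M1Stmt T := by
  intro P hP b8 h hh k hk ht ha
  have _o8 := T.charP
  have ht' := T.θ_ne_zero.2 ht
  have L : ∀ g ∈ P, g * g = 1 → (∀ p ∈ P, ⁅g, p⁆ ∈ V T) → g ∈ V T ∨ g ∈ Y T := fun g hg h2 e => by
    have e1 := (comm_b6 (b8 g hg) (b8 h hh)).symm.trans (e h hh).2.2.2.1
    have e2 := (comm_b6 (b8 g hg) (b8 k hk)).symm.trans (e k hk).2.2.2.1
    have e3 := congrArg U.b6 h2
    rw [U.mul_b6, b8 g hg, U.one_b6] at e3
    have e4 : g.a8 = 0 := by grind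
    exact invQ g (show g.a1 = 0 by grind) ⟨b8 g hg, e4⟩ h2
  have L' : ∀ g ∈ P, g * g = 1 → (∀ p ∈ P, ⁅g, p⁆ ∈ R T) → g ∈ V T := fun g hg h2 e =>
    (L g hg h2 fun p hp => R_V (e p hp)).elim id fun y => by
      have := (commY y (b8 h hh)).2.symm.trans (e h hh).2.2.2.1
      exact ⟨y.1, y.2.1, y.2.2.2.1, y.2.2.2.2.1, (mul_eq_zero.1 this).resolve_right ht',
        y.2.2.2.2.2⟩
  have Zz : Z T ≤ z0 P := fun z hz => hP.mem_z0 (sqV z (R_V (Z_R hz))) fun x _ => (cZ z hz x).symm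
  have c1 : ∀ {g p}, g ∈ z0 P → p ∈ P → ⁅g, p⁆ = 1 := fun hg hp =>
    commutatorElement_eq_one_iff_mul_comm.2 (hg.2.2 _ hp)
  have zR : z0 P ≤ R T := fun g hg => by
    have v := L' g hg.1 hg.2.1 fun p hp => c1 hg hp ▸ one_mem _
    have e := coords ((commV v (b8 k hk)).symm.trans (c1 hg hk))
    o8s at e v ⊢
    grind
  have RZ : ∀ {g p}, g ∈ R T → p ∈ P → ⁅g, p⁆ ∈ Z T := fun hg hp => by
    rw [commR _ hg, b8 _ hp]; o8s
  have VR : ∀ {g p}, g ∈ V T → p ∈ P → ⁅g, p⁆ ∈ R T := fun hg hp => by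
    rw [commV hg (b8 _ hp)]; o8s
  have RP : R T ≤ P := fun g hg => hP.chain [z0 P] (by simpa using ch_z0) g
    ⟨fun p hp => Zz (RZ hg hp), fun x hx => commVV (R_V hg) (R_V (zR hx))⟩
  have c2 : Ch P (V T ⊓ cz P) := Ch.of_iff (IvS.inv.inter ch_z0.ivs.commP) fun g =>
    ⟨fun e => ⟨e.2.1, sqV g e.1, e.2.2⟩, fun e =>
      ⟨L' g e.1 e.2.1 fun p hp => zR (e.2.2 p hp), e.1, e.2.2⟩⟩
  have R2 : R T ≤ V T ⊓ cz P := fun g hg => ⟨R_V hg, RP hg, fun p hp => Zz (RZ hg hp)⟩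
  have VP : V T ≤ P := fun g hg => hP.chain [V T ⊓ cz P] (by simpa using c2) g
    ⟨fun p hp => R2 (VR hg hp), fun x hx => commVV hg hx.1⟩
  have cV : Ch P (V T) := Ch.of_iff (IvS.inv.inter c2.ivs.commP) fun g =>
    ⟨fun e => ⟨VP e, sqV g e, fun p hp => R2 (VR e hp)⟩, fun e =>
      (L g e.1 e.2.1 fun p hp => (e.2.2 p hp).1).elim id fun y => by
        obtain ⟨e1, e2⟩ := commY y (b8 h hh)
        have e3 := (e.2.2 h hh).2.2 k hk
        have e4 := congrArg U.a4 ((commR h (zR e3)).symm.trans (c1 e3 hh))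
        rw [commV (e.2.2 h hh).1 (b8 k hk), e1, e2] at e4
        o8s at e4
        exact ⟨y.1, y.2.1, y.2.2.2.1, y.2.2.2.2.1, by grind, y.2.2.2.2.2⟩⟩
  have x4m : ∀ {X : Subgroup (U T)}, R T ≤ X → ∀ t, x4 T t ∈ ⁅X, P⁆ := fun hX t => by
    have e : x6 T (t / h.a1) ∈ R T := by o8s
    have := commutator_mem_commutator (hX e) hh
    rwa [commR _ e, show x4 T _ * _ = x4 T t by o8s; grind] at this
  have cR : Ch P (R T) := by
    have k6 : ∀ t, x6 T t ∈ ⁅V T, P⁆ := fun t => by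
      have e : x3 T (t / k.a8) ∈ V T := by o8s
      have := commutator_mem_commutator e hk
      rwa [commV e (b8 k hk), mul_assoc, mul_mem_cancel_left (x4m R_V _),
        show x5 T _ * _ = x6 T t by o8s; grind] at this
    rw [show R T = ⁅V T, P⁆ from le_antisymm (R_le (x4m R_V) (fun t => ?_) k6)
      (commutator_le.2 fun g hg p hp => VR hg hp)]
    · exact cV.commutator Ch.self
    · have e : x2 T (t / k.a8) ∈ V T := by o8s
      have := commutator_mem_commutator e hk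
      rwa [commV e (b8 k hk), mul_mem_cancel_right (k6 _), mul_mem_cancel_left (x4m R_V _),
        show (x2 T (t / k.a8)).a2 * k.a8 = t by o8s; grind] at this
  have cZ' : Ch P (Z T) := by
    rw [show Z T = ⁅R T, P⁆ from le_antisymm (Z_le (x4m le_rfl))
      (commutator_le.2 fun g hg p hp => RZ hg hp)]
    exact cR.commutator Ch.self
  have JV : ∀ {g v}, g ∈ J0 T → v ∈ V T → ⁅g, v⁆ ∈ Z T := fun hg hv => flip (by
    rw [commV hv (mem_J0.1 hg).2.2.1, (mem_J0.1 hg).2.2.2]; o8s)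
  have JP : J0 T ≤ P := fun g hg => hP.chain [V T, Z T] (by simp [cV, cZ']) g
    ⟨fun p hp => commJ0 hg (b8 p hp), fun x hx => JV hg hx, fun x hx => u0 g hx⟩
  have cJ : Ch P (J0 T) := Ch.of_iff ((IvS.one.comm cR.ivs).inter (cZ'.ivs.comm cV.ivs)) fun g =>
    ⟨fun e => ⟨JP e, fun x _ hx => by
      obtain ⟨h1, h2, h3, h4⟩ := mem_J0.1 e
      rw [Set.mem_singleton_iff, ← inv_eq_one, commutatorElement_inv, commR g hx, h1, h2, h3]
      o8s, fun x _ hx => JV e hx⟩, fun e => by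
      have r : ∀ x ∈ R T, x.a5 * g.b2 + x.a6 * g.a1 = 0 := fun x hx => by
        have := e.2.1 x (RP hx) hx
        rw [Set.mem_singleton_iff, ← inv_eq_one, commutatorElement_inv, commR g hx, b8 g e.1] at this
        have := congrArg U.a4 this
        o8s at this
        exact this
      have e1 := r (x5 T 1) (by o8s)
      have e2 := r (x6 T 1) (by o8s)
      have v : x2 T 1 ∈ V T := by o8s
      have e3 := flip (X := Z T) (e.2.2 _ (VP v) v)
      rw [commV v (b8 g e.1)] at e3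
      o8s at e1 e2 e3
      exact mem_J0.2 ⟨e2, e1, b8 g e.1, e3.1⟩⟩
  obtain ⟨c5, cY, cW'⟩ := ch_low cJ cV
  have c4 : Ch P (Z4 T) := cV.inf cY
  have st : ∀ g, St g (J0 T) [Z5 T, Z4 T, R T, W T, Z T] := fun g =>
    ⟨fun _ => u5 g, fun _ => u4 g, fun _ => u3 g, fun _ => u2 g, fun _ => u1 g, fun _ => u0 g⟩
  have P7 : Z7 T ≤ P := fun g hg => hP.chain [J0 T, Z5 T, Z4 T, R T, W T, Z T]
    (by simp [cJ, c5, c4, cR, cW', cZ']) g ⟨fun p _ => flip (u6 p hg), st g⟩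
  have c7 : Ch P (Z7 T) := by
    rw [show Z7 T = P ⊓ centralizer (W T) from le_antisymm
      (fun g hg => ⟨P7 hg, fun w hw => ((cW g).1 hg.1 w hw).symm⟩)
      fun g hg => ⟨(cW g).2 fun w hw => (hg.2 w hw).symm, b8 g hg.1⟩]
    exact cW'.cent
  exact hP.ne (eq_top_iff.2 fun g _ => hP.chain [Z7 T, J0 T, Z5 T, Z4 T, R T, W T, Z T]
    (by simp [c7, cJ, c5, c4, cR, cW', cZ']) g ⟨fun p _ => u7 g p, fun _ => u6 g, st g⟩)

end Cfsg.Agent.H60.VB
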